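import Cfsg.Agent.OddHalf.D6.QThree.NIB.Hyp
import Cfsg.Agent.OddHalf.D6.QThree.TwoFix

/-!
# ODD half, D6, `q = 3`: every component of `C_G(z)` contains `z` (helper948; text: helper577, bb #13013 (1))

`Pre`: part of `NIB.HypB`, and `Bnc`: two commuting reflections differ by an element of `⟨t, z⟩`.
`Pre.zM`: `z` lies in every component. `Pre.cj_t`: every component is invariant under `t`.
-/

set_option autoImplicit false

namespace Cfsg.Agent.OddHalf.D6.QThree.NIB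

open Subgroup Cfsg
open Cfsg.Agent.SignalizersComponents.Components
open Cfsg.Agent.Cit (cj mem_cj conj_mem_cj cj_mul cj_one)
open Cfsg.Agent.OddHalf.D6.QThree.NISide

universe u

variable {X : Type u} [Group X]

/-- the hypotheses for 577 (1) -/
structure Pre (z t a₁ a₂ : X) (Q₁ Q₂ : Subgroup X) : Prop where
  zc : ∀ x : X, x * z = z * x
  zz : z * z = 1
  z1 : z ≠ 1
  tt : t * t = 1
  t1 : t ≠ 1
  tz : t ≠ z
  O : pPrimeCore 2 X = ⊥
  sol : Group.IsSolvable (centralizer ({t} : Set X))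
  s₁ : Side z t a₁ Q₁ Q₂
  s₂ : Side z t a₂ Q₂ Q₁
  comm : ∀ x ∈ Q₁, ∀ y ∈ Q₂, x * y = y * x
  /-- `R` is normal in `C_X(t)` -/
  nor : ∀ g, g * t = t * g → ∀ x ∈ Q₁, ∀ y ∈ Q₂, ∃ x' ∈ Q₁, ∃ y' ∈ Q₂, g * (x * y) * g⁻¹ = x' * y'
  /-- normal 2-subgroups of `C_X(t)` lie in `R B` -/
  rad : ∀ N : Subgroup X, (∀ n ∈ N, n * t = t * n) → IsPGroup 2 N →
    (∀ g, g * t = t * g → ∀ n ∈ N, g * n * g⁻¹ ∈ N) →
    ∀ n ∈ N, ∃ x ∈ Q₁, ∃ y ∈ Q₂, ∃ b, Bt t Q₁ Q₂ b ∧ n = x * y * b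
  /-- the elements of odd order of `C_X(t)` centralise `B` -/
  odd : ∀ b, Bt t Q₁ Q₂ b → ∀ d, d * t = t * d → Odd (orderOf d) → b * d = d * b
  oa₁ : Odd (orderOf a₁)
  oa₂ : Odd (orderOf a₂)
  /-- (0): `B / ⟨t, z⟩` is elementary abelian -/
  Bsq : ∀ b, Bt t Q₁ Q₂ b → T4 z t (b * b)
  /-- (0): commuting reflections differ by an element of `⟨t, z⟩` -/
  Bnc : ∀ b c, Refl z t Q₁ Q₂ b → Refl z t Q₁ Q₂ c → b * c = c * b → T4 z t (b * c)
  /-- `t^s = t z` -/
  sw : ∃ s, s * t * s⁻¹ = t * z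

namespace Pre

variable {z t a₁ a₂ : X} {Q₁ Q₂ : Subgroup X}

theorem swap (h : Pre z t a₁ a₂ Q₁ Q₂) : Pre z t a₂ a₁ Q₂ Q₁ where
  zc := h.zc
  zz := h.zz
  z1 := h.z1
  tt := h.tt
  t1 := h.t1
  tz := h.tz
  O := h.O
  sol := h.sol
  s₁ := h.s₂
  s₂ := h.s₁
  comm := fun x hx y hy => (h.comm y hy x hx).symm
  nor := by
    intro g hg x hx y hy
    obtain ⟨x', hx', y', hy', e⟩ := h.nor g hg y hy x hx
    refine ⟨y', hy', x', hx', ?_⟩
    rw [← h.comm y hy x hx, e, h.comm x' hx' y' hy']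
  rad := by
    intro N h1 h2 h3 n hn
    obtain ⟨x, hx, y, hy, b, hb, e⟩ := h.rad N h1 h2 h3 n hn
    refine ⟨y, hy, x, hx, b, ⟨hb.1, hb.2.2, hb.2.1⟩, ?_⟩
    rwa [← h.comm x hx y hy]
  odd := fun b hb => h.odd b ⟨hb.1, hb.2.2, hb.2.1⟩
  oa₁ := h.oa₂
  oa₂ := h.oa₁
  Bsq := fun b hb => h.Bsq b ⟨hb.1, hb.2.2, hb.2.1⟩
  Bnc := fun b c hb hc => h.Bnc b c ⟨⟨hb.1.1, hb.1.2.2, hb.1.2.1⟩, hb.2⟩ ⟨⟨hc.1.1, hc.1.2.2, hc.1.2.1⟩, hc.2⟩
  sw := h.sw

/-- a quasisimple subgroup is not centralised by `t` -/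
theorem not_le [Finite X] (h : Pre z t a₁ a₂ Q₁ Q₂) {M : Subgroup X} (hM : IsQuasisimple M)
    (hMt : ∀ x ∈ M, x * t = t * x) : False := by
  apply quasisimple_not_isSolvable hM
  have h1 : M ≤ centralizer ({t} : Set X) := fun x hx => mem_centralizer_singleton_iff.2 (hMt x hx)
  have := h.sol
  exact Group.isSolvable_of_isSolvable_injective (f := inclusion h1) (inclusion_injective h1)

/-- `t` normalises every component -/
theorem cj_t [Finite X] (h : Pre z t a₁ a₂ Q₁ Q₂) {M : Subgroup X} (hM : IsComponent M) : cj t M = M := by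
  by_contra hne
  obtain ⟨D, hD1, -, -, hD3, -⟩ := Cfsg.Agent.Cit.Comp.exists_diag hM h.tt hne
  exact h.not_le hD3 fun x hx => mem_centralizer_singleton_iff.1 (hD1 hx)

/-- **Claim A**, weak form -/
theorem claim (h : Pre z t a₁ a₂ Q₁ Q₂) {M : Subgroup X} (hM : IsComponent M) (hzM : z ∉ M) {s x y b : X}
    (hs : s ∈ M) (hx : x ∈ Q₁) (hy : y ∈ Q₂) (hb : Bt t Q₁ Q₂ b) (hsx : s = x * y * b) : x = 1 ∨ x = z := by
  by_contra hcon
  push Not at hcon
  obtain ⟨hx1, hxz⟩ := hcon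
  apply hzM
  set x' := a₁ * x * a₁⁻¹ with hx'
  have hx'Q : x' ∈ Q₁ := h.s₁.aQ x hx
  have hxx' : x * x' ≠ x' * x := h.s₁.act x hx hx1 hxz
  have cxy : Commute x y := h.comm x hx y hy
  have cx'y : Commute x' y := h.comm x' hx'Q y hy
  have cbx : Commute b x := hb.2.1 x hx
  have cbx' : Commute b x' := hb.2.1 x' hx'Q
  have cby : Commute b y := hb.2.2 y hy
  have cay : Commute a₁ y := h.s₁.aD y hy
  have cab : Commute a₁ b := (h.odd b hb a₁ h.s₁.a_t h.oa₁).symm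
  -- `w = y b` commutes with `x`, `x'`, `a₁`
  set w := y * b with hw
  have cxw : Commute x w := cxy.mul_right cbx.symm
  have cx'w : Commute x' w := cx'y.mul_right cbx'.symm
  have caw : Commute a₁ w := cay.mul_right cab
  have es : s = x * w := by rw [hsx, mul_assoc]
  have e1 : a₁ * s * a₁⁻¹ = x' * w := by
    rw [es]
    calc a₁ * (x * w) * a₁⁻¹ = a₁ * x * (w * a₁⁻¹) := by group
      _ = a₁ * x * (a₁⁻¹ * w) := by rw [caw.symm.inv_right.eq]
      _ = x' * w := by rw [hx']; group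
  have hne : s * (a₁ * s * a₁⁻¹) ≠ (a₁ * s * a₁⁻¹) * s := by
    intro e
    apply hxx'
    rw [e1, es] at e
    have h1 : x * w * (x' * w) = x * x' * (w * w) := by
      calc x * w * (x' * w) = x * (w * x') * w := by group
        _ = x * (x' * w) * w := by rw [cx'w.eq]
        _ = x * x' * (w * w) := by group
    have h2 : x' * w * (x * w) = x' * x * (w * w) := by
      calc x' * w * (x * w) = x' * (w * x) * w := by group
        _ = x' * (x * w) * w := by rw [cxw.eq]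
        _ = x' * x * (w * w) := by group
    rw [h1, h2] at e
    exact mul_right_cancel e
  have hcj : cj a₁ M = M := by
    by_contra hcj
    exact hne (Cfsg.Agent.Cit.Comp.comm_of_ne hM (Cfsg.Agent.Cit.Comp.isComponent_cj hM a₁) (fun e => hcj e.symm)
      hs (conj_mem_cj hs))
  have hs' : a₁ * s * a₁⁻¹ ∈ M := by
    have := conj_mem_cj (g := a₁) hs
    rwa [hcj] at this
  have hp : s⁻¹ * (a₁ * s * a₁⁻¹) = x⁻¹ * x' := by
    rw [e1, es]
    have c : Commute (x⁻¹ * x') w := cxw.inv_left.mul_left cx'w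
    calc (x * w)⁻¹ * (x' * w) = w⁻¹ * ((x⁻¹ * x') * w) := by group
      _ = w⁻¹ * (w * (x⁻¹ * x')) := by rw [c.eq]
      _ = x⁻¹ * x' := by rw [inv_mul_cancel_left]
  have hpM : x⁻¹ * x' ∈ M := by rw [← hp]; exact M.mul_mem (M.inv_mem hs) hs'
  have hpM' : a₁ * (x⁻¹ * x') * a₁⁻¹ ∈ M := by
    have := conj_mem_cj (g := a₁) hpM
    rwa [hcj] at this
  refine h.s₁.gen h.zc h.zz h.z1 (Q₁.mul_mem (Q₁.inv_mem hx) hx'Q) ?_ ?_ hpM hpM' h.s₁.zQ
  · intro e
    apply hxx'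
    rw [inv_mul_eq_one] at e
    rw [← e]
  · intro e
    apply hxx'
    rw [inv_mul_eq_iff_eq_mul] at e
    rw [e, mul_assoc, h.zc x]

theorem R_pow (h : Pre z t a₁ a₂ Q₁ Q₂) {x y : X} (hx : x ∈ Q₁) (hy : y ∈ Q₂) : (x * y) ^ 4 = 1 := by
  have key : ∀ u : X, (u = 1 ∨ u = z) ∨ u * u = z → u ^ 4 = 1 := by
    rintro u ((rfl | rfl) | e)
    · rw [one_pow]
    · rw [show (4 : ℕ) = 2 * 2 from rfl, pow_mul, pow_two u, h.zz, one_pow]
    · rw [show (4 : ℕ) = 2 * 2 from rfl, pow_mul, pow_two u, e, pow_two, h.zz]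
  have hx4 : x ^ 4 = 1 := key x (by
    by_cases hh : x = 1 ∨ x = z
    · exact Or.inl hh
    · push Not at hh; exact Or.inr (h.s₁.sq x hx hh.1 hh.2))
  have hy4 : y ^ 4 = 1 := key y (by
    by_cases hh : y = 1 ∨ y = z
    · exact Or.inl hh
    · push Not at hh; exact Or.inr (h.s₂.sq y hy hh.1 hh.2))
  have cxy : Commute x y := h.comm x hx y hy
  rw [cxy.mul_pow, hx4, hy4, one_mul]

theorem T4_sq (h : Pre z t a₁ a₂ Q₁ Q₂) {u : X} (hu : T4 z t u) : u * u = 1 := by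
  have hct : Commute t z := h.zc t
  rcases hu with rfl | rfl | rfl | rfl
  · exact mul_one 1
  · exact h.zz
  · exact h.tt
  · calc t * z * (t * z) = t * (z * t) * z := by group
      _ = t * (t * z) * z := by rw [hct.eq]
      _ = (t * t) * (z * z) := by group
      _ = 1 := by rw [h.tt, h.zz, mul_one]

theorem B_pow (h : Pre z t a₁ a₂ Q₁ Q₂) {b : X} (hb : Bt t Q₁ Q₂ b) : b ^ 4 = 1 := by
  rw [show (4 : ℕ) = 2 * 2 from rfl, pow_mul, pow_two b, pow_two]
  exact h.T4_sq (h.Bsq b hb)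

/-- `O(C_X(t)) = 1` -/
theorem core_centralizer [Finite X] (h : Pre z t a₁ a₂ Q₁ Q₂) :
    pPrimeCore 2 ↥(centralizer ({t} : Set X)) = ⊥ := by
  set C := centralizer ({t} : Set X) with hC
  rw [eq_bot_iff]
  intro n hn
  have hcop := Cfsg.Agent.Lib.Cores.pPrimeCore_coprime (G := C) 2
  have hodd : ∀ m ∈ pPrimeCore 2 C, m ^ 4 = 1 → m = 1 := by
    intro m hm hm4
    have h1 : orderOf m ∣ 4 := orderOf_dvd_of_pow_eq_one hm4
    have h2 : orderOf m ∣ Nat.card (pPrimeCore 2 C) := by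
      rw [← Subgroup.orderOf_mk m hm]
      exact orderOf_dvd_natCard _
    have h3 : Nat.Coprime 4 (Nat.card (pPrimeCore 2 C)) := by
      rw [show (4 : ℕ) = 2 ^ 2 from rfl]
      exact (hcop.symm).pow_left 2
    have h4 := Nat.eq_one_of_dvd_coprimes h3 h1 h2
    rwa [orderOf_eq_one_iff] at h4
  have hnt : ∀ m : C, (m : X) * t = t * m := fun m => mem_centralizer_singleton_iff.1 m.2
  have hN := Cfsg.Agent.Lib.Cores.pPrimeCore_normal (G := C) 2
  have key : ∀ x ∈ Q₁, ∀ y ∈ Q₂, (n : X) * (x * y) = (x * y) * n := by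
    intro x hx y hy
    obtain ⟨x', hx', y', hy', e⟩ := h.nor n (hnt n) x hx y hy
    have hrC : x * y ∈ C := mem_centralizer_singleton_iff.2
      (show Commute (x * y) t from (show Commute x t from h.s₁.ct x hx).mul_left (h.s₂.ct y hy))
    set r : C := ⟨x * y, hrC⟩ with hr
    have h1 : n * r * n⁻¹ * r⁻¹ ∈ pPrimeCore 2 C := by
      have h2 : r * n⁻¹ * r⁻¹ ∈ pPrimeCore 2 C := hN.conj_mem _ (inv_mem hn) r
      have h3 := mul_mem hn h2
      have e3 : n * r * n⁻¹ * r⁻¹ = n * (r * n⁻¹ * r⁻¹) := by group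
      rw [e3]; exact h3
    have h2 : n * r * n⁻¹ * r⁻¹ = 1 := by
      apply hodd _ h1
      apply Subtype.ext
      show ((n : X) * (x * y) * (n : X)⁻¹ * (x * y)⁻¹) ^ 4 = 1
      rw [e]
      have e4 : x' * y' * (x * y)⁻¹ = (x' * x⁻¹) * (y' * y⁻¹) := by
        have c1 : Commute x⁻¹ y⁻¹ := (show Commute x y from h.comm x hx y hy).inv_inv
        have c2 : Commute x⁻¹ y' := (show Commute x y' from h.comm x hx y' hy').inv_left
        calc x' * y' * (x * y)⁻¹ = x' * y' * (y⁻¹ * x⁻¹) := by rw [mul_inv_rev]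
          _ = x' * y' * (x⁻¹ * y⁻¹) := by rw [c1.eq]
          _ = x' * (y' * x⁻¹) * y⁻¹ := by group
          _ = x' * (x⁻¹ * y') * y⁻¹ := by rw [c2.eq]
          _ = (x' * x⁻¹) * (y' * y⁻¹) := by group
      rw [e4]
      exact h.R_pow (Q₁.mul_mem hx' (Q₁.inv_mem hx)) (Q₂.mul_mem hy' (Q₂.inv_mem hy))
    have h3 : (n : X) * (x * y) * (n : X)⁻¹ * (x * y)⁻¹ = 1 := congrArg Subtype.val h2
    rwa [mul_inv_eq_one, mul_inv_eq_iff_eq_mul] at h3
  rw [mem_bot]
  apply hodd n hn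
  apply Subtype.ext
  show (n : X) ^ 4 = 1
  refine h.B_pow ⟨hnt n, fun x hx => ?_, fun y hy => ?_⟩
  · have := key x hx 1 Q₂.one_mem
    rwa [mul_one] at this
  · have := key 1 Q₁.one_mem y hy
    rwa [one_mul] at this

/-- `t`, `z`, `t z` do not lie in a component not containing `z` -/
theorem T4_eq_one [Finite X] (h : Pre z t a₁ a₂ Q₁ Q₂) {M : Subgroup X} (hM : IsComponent M) (hzM : z ∉ M) {u : X}
    (hu : u ∈ M) (h4 : T4 z t u) : u = 1 := by
  obtain ⟨s, hs⟩ := h.sw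
  have hsz : s * z * s⁻¹ = z := by rw [h.zc s]; group
  have hs2 : s * (t * z) * s⁻¹ = t := by
    calc s * (t * z) * s⁻¹ = (s * t * s⁻¹) * (s * z * s⁻¹) := by group
      _ = t := by rw [hs, hsz, mul_assoc, h.zz, mul_one]
  -- elements centralising `M`
  have key : ∀ v w : X, v ∈ M → w = s * v * s⁻¹ → v * w = z → (v = t ∨ w = t) → False := by
    intro v w hv hw hvw ht
    have hw' : w ∈ cj s M := by rw [hw]; exact conj_mem_cj hv
    by_cases hc : cj s M = M
    · rw [hc] at hw'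
      exact hzM (by rw [← hvw]; exact M.mul_mem hv hw')
    · have hMs := Cfsg.Agent.Cit.Comp.isComponent_cj hM s
      rcases ht with ht | ht
      · apply h.not_le hMs.2
        intro x hx
        rw [← ht]
        exact (Cfsg.Agent.Cit.Comp.comm_of_ne hM hMs (fun e => hc e.symm) hv hx).symm
      · apply h.not_le hM.2
        intro x hx
        rw [← ht]
        exact Cfsg.Agent.Cit.Comp.comm_of_ne hM hMs (fun e => hc e.symm) hx hw'
  rcases h4 with e | e | e | e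
  · exact e
  · exact absurd (e ▸ hu) hzM
  · exfalso
    refine key t (t * z) (e ▸ hu) hs.symm ?_ (Or.inl rfl)
    rw [← mul_assoc, h.tt, one_mul]
  · exfalso
    refine key (t * z) t (e ▸ hu) hs2.symm ?_ (Or.inr rfl)
    rw [mul_assoc, ← h.zc t, ← mul_assoc, h.tt, one_mul]

/-- **577 (1)**: every component contains `z` -/
theorem zM [Finite X] (h : Pre z t a₁ a₂ Q₁ Q₂) {M : Subgroup X} (hM : IsComponent M) : z ∈ M := by
  by_contra hzM
  have : Fact (Nat.Prime 2) := ⟨Nat.prime_two⟩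
  have hsol := h.sol
  set C := centralizer ({t} : Set X) with hC
  set S : Subgroup C := M.subgroupOf C with hS
  have hSn : S.IsSubnormal := hM.1.subgroupOf
  have hct : ∀ m : C, (m : X) * t = t * m := fun m => mem_centralizer_singleton_iff.1 m.2
  -- the core of `S` lies in `B`
  have hcore : ∀ s : S, s ∈ pCore 2 S → Bt t Q₁ Q₂ ((s : C) : X) := by
    intro s hs
    have e := Cfsg.Agent.SignalizersComponents.CompBasic.map_subtype_pCore_of_subnormal 2 hSn
    have h3 : (s : C) ∈ S ⊓ pCore 2 C := by rw [← e]; exact ⟨s, hs, rfl⟩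
    have hN := Cfsg.Agent.Lib.Cores.pCore_normal (G := C) 2
    obtain ⟨x, hx, y, hy, b, hb, hxy⟩ := h.rad ((pCore 2 C).map C.subtype) (by
        rintro _ ⟨n, -, rfl⟩; exact hct n) ((Cfsg.Agent.Lib.Cores.pCore_isPGroup 2).map _) (by
        rintro g hg _ ⟨n, hn, rfl⟩
        exact ⟨⟨g, mem_centralizer_singleton_iff.2 hg⟩ * n * ⟨g, mem_centralizer_singleton_iff.2 hg⟩⁻¹,
          hN.conj_mem n hn _, rfl⟩) ((s : C) : X) ⟨s, h3.2, rfl⟩
    have hsM : ((s : C) : X) ∈ M := mem_subgroupOf.1 s.2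
    have hx' := h.claim hM hzM hsM hx hy hb hxy
    have hy' := h.swap.claim hM hzM hsM hy hx ⟨hb.1, hb.2.2, hb.2.1⟩ (by rw [hxy, h.comm x hx y hy])
    have hmul : ∀ u v : X, Bt t Q₁ Q₂ u → Bt t Q₁ Q₂ v → Bt t Q₁ Q₂ (u * v) := by
      intro u v hu hv
      refine ⟨((show Commute u t from hu.1).mul_left (show Commute v t from hv.1)).eq, fun q hq => ?_,
        fun q hq => ?_⟩
      · exact ((show Commute u q from hu.2.1 q hq).mul_left (show Commute v q from hv.2.1 q hq)).eq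
      · exact ((show Commute u q from hu.2.2 q hq).mul_left (show Commute v q from hv.2.2 q hq)).eq
    have hzB : ∀ u : X, (u = 1 ∨ u = z) → Bt t Q₁ Q₂ u := by
      rintro u (rfl | rfl)
      · exact ⟨by rw [one_mul, mul_one], fun q _ => by rw [one_mul, mul_one], fun q _ => by rw [one_mul, mul_one]⟩
      · exact ⟨(h.zc t).symm, fun q _ => (h.zc q).symm, fun q _ => (h.zc q).symm⟩
    rw [hxy]
    exact hmul _ _ (hmul _ _ (hzB x hx') (hzB y hy')) hb
  -- two nontrivial elements of `S ∩ B` are equal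
  have hone : ∀ u v : X, u ∈ M → v ∈ M → Bt t Q₁ Q₂ u → Bt t Q₁ Q₂ v → u ≠ 1 → v ≠ 1 → u * v = v * u → u = v := by
    intro u v hu hv hBu hBv hu1 hv1 huv
    have hR : ∀ w : X, w ∈ M → Bt t Q₁ Q₂ w → w ≠ 1 → Refl z t Q₁ Q₂ w := by
      intro w hw hBw hw1
      exact ⟨hBw, h.T4_eq_one hM hzM (M.mul_mem hw hw) (h.Bsq w hBw), fun h4 => hw1 (h.T4_eq_one hM hzM hw h4)⟩
    have hu' := hR u hu hBu hu1
    have hv' := hR v hv hBv hv1
    have h1 := h.T4_eq_one hM hzM (M.mul_mem hu hv) (h.Bnc u v hu' hv' huv)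
    have h2 : v⁻¹ = v := inv_eq_of_mul_eq_one_right hv'.2.1
    rw [mul_eq_one_iff_eq_inv, h2] at h1
    exact h1
  have hOS : pPrimeCore 2 S = ⊥ := by
    have e := Cfsg.Agent.SignalizersComponents.CompBasic.map_subtype_pPrimeCore_of_subnormal 2 hSn
    rw [h.core_centralizer, inf_bot_eq] at e
    exact (map_eq_bot_iff_of_injective _ S.subtype_injective).1 e
  have hSsol : Group.IsSolvable S := inferInstance
  have hcen : centralizer (pCore 2 S : Set S) ≤ pCore 2 S :=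
    Cfsg.Agent.OddOrderLocal.RankTwoSolvable.centralizer_pCore_le hOS
  -- squares of elements of `pCore 2 S` are trivial
  have hsq : ∀ s : S, s ∈ pCore 2 S → ((s : C) : X) * ((s : C) : X) = 1 := by
    intro s hs
    have hsM : ((s : C) : X) ∈ M := mem_subgroupOf.1 s.2
    exact h.T4_eq_one hM hzM (M.mul_mem hsM hsM) (h.Bsq _ (hcore s hs))
  have hcomm : ∀ s s' : S, s ∈ pCore 2 S → s' ∈ pCore 2 S → s * s' = s' * s := by
    intro s s' hs hs'
    have e1 : s⁻¹ = s := inv_eq_of_mul_eq_one_right (Subtype.ext (Subtype.ext (hsq s hs)))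
    have e2 : s'⁻¹ = s' := inv_eq_of_mul_eq_one_right (Subtype.ext (Subtype.ext (hsq s' hs')))
    have e3 : (s * s')⁻¹ = s * s' := inv_eq_of_mul_eq_one_right
      (Subtype.ext (Subtype.ext (hsq _ (mul_mem hs hs'))))
    rw [← e3, mul_inv_rev, e1, e2]
  have heq : ∀ s s' : S, s ∈ pCore 2 S → s' ∈ pCore 2 S → s ≠ 1 → s' ≠ 1 → s = s' := by
    intro s s' hs hs' h1 h1'
    apply Subtype.ext
    apply Subtype.ext
    refine hone _ _ (mem_subgroupOf.1 s.2) (mem_subgroupOf.1 s'.2) (hcore s hs) (hcore s' hs') ?_ ?_ ?_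
    · intro e; exact h1 (Subtype.ext (Subtype.ext e))
    · intro e; exact h1' (Subtype.ext (Subtype.ext e))
    · exact congrArg (fun x : S => ((x : C) : X)) (hcomm s s' hs hs')
  -- `pCore 2 S` is central, so everything
  have hN := Cfsg.Agent.Lib.Cores.pCore_normal (G := S) 2
  have htop : ∀ s : S, s ∈ pCore 2 S := by
    intro s
    apply hcen
    rw [mem_centralizer_iff]
    intro u hu
    by_cases hu1 : u = 1
    · rw [hu1, one_mul, mul_one]
    · have h1 : s * u * s⁻¹ = u := heq _ _ (hN.conj_mem u hu s) hu (fun e => hu1 (conj_eq_one_iff.1 e)) hu1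
      rw [mul_inv_eq_iff_eq_mul] at h1
      exact h1.symm
  -- the automorphism of `M`
  have htM : ∀ x ∈ M, t * x * t⁻¹ ∈ M := fun x hx => by
    have := conj_mem_cj (g := t) hx
    rwa [h.cj_t hM] at this
  let τ : M →* M :=
    { toFun := fun x => ⟨t * x * t⁻¹, htM x x.2⟩
      map_one' := Subtype.ext (by
        show t * 1 * t⁻¹ = 1
        group)
      map_mul' := fun x y => Subtype.ext (by
        show t * (x * y : X) * t⁻¹ = t * x * t⁻¹ * (t * y * t⁻¹)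
        group) }
  have hτ : ∀ x, τ (τ x) = x := fun x => Subtype.ext (by
    show t * (t * x * t⁻¹) * t⁻¹ = x
    calc t * (t * x * t⁻¹) * t⁻¹ = (t * t) * x * (t * t)⁻¹ := by group
      _ = x := by rw [h.tt]; group)
  have hfix : ∀ x : M, τ x = x → ∃ s : S, ((s : C) : X) = x := by
    intro x hx
    have h1 : t * (x : X) * t⁻¹ = x := congrArg Subtype.val hx
    rw [mul_inv_eq_iff_eq_mul] at h1
    exact ⟨⟨⟨x, mem_centralizer_singleton_iff.2 h1.symm⟩, mem_subgroupOf.2 x.2⟩, rfl⟩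
  obtain ⟨u, hu, hu1, -⟩ := TwoFix.exists_fix hM.2 τ hτ 1
  obtain ⟨v, hv, hv1, hvu⟩ := TwoFix.exists_fix hM.2 τ hτ u
  obtain ⟨su, hsu⟩ := hfix u hu
  obtain ⟨sv, hsv⟩ := hfix v hv
  apply hvu
  apply Subtype.ext
  rw [← hsu, ← hsv]
  refine congrArg (fun x : S => ((x : C) : X)) (heq sv su (htop sv) (htop su) ?_ ?_)
  · intro e
    apply hv1
    apply Subtype.ext
    rw [← hsv, e]; rfl
  · intro e
    apply hu1
    apply Subtype.ext
    rw [← hsu, e]; rfl

end Pre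

end Cfsg.Agent.OddHalf.D6.QThree.NIB
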