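import Cfsg.Agent.OddHalf.D6.QThree.NISide

/-!
# ODD half, D6, `q = 3`, NI with `B`: LEMMA Z4 (helper801's #14694 (3))

A finite perfect group `M` with a central element `i` of order at least three in a Sylow 2-subgroup `W` has no abelian
maximal subgroup of `W`: `i ∈ Z(M) ∩ W` lies in `W'` (transfer) and `W'` is inverted by the elements of `W - C`.
`exists_abelian`: `W` has such a subgroup if `C_W(Q) = ⟨i⟩` for a quaternion group `Q ≤ W`.
-/

set_option autoImplicit false

namespace Cfsg.Agent.OddHalf.D6.QThree.NIB.ZFour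

open Subgroup
open Cfsg.Agent.OddHalf.D6.QThree.NISide

/-- central 2-elements of a perfect group lie in the commutator subgroup of a Sylow 2-subgroup -/
theorem mem_commutator {M : Type*} [Group M] [Finite M] (hM : commutator M = ⊤) (W : Sylow 2 M) {i : M}
    (hiW : i ∈ (W : Subgroup M)) (hic : ∀ x : M, i * x = x * i) :
    (⟨i, hiW⟩ : (W : Subgroup M)) ∈ commutator (W : Subgroup M) := by
  classical
  have : Fact (Nat.Prime 2) := ⟨Nat.prime_two⟩
  set φ : (W : Subgroup M) →* Abelianization (W : Subgroup M) := Abelianization.of with hφ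
  have hconj : ∀ (k : ℕ) (g : M), g⁻¹ * i ^ k * g = i ^ k := by
    intro k g
    have h1 : Commute (i ^ k) g := (show Commute i g from hic g).pow_left k
    calc g⁻¹ * i ^ k * g = g⁻¹ * (i ^ k * g) := by group
      _ = g⁻¹ * (g * i ^ k) := by rw [h1.eq]
      _ = i ^ k := by group
  have h1 := MonoidHom.transfer_eq_pow φ i (fun k g _ => hconj k g)
  have h2 : MonoidHom.transfer φ i = 1 := by
    have h3 : i ∈ commutator M := by rw [hM]; exact mem_top i
    exact (Abelianization.commutator_subset_ker (MonoidHom.transfer φ)) h3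
  rw [h2] at h1
  have h3 : (⟨i ^ (W : Subgroup M).index, (W : Subgroup M).pow_mem hiW _⟩ : (W : Subgroup M)) ∈
      commutator (W : Subgroup M) := by
    have h4 : φ ⟨i ^ (W : Subgroup M).index, (W : Subgroup M).pow_mem hiW _⟩ = 1 := h1.symm
    exact (QuotientGroup.eq_one_iff _).1 h4
  -- `i` is a power of `i ^ index`
  have hodd : Nat.Coprime (W : Subgroup M).index (orderOf i) := by
    have h4 : ¬ 2 ∣ (W : Subgroup M).index := W.not_dvd_index
    obtain ⟨n, hn⟩ := (IsPGroup.iff_orderOf.1 W.isPGroup') ⟨i, hiW⟩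
    rw [← Subgroup.orderOf_mk i hiW, hn]
    exact (Nat.Coprime.pow_left n ((Nat.Prime.coprime_iff_not_dvd Nat.prime_two).2 h4)).symm
  obtain ⟨m, hm⟩ : ∃ m : ℤ, (i ^ (W : Subgroup M).index) ^ m = i := by
    have h4 : (i ^ (W : Subgroup M).index) ^ (Nat.gcdA (W : Subgroup M).index (orderOf i)) = i := by
      have h5 := Nat.gcd_eq_gcd_ab (W : Subgroup M).index (orderOf i)
      rw [Nat.Coprime.gcd_eq_one hodd] at h5
      calc (i ^ (W : Subgroup M).index) ^ (Nat.gcdA (W : Subgroup M).index (orderOf i))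
          = i ^ (((W : Subgroup M).index : ℤ) * Nat.gcdA (W : Subgroup M).index (orderOf i)) := by
            rw [zpow_mul, zpow_natCast]
        _ = i ^ (1 - (orderOf i : ℤ) * Nat.gcdB (W : Subgroup M).index (orderOf i)) := by
            congr 1
            push_cast at h5
            omega
        _ = i := by
            rw [zpow_sub, zpow_mul, zpow_natCast, pow_orderOf_eq_one, one_zpow, zpow_one, inv_one, mul_one]
    exact ⟨_, h4⟩
  have h4 := (commutator (W : Subgroup M)).zpow_mem h3 m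
  have h5 : (⟨i ^ (W : Subgroup M).index, (W : Subgroup M).pow_mem hiW _⟩ : (W : Subgroup M)) ^ m = ⟨i, hiW⟩ :=
    Subtype.ext (by
      show (i ^ (W : Subgroup M).index) ^ m = i
      exact hm)
  rwa [h5] at h4

/-- `W` with an abelian subgroup `C` of index two: central elements in `W'` have square one -/
theorem sq_of_abelian {W : Type*} [Group W] {C : Subgroup W} (hC : C.index = 2)
    (hab : ∀ x ∈ C, ∀ y ∈ C, x * y = y * x) {i : W} (hi : i ∈ commutator W) (hic : ∀ x : W, i * x = x * i) :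
    i * i = 1 := by
  have hCn : C.Normal := normal_of_index_eq_two hC
  obtain ⟨w, hw⟩ : ∃ w, w ∉ C := by
    by_contra hcon
    push Not at hcon
    have : C = ⊤ := eq_top_iff.2 fun x _ => hcon x
    rw [this, index_top] at hC
    exact absurd hC (by norm_num)
  have hdec : ∀ g, g ∈ C ∨ ∃ d ∈ C, g = d * w := by
    intro g
    by_cases hg : g ∈ C
    · exact Or.inl hg
    · right
      refine ⟨g * w⁻¹, ?_, by group⟩
      rw [mul_mem_iff_of_index_two hC, inv_mem_iff]
      exact iff_of_false hg hw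
  have hww : w * w ∈ C := by
    rw [mul_mem_iff_of_index_two hC]
  have hσ : ∀ x ∈ C, w * x * w⁻¹ ∈ C := fun x hx => hCn.conj_mem x hx w
  have hσσ : ∀ x ∈ C, w * (w * x * w⁻¹) * w⁻¹ = x := by
    intro x hx
    calc w * (w * x * w⁻¹) * w⁻¹ = (w * w) * x * (w * w)⁻¹ := by group
      _ = x := by rw [hab _ hww x hx, mul_inv_cancel_right]
  let I : Subgroup W :=
    { carrier := {x | x ∈ C ∧ w * x * w⁻¹ = x⁻¹}
      one_mem' := ⟨C.one_mem, by group⟩
      mul_mem' := by
        rintro x y ⟨hx, hx'⟩ ⟨hy, hy'⟩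
        refine ⟨C.mul_mem hx hy, ?_⟩
        calc w * (x * y) * w⁻¹ = (w * x * w⁻¹) * (w * y * w⁻¹) := by group
          _ = x⁻¹ * y⁻¹ := by rw [hx', hy']
          _ = (y * x)⁻¹ := by group
          _ = (x * y)⁻¹ := by rw [hab x hx y hy]
      inv_mem' := by
        rintro x ⟨hx, hx'⟩
        refine ⟨C.inv_mem hx, ?_⟩
        calc w * x⁻¹ * w⁻¹ = (w * x * w⁻¹)⁻¹ := by group
          _ = x⁻¹⁻¹ := by rw [hx'] }
  have hform : ∀ x ∈ C, x * (w * x⁻¹ * w⁻¹) ∈ I := by
    intro x hx
    have hx' : w * x⁻¹ * w⁻¹ ∈ C := hσ _ (C.inv_mem hx)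
    refine ⟨C.mul_mem hx hx', ?_⟩
    have h2 := hσσ x hx
    calc w * (x * (w * x⁻¹ * w⁻¹)) * w⁻¹ = (w * x * w⁻¹) * (w * (w * x * w⁻¹) * w⁻¹)⁻¹ := by group
      _ = (w * x * w⁻¹) * x⁻¹ := by rw [h2]
      _ = (x * (w * x⁻¹ * w⁻¹))⁻¹ := by group
  have hle : commutator W ≤ I := by
    rw [commutator_def, commutator_le]
    intro g _ k _
    rw [commutatorElement_def]
    rcases hdec g with hg | ⟨c, hc, rfl⟩ <;> rcases hdec k with hk | ⟨d, hd, rfl⟩
    · have e : g * k * g⁻¹ * k⁻¹ = 1 := by rw [hab g hg k hk]; group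
      rw [e]; exact I.one_mem
    · have e : g * (d * w) * g⁻¹ * (d * w)⁻¹ = g * (w * g⁻¹ * w⁻¹) := by
        have h1 : w * g⁻¹ * w⁻¹ ∈ C := hσ _ (C.inv_mem hg)
        calc g * (d * w) * g⁻¹ * (d * w)⁻¹ = g * (d * (w * g⁻¹ * w⁻¹)) * d⁻¹ := by group
          _ = g * ((w * g⁻¹ * w⁻¹) * d) * d⁻¹ := by rw [hab d hd _ h1]
          _ = g * (w * g⁻¹ * w⁻¹) := by group
      rw [e]; exact hform g hg
    · have e : c * w * k * (c * w)⁻¹ * k⁻¹ = (k * (w * k⁻¹ * w⁻¹))⁻¹ := by
        have h1 : w * k * w⁻¹ ∈ C := hσ _ hk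
        calc c * w * k * (c * w)⁻¹ * k⁻¹ = c * (w * k * w⁻¹) * c⁻¹ * k⁻¹ := by group
          _ = (w * k * w⁻¹) * c * c⁻¹ * k⁻¹ := by rw [hab c hc _ h1]
          _ = (k * (w * k⁻¹ * w⁻¹))⁻¹ := by group
      rw [e]; exact I.inv_mem (hform k hk)
    · have hx : c * d⁻¹ ∈ C := C.mul_mem hc (C.inv_mem hd)
      have h1 : w * d * w⁻¹ * (w * c⁻¹ * w⁻¹) ∈ C := C.mul_mem (hσ _ hd) (hσ _ (C.inv_mem hc))
      have e : c * w * (d * w) * (c * w)⁻¹ * (d * w)⁻¹ = c * d⁻¹ * (w * (c * d⁻¹)⁻¹ * w⁻¹) := by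
        calc c * w * (d * w) * (c * w)⁻¹ * (d * w)⁻¹ = c * ((w * d * w⁻¹ * (w * c⁻¹ * w⁻¹)) * d⁻¹) := by group
          _ = c * (d⁻¹ * (w * d * w⁻¹ * (w * c⁻¹ * w⁻¹))) := by rw [hab _ h1 _ (C.inv_mem hd)]
          _ = c * d⁻¹ * (w * (c * d⁻¹)⁻¹ * w⁻¹) := by group
      rw [e]; exact hform _ hx
  obtain ⟨-, h1⟩ := hle hi
  have h2 : w * i * w⁻¹ = i := by rw [← hic w, mul_inv_cancel_right]
  rw [h2] at h1
  calc i * i = i * i⁻¹ := by rw [← h1]
    _ = 1 := mul_inv_cancel i

/-- **LEMMA Z4** -/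
theorem false_of_abelian {M : Type*} [Group M] [Finite M] (hM : commutator M = ⊤) (W : Sylow 2 M) {i : M}
    (hiW : i ∈ (W : Subgroup M)) (hic : ∀ x : M, i * x = x * i) (hii : i * i ≠ 1) {C : Subgroup M}
    (hCi : C.relIndex (W : Subgroup M) = 2) (hab : ∀ x ∈ C, x ∈ (W : Subgroup M) → ∀ y ∈ C, y ∈ (W : Subgroup M) →
      x * y = y * x) : False := by
  apply hii
  have h1 := sq_of_abelian (W := (W : Subgroup M)) (C := C.subgroupOf (W : Subgroup M)) hCi
    (fun x hx y hy => Subtype.ext (hab x (mem_subgroupOf.1 hx) x.2 y (mem_subgroupOf.1 hy) y.2))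
    (mem_commutator hM W hiW hic) (fun x => Subtype.ext (hic x))
  exact congrArg Subtype.val h1

/-- **the abelian maximal subgroup**: `C_W(Q) = ⟨i⟩`, `i² = z` -/
theorem exists_abelian {X : Type*} [Group X] [Finite X] {z t a i : X} {Q D W : Subgroup X} (s : Side z t a Q D)
    (zc : ∀ x : X, x * z = z * x) (zz : z * z = 1) (z1 : z ≠ 1) (hW : IsPGroup 2 W) (hQW : Q ≤ W) (hiW : i ∈ W)
    (hic : ∀ w ∈ W, i * w = w * i) (hii : i * i = z)
    (hC : ∀ w ∈ W, (∀ q ∈ Q, w * q = q * w) → w = 1 ∨ w = z ∨ w = i ∨ w = i * z) :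
    ∃ C : Subgroup X, C ≤ W ∧ C.relIndex W = 2 ∧ ∀ x ∈ C, ∀ y ∈ C, x * y = y * x := by
  classical
  have : Fact (Nat.Prime 2) := ⟨Nat.prime_two⟩
  have hzi : z⁻¹ = z := inv_eq_of_mul_eq_one_right zz
  have hzW : z ∈ W := hQW s.zQ
  -- `⟨i⟩`
  have hzp : ∀ x : X, x ∈ zpowers i ↔ x = 1 ∨ x = z ∨ x = i ∨ x = i * z := by
    intro x
    constructor
    · intro hx
      obtain ⟨k, rfl⟩ := mem_zpowers_iff.1 hx
      rcases Int.even_or_odd k with ⟨m, rfl⟩ | ⟨m, rfl⟩
      · have e : i ^ (m + m) = z ^ m := by rw [← hii, (Commute.refl i).mul_zpow, zpow_add]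
        rcases Int.even_or_odd m with ⟨l, rfl⟩ | ⟨l, rfl⟩
        · left
          rw [e, ← two_mul, zpow_mul, zpow_ofNat, pow_two, zz, one_zpow]
        · right; left
          rw [e, zpow_add, zpow_mul, zpow_ofNat, pow_two, zz, one_zpow, one_mul, zpow_one]
      · have e : i ^ (2 * m + 1) = i * z ^ m := by
          rw [zpow_add, zpow_one, zpow_mul, zpow_ofNat, pow_two, hii]
          exact ((show Commute z i from (zc i).symm).zpow_left m).eq
        rcases Int.even_or_odd m with ⟨l, rfl⟩ | ⟨l, rfl⟩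
        · right; right; left
          rw [e, ← two_mul, zpow_mul, zpow_ofNat, pow_two, zz, one_zpow, mul_one]
        · right; right; right
          rw [e, zpow_add, zpow_mul, zpow_ofNat, pow_two, zz, one_zpow, one_mul, zpow_one]
    · rintro (rfl | rfl | rfl | rfl)
      · exact one_mem _
      · rw [← hii]; exact mul_mem (mem_zpowers i) (mem_zpowers i)
      · exact mem_zpowers _
      · rw [← hii]; exact mul_mem (mem_zpowers i) (mul_mem (mem_zpowers i) (mem_zpowers i))
  have hi1 : i ≠ 1 := by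
    rintro rfl
    rw [one_mul] at hii
    exact z1 hii.symm
  have hiz : i ≠ z := by
    intro e
    rw [e, zz] at hii
    exact z1 hii.symm
  have hiQ : i ∉ Q := by
    intro hi
    rcases s.center hi (fun q hq => hic q (hQW hq)) with e | e
    · exact hi1 e
    · exact hiz e
  set Z : Subgroup W := (zpowers i).subgroupOf W with hZ
  have hmZ : ∀ x : W, x ∈ Z ↔ (x : X) = 1 ∨ (x : X) = z ∨ (x : X) = i ∨ (x : X) = i * z := fun x => by
    rw [hZ, mem_subgroupOf, hzp]
  have hZc : ∀ x ∈ Z, ∀ y : W, x * y = y * x := by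
    intro x hx y
    apply Subtype.ext
    show (x : X) * y = y * x
    have c1 : Commute (y : X) z := zc y
    have c2 : Commute i (y : X) := hic y y.2
    rcases (hmZ x).1 hx with e | e | e | e <;> rw [e]
    · rw [one_mul, mul_one]
    · exact c1.symm.eq
    · exact c2.eq
    · exact (c2.mul_left c1.symm).eq
  have hZn : Z.Normal := ⟨fun n hn g => by
    rw [← hZc n hn g, mul_inv_cancel_right]; exact hn⟩
  have hord : orderOf i = 4 := by
    have h2 : i ^ 4 = 1 := by
      rw [show (4 : ℕ) = 2 * 2 from rfl, pow_mul, pow_two i, hii, pow_two, zz]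
    have h3 : orderOf i ∣ 4 := orderOf_dvd_of_pow_eq_one h2
    have h4 : ¬ orderOf i ∣ 2 := by
      intro h
      have h5 := orderOf_dvd_iff_pow_eq_one.1 h
      rw [pow_two, hii] at h5
      exact z1 h5
    have h5 : orderOf i ≤ 4 := Nat.le_of_dvd (by norm_num) h3
    have h6 : orderOf i ≠ 0 := (orderOf_pos i).ne'
    interval_cases h : orderOf i <;> first | rfl | omega
  have hcZ : Nat.card Z = 4 := by
    have h1 : Nat.card Z = Nat.card (zpowers i) :=
      Nat.card_congr (subgroupOfEquivOfLe ((zpowers_le).2 hiW)).toEquiv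
    rw [h1, Nat.card_zpowers, hord]
  obtain ⟨n, hn⟩ := IsPGroup.iff_card.1 hW
  have hcQ : Nat.card (W ⧸ Z) * 4 = 2 ^ n := by
    rw [← hn, Subgroup.card_eq_card_quotient_mul_card_subgroup Z, hcZ]
  -- the four-group
  set g : Q →* W ⧸ Z := (QuotientGroup.mk' Z).comp (inclusion hQW) with hg
  have hgk : ∀ q : Q, q ∈ g.ker ↔ (q : X) = 1 ∨ (q : X) = z := by
    intro q
    rw [MonoidHom.mem_ker]
    have h1 : g q = QuotientGroup.mk' Z (inclusion hQW q) := rfl
    rw [h1, ← MonoidHom.mem_ker, QuotientGroup.ker_mk', hmZ]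
    show (q : X) = 1 ∨ (q : X) = z ∨ (q : X) = i ∨ (q : X) = i * z ↔ _
    constructor
    · rintro (e | e | e | e)
      · exact Or.inl e
      · exact Or.inr e
      · exact absurd (e ▸ q.2) hiQ
      · exfalso
        apply hiQ
        have h2 : i = (q : X) * z := by rw [e, mul_assoc, zz, mul_one]
        rw [h2]; exact Q.mul_mem q.2 s.zQ
    · rintro (e | e)
      · exact Or.inl e
      · exact Or.inr (Or.inl e)
  have hck : Nat.card g.ker = 2 := by
    have h1 : g.ker = zpowers (⟨z, s.zQ⟩ : Q) := by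
      ext q
      rw [hgk]
      constructor
      · rintro (e | e)
        · have : q = 1 := Subtype.ext e
          rw [this]; exact one_mem _
        · have : q = ⟨z, s.zQ⟩ := Subtype.ext e
          rw [this]; exact mem_zpowers _
      · intro hq
        obtain ⟨k, rfl⟩ := mem_zpowers_iff.1 hq
        rw [Subgroup.coe_zpow]
        show z ^ k = 1 ∨ z ^ k = z
        rcases Int.even_or_odd k with ⟨m, rfl⟩ | ⟨m, rfl⟩
        · left
          rw [← two_mul, zpow_mul, zpow_ofNat, pow_two, zz, one_zpow]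
        · right
          rw [zpow_add, zpow_mul, zpow_ofNat, pow_two, zz, one_zpow, one_mul, zpow_one]
    rw [h1, Nat.card_zpowers, ← Subgroup.orderOf_coe]
    exact orderOf_eq_prime (by rw [pow_two, zz]) z1
  have hcA : Nat.card g.range = 2 ^ 2 := by
    have h1 := Subgroup.card_mul_index g.ker
    rw [Subgroup.index_ker, hck, s.card] at h1
    omega
  have hmA : ∀ w : W, QuotientGroup.mk' Z w ∈ g.range ↔ ∃ q ∈ Q, ∃ y ∈ Z, (w : X) = q * y := by
    intro w
    constructor
    · rintro ⟨q, hq⟩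
      have h1 : QuotientGroup.mk' Z (inclusion hQW q) = QuotientGroup.mk' Z w := hq
      rw [QuotientGroup.mk'_eq_mk'] at h1
      obtain ⟨y, hy, hyw⟩ := h1
      exact ⟨q, q.2, y, hy, by rw [← hyw]; rfl⟩
    · rintro ⟨q, hq, y, hy, e⟩
      refine ⟨⟨q, hq⟩, ?_⟩
      have h1 : QuotientGroup.mk' Z (inclusion hQW ⟨q, hq⟩) = QuotientGroup.mk' Z w := by
        rw [QuotientGroup.mk'_eq_mk']
        exact ⟨y, hy, Subtype.ext e.symm⟩
      exact h1
  have hcent : centralizer (g.range : Set (W ⧸ Z)) = g.range := by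
    apply le_antisymm
    · intro y hy
      obtain ⟨w, rfl⟩ := QuotientGroup.mk'_surjective Z y
      rw [hmA]
      -- `w` acts on `Q` trivially modulo `⟨z⟩`
      have h1 : ∀ q ∈ Q, (w : X) * q * (w : X)⁻¹ = q ∨ (w : X) * q * (w : X)⁻¹ = q * z := by
        intro q hq
        have h2 := mem_centralizer_iff.1 hy (QuotientGroup.mk' Z ⟨q, hQW hq⟩) ((hmA _).2 ⟨q, hq, 1, Z.one_mem, by
          show q = q * 1
          rw [mul_one]⟩)
        rw [← map_mul, ← map_mul, QuotientGroup.mk'_eq_mk'] at h2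
        obtain ⟨u, hu, huw⟩ := h2
        have h3 : q * (w : X) * u = w * q := congrArg Subtype.val huw
        have huc : (u : X) * (w : X)⁻¹ = (w : X)⁻¹ * u := by
          have h4 := congrArg Subtype.val (hZc u hu w⁻¹)
          exact h4
        have h4 : (w : X) * q * (w : X)⁻¹ = q * u := by
          rw [← h3]
          calc q * (w : X) * u * (w : X)⁻¹ = q * (w : X) * (u * (w : X)⁻¹) := by group
            _ = q * (w : X) * ((w : X)⁻¹ * u) := by rw [huc]
            _ = q * u := by group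
        by_cases hqz : q = 1 ∨ q = z
        · left
          rcases hqz with rfl | rfl
          · group
          · rw [zc (w : X), mul_inv_cancel_right]
        push Not at hqz
        have hqq := s.sq q hq hqz.1 hqz.2
        have h5 : (q * (u : X)) * (q * u) = z := by
          rw [← h4]
          calc (w : X) * q * (w : X)⁻¹ * ((w : X) * q * (w : X)⁻¹) = w * (q * q) * (w : X)⁻¹ := by group
            _ = z := by rw [hqq, zc (w : X), mul_inv_cancel_right]
        have h6 : (u : X) * u = 1 := by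
          have huq : (u : X) * q = q * u := congrArg Subtype.val (hZc u hu ⟨q, hQW hq⟩)
          have h7 : q * (u : X) * (q * u) = z * (u * u) := by
            calc q * (u : X) * (q * u) = q * (u * q) * u := by group
              _ = q * (q * u) * u := by rw [huq]
              _ = (q * q) * (u * u) := by group
              _ = z * (u * u) := by rw [hqq]
          rw [h7] at h5
          exact mul_eq_left.1 h5
        rcases (hmZ u).1 hu with e | e | e | e
        · left; rw [h4, e, mul_one]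
        · right; rw [h4, e]
        · exfalso
          rw [e, hii] at h6
          exact z1 h6
        · exfalso
          rw [e] at h6
          have h7 : i * z * (i * z) = z := by
            calc i * z * (i * z) = i * (z * i) * z := by group
              _ = i * (i * z) * z := by rw [zc i]
              _ = (i * i) * (z * z) := by group
              _ = z := by rw [hii, zz, mul_one]
          rw [h7] at h6
          exact z1 h6
      obtain ⟨r, hr, hrq⟩ := s.exists_inner zc zz z1 h1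
      have h2 := hC _ (W.mul_mem w.2 (hQW hr)) hrq
      have h3 : (⟨(w : X) * r, W.mul_mem w.2 (hQW hr)⟩ : W) ∈ Z := (hmZ _).2 h2
      refine ⟨r⁻¹, Q.inv_mem hr, _, h3, ?_⟩
      show (w : X) = r⁻¹ * ((w : X) * r)
      have h4 := congrArg Subtype.val (hZc _ h3 ⟨r⁻¹, W.inv_mem (hQW hr)⟩)
      have h5 : (w : X) * r * r⁻¹ = r⁻¹ * ((w : X) * r) := h4
      rw [← h5, mul_inv_cancel_right]
    · rintro _ ⟨x, rfl⟩
      rw [mem_centralizer_iff]
      rintro _ ⟨y, rfl⟩
      rw [← map_mul, ← map_mul]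
      have hyx : (y * x)⁻¹ * (x * y) ∈ g.ker := by
        rw [hgk]
        show ((y : X) * x)⁻¹ * (x * y) = 1 ∨ ((y : X) * x)⁻¹ * (x * y) = z
        by_cases hxy : (x : X) * y = y * x
        · left; rw [hxy, inv_mul_cancel]
        · right
          have h1 := s.comm_eq x.2 y.2 hxy zc zz
          have h2 : (y : X) * x = x * z * y := by rw [← h1]; group
          have h3 : (x : X) * y = y * x * z := by
            rw [h2, mul_assoc, mul_assoc, zc (y : X), ← mul_assoc z z, zz, one_mul]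
          rw [h3, inv_mul_cancel_left]
      have h1 : g ((y * x)⁻¹ * (x * y)) = 1 := hyx
      rw [map_mul, map_inv, inv_mul_eq_one] at h1
      exact h1
  -- a cyclic maximal subgroup of the quotient
  obtain ⟨C, hCc, hCi⟩ : ∃ C : Subgroup (W ⧸ Z), IsCyclic C ∧ C.index = 2 := by
    have h4 : 4 ∣ Nat.card (W ⧸ Z) := by
      rw [show (4 : ℕ) = 2 ^ 2 from rfl, ← hcA]
      exact Subgroup.card_subgroup_dvd_card g.range
    have hn2 : 4 ≤ n := by
      obtain ⟨k, hk⟩ := h4
      rw [hk] at hcQ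
      have h5 : 2 ^ 4 ∣ 2 ^ n := ⟨k, by rw [← hcQ]; ring⟩
      exact (Nat.pow_dvd_pow_iff_le_right (by norm_num)).1 h5
    obtain ⟨m, rfl⟩ : ∃ m, n = m + 2 := ⟨n - 2, by omega⟩
    have hcard : Nat.card (W ⧸ Z) = 2 ^ m := by
      rw [pow_add] at hcQ; omega
    by_cases hm : m = 2
    · obtain ⟨q, hq, hq1, hqz⟩ := s.exists_ne
      have hqg : g ⟨q, hq⟩ ≠ 1 := by
        intro h
        rcases (hgk ⟨q, hq⟩).1 h with e | e
        · exact hq1 e
        · exact hqz e
      have hqo : orderOf (g ⟨q, hq⟩) = 2 := by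
        apply orderOf_eq_prime _ hqg
        rw [pow_two, ← map_mul]
        have h5 : (⟨q, hq⟩ * ⟨q, hq⟩ : Q) ∈ g.ker := by
          rw [hgk]
          exact Or.inr (s.sq q hq hq1 hqz)
        exact h5
      refine ⟨zpowers (g ⟨q, hq⟩), inferInstance, ?_⟩
      have h5 := Subgroup.card_mul_index (zpowers (g ⟨q, hq⟩))
      rw [Nat.card_zpowers, hqo, hcard, hm] at h5
      omega
    · have hcls := Cfsg.Agent.S0112.result (p := 2) m hcard g.range hcA hcent
      exact Cfsg.Agent.S0113.result m (by omega) hcard hcls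
  set C' : Subgroup W := C.comap (QuotientGroup.mk' Z) with hC'
  have hC'i : C'.index = 2 := by
    rw [hC', index_comap_of_surjective _ (QuotientGroup.mk'_surjective Z), hCi]
  refine ⟨C'.map W.subtype, ?_, ?_, ?_⟩
  · rintro _ ⟨y, -, rfl⟩
    exact y.2
  · rw [relIndex, subgroupOf, comap_map_eq_self_of_injective W.subtype_injective, hC'i]
  · set f : C' →* C := (QuotientGroup.mk' Z).subgroupComap C with hf
    have hfk : f.ker ≤ Subgroup.center C' := by
      intro x hx
      have h1 : QuotientGroup.mk' Z (x : W) = 1 := congrArg Subtype.val hx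
      rw [← MonoidHom.mem_ker, QuotientGroup.ker_mk'] at h1
      rw [mem_center_iff]
      intro y
      exact Subtype.ext (hZc x h1 y).symm
    rintro _ ⟨x, hx, rfl⟩ _ ⟨y, hy, rfl⟩
    have h0 : IsMulCommutative C' := MonoidHom.isMulCommutative_of_isCyclic_of_ker_le_center f hfk
    have h1 : (⟨x, hx⟩ * ⟨y, hy⟩ : C') = ⟨y, hy⟩ * ⟨x, hx⟩ := h0.is_comm.comm _ _
    have h2 : x * y = y * x := congrArg Subtype.val h1
    show (x : X) * y = y * x
    exact congrArg Subtype.val h2

end Cfsg.Agent.OddHalf.D6.QThree.NIB.ZFour
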