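import Cfsg.Agent.OddHalf.D6.QThree.NIB.Hyp
import Cfsg.Agent.OddHalf.D6.QThree.NIB.ZFour

/-!
# ODD half, D6, `U₄(3)` with an outer part, NI with `B`: two components (helper801's #14694 (6))

`HypB` and two distinct components `M₁ ≥ Q₁`, `M₂ ≥ Q₂`: then some component has `z` as its only involution.
-/

set_option autoImplicit false

namespace Cfsg.Agent.OddHalf.D6.QThree.NIB.Two

open Subgroup Cfsg
open Cfsg.Agent.SignalizersComponents.Components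
open Cfsg.Agent.Cit (cj mem_cj conj_mem_cj)
open Cfsg.Agent.OddHalf.D6.QThree.NISide
open Cfsg.Agent.OddHalf.D6.QThree.NI.Hyp (CA comm_layer)

variable {X : Type*} [Group X]

/-! ### The `G`-level properties of the reflections -/

/-- (4a), `L* = PSp₄(3)` -/
def NoV (z t : X) (Q₁ Q₂ : Subgroup X) (b : X) : Prop :=
  ∀ v, v * b = b * v → (∀ q ∈ Q₁, v * q = q * v) → (∀ q ∈ Q₂, v * q = q * v) → t * v * t⁻¹ ≠ v * z

/-- (4b), the part for `Q` -/
def DiagQ (z₁ t : X) (Q : Subgroup X) (b : X) : Prop :=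
  ∃ r j : X, Odd (orderOf j) ∧ j * b = b * j ∧ r * (t * r * t⁻¹) ∈ Q ∧ r * (t * r * t⁻¹) = (t * r * t⁻¹) * r ∧
    j * (t * r * t⁻¹) = (t * r * t⁻¹) * j ∧ (r⁻¹ * (j * r * j⁻¹)) * (r⁻¹ * (j * r * j⁻¹)) = z₁

/-- (4b) -/
def Diag (z t : X) (Q₁ Q₂ : Subgroup X) (b : X) : Prop :=
  ∃ z₁ : X, z₁ ≠ 1 ∧ z₁ ≠ z ∧ z₁ * z₁ = 1 ∧ DiagQ z₁ t Q₁ b ∧ DiagQ z₁ t Q₂ b

/-- the three cases for every reflection -/
def RefTri (z t : X) (Q₁ Q₂ : Subgroup X) : Prop :=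
  ∀ b, Refl z t Q₁ Q₂ b → NoV z t Q₁ Q₂ b ∨ FusT z b Q₁ Q₂ ∨ Diag z t Q₁ Q₂ b

variable {z t a₁ a₂ : X} {Q₁ Q₂ : Subgroup X}

/-! ### Symmetry -/

theorem bt_symm {x : X} (h : Bt t Q₁ Q₂ x) : Bt t Q₂ Q₁ x := ⟨h.1, h.2.2, h.2.1⟩

theorem refl_symm {x : X} (h : Refl z t Q₁ Q₂ x) : Refl z t Q₂ Q₁ x := ⟨bt_symm h.1, h.2⟩

theorem symmB (h : HypB z t a₁ a₂ Q₁ Q₂) : HypB z t a₂ a₁ Q₂ Q₁ where
  zc := h.zc
  zz := h.zz
  z1 := h.z1
  tt := h.tt
  t1 := h.t1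
  tz := h.tz
  O := h.O
  sol := h.sol
  s₁ := h.s₂
  s₂ := h.s₁
  comm := fun x hx y hy => (h.comm y hy x hx).symm
  nor := by
    intro g hg x hx y hy
    obtain ⟨x', hx', y', hy', e⟩ := h.nor g hg y hy x hx
    refine ⟨y', hy', x', hx', ?_⟩
    rw [← h.comm y hy x hx, e, h.comm x' hx' y' hy']
  rad := by
    intro N h1 h2 h3 n hn
    obtain ⟨x, hx, y, hy, b, hb, e⟩ := h.rad N h1 h2 h3 n hn
    refine ⟨y, hy, x, hx, b, bt_symm hb, ?_⟩
    rwa [← h.comm x hx y hy]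
  odd := fun b hb => h.odd b (bt_symm hb)
  oa₁ := h.oa₂
  oa₂ := h.oa₁
  Bsq := fun b hb => h.Bsq b (bt_symm hb)
  Bc := fun b c hb hc => h.Bc b c (bt_symm hb) (bt_symm hc)
  Bu := fun b c hb hc => h.Bu b c (bt_symm hb) (bt_symm hc)
  sw := h.sw
  swap := by
    obtain ⟨p, h1, h2, h3⟩ := h.swap
    exact ⟨p, h1, h3, h2⟩
  com := h.com
  elem := h.elem
  zM := h.zM
  refl := fun b hb M hM hQ => h.refl b (refl_symm hb) M hM hQ.symm
  nF := fun h1 F hF hFp hQ => h.nF (fun M hM => ⟨(h1 M hM).2, (h1 M hM).1⟩) F hF hFp ⟨hQ.2, hQ.1⟩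

/-! ### Elementary facts -/

section

variable (h : HypB z t a₁ a₂ Q₁ Q₂)
include h

/-- a component is not centralised by `t` -/
theorem not_le [Finite X] {M : Subgroup X} (hM : IsQuasisimple M) (hMt : ∀ x ∈ M, x * t = t * x) : False := by
  apply quasisimple_not_isSolvable hM
  have h1 : M ≤ centralizer ({t} : Set X) := fun x hx => mem_centralizer_singleton_iff.2 (hMt x hx)
  have := h.sol
  exact Group.isSolvable_of_isSolvable_injective (f := inclusion h1) (inclusion_injective h1)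

/-- `t` normalises every component -/
theorem cj_t [Finite X] {M : Subgroup X} (hM : IsComponent M) : cj t M = M := by
  by_contra hne
  obtain ⟨D, hD1, -, -, hD3, -⟩ := Cfsg.Agent.Cit.Comp.exists_diag hM h.tt hne
  exact not_le h hD3 fun x hx => mem_centralizer_singleton_iff.1 (hD1 hx)

theorem tinv : t⁻¹ = t := inv_eq_of_mul_eq_one_right h.tt

theorem zinv : z⁻¹ = z := inv_eq_of_mul_eq_one_right h.zz

/-- involutions of the centre of the layer -/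
theorem A_inv {f : X} (hf : f ∈ layer X) (hfc : ∀ y ∈ layer X, f * y = y * f) (ff : f * f = 1) :
    f = 1 ∨ f = z := by
  have hLn : (layer X).Normal := layer_normal X
  let W : Subgroup X :=
    { carrier := {w | w ∈ layer X ∧ (∀ y ∈ layer X, w * y = y * w) ∧ w * w = 1}
      one_mem' := ⟨one_mem _, fun y _ => by rw [one_mul, mul_one], one_mul 1⟩
      mul_mem' := by
        rintro x y ⟨hx, hx', hxx⟩ ⟨hy, hy', hyy⟩
        refine ⟨mul_mem hx hy, fun w hw => ?_, ?_⟩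
        · exact ((show Commute x w from hx' w hw).mul_left (hy' w hw)).eq
        · calc x * y * (x * y) = x * (y * x) * y := by group
            _ = x * (x * y) * y := by rw [hx' y hy]
            _ = (x * x) * (y * y) := by group
            _ = 1 := by rw [hxx, hyy, one_mul]
      inv_mem' := by
        rintro x ⟨hx, hx', hxx⟩
        refine ⟨inv_mem hx, fun w hw => (show Commute x w from hx' w hw).inv_left.eq, ?_⟩
        rw [← mul_inv_rev, hxx, inv_one] }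
  have hWn : W.Normal := by
    refine ⟨?_⟩
    rintro x ⟨hx, hx', hxx⟩ g
    refine ⟨hLn.conj_mem x hx g, fun y hy => ?_, ?_⟩
    · have h1 : g⁻¹ * y * g ∈ layer X := by
        have := hLn.conj_mem y hy g⁻¹
        rwa [inv_inv] at this
      have h2 := hx' _ h1
      calc g * x * g⁻¹ * y = g * (x * (g⁻¹ * y * g)) * g⁻¹ := by group
        _ = g * (g⁻¹ * y * g * x) * g⁻¹ := by rw [h2]
        _ = y * (g * x * g⁻¹) := by group
    · calc g * x * g⁻¹ * (g * x * g⁻¹) = g * (x * x) * g⁻¹ := by group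
        _ = 1 := by rw [hxx]; group
  exact h.elem W hWn (fun w hw => hw.2.2) f ⟨hf, hfc, ff⟩

/-- an element normalised (as a cyclic group) by `X` commutes with `t` -/
theorem comm_of_zpowers {f : X} (hf : ∀ g : X, g * f * g⁻¹ ∈ zpowers f) : f * t = t * f := by
  have key : ∀ g k : X, (g * k) * f * (g * k)⁻¹ = (k * g) * f * (k * g)⁻¹ := by
    intro g k
    obtain ⟨a, ha⟩ := mem_zpowers_iff.1 (hf g)
    obtain ⟨b, hb⟩ := mem_zpowers_iff.1 (hf k)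
    have e1 : (g * k) * f * (g * k)⁻¹ = f ^ (a * b) := by
      calc (g * k) * f * (g * k)⁻¹ = g * (k * f * k⁻¹) * g⁻¹ := by group
        _ = g * f ^ b * g⁻¹ := by rw [hb]
        _ = (g * f * g⁻¹) ^ b := by rw [conj_zpow]
        _ = f ^ (a * b) := by rw [← ha, zpow_mul]
    have e2 : (k * g) * f * (k * g)⁻¹ = f ^ (a * b) := by
      calc (k * g) * f * (k * g)⁻¹ = k * (g * f * g⁻¹) * k⁻¹ := by group
        _ = k * f ^ a * k⁻¹ := by rw [ha]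
        _ = (k * f * k⁻¹) ^ a := by rw [conj_zpow]
        _ = f ^ (a * b) := by rw [← hb, ← zpow_mul, mul_comm]
    rw [e1, e2]
  have h1 : commutator X ≤ centralizer ({f} : Set X) := by
    rw [commutator_def, commutator_le]
    intro g _ k _
    rw [mem_centralizer_singleton_iff, commutatorElement_def]
    obtain ⟨c, hc⟩ := mem_zpowers_iff.1 (hf (k * g)⁻¹)
    rw [inv_inv] at hc
    have h2 : g * k * g⁻¹ * k⁻¹ * f * (g * k * g⁻¹ * k⁻¹)⁻¹ = f := by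
      calc g * k * g⁻¹ * k⁻¹ * f * (g * k * g⁻¹ * k⁻¹)⁻¹
          = (g * k) * ((k * g)⁻¹ * f * (k * g)) * (g * k)⁻¹ := by group
        _ = (g * k) * f ^ c * (g * k)⁻¹ := by rw [hc]
        _ = ((g * k) * f * (g * k)⁻¹) ^ c := by rw [conj_zpow]
        _ = ((k * g) * f * (k * g)⁻¹) ^ c := by rw [key]
        _ = (k * g) * f ^ c * (k * g)⁻¹ := by rw [conj_zpow]
        _ = (k * g) * ((k * g)⁻¹ * f * (k * g)) * (k * g)⁻¹ := by rw [hc]
        _ = f := by group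
    rwa [mul_inv_eq_iff_eq_mul] at h2
  exact (mem_centralizer_singleton_iff.1 (h1 h.com)).symm

/-- elements of the centre of the layer with a square in a given `Z₄` commute with `t` -/
theorem A_comm {f : X} (hf : f ∈ layer X) (hfc : ∀ y ∈ layer X, f * y = y * f)
    (ff : f * f = 1 ∨ f * f = z ∨ (f * f) * (f * f) = z) : f * t = t * f := by
  have hLn : (layer X).Normal := layer_normal X
  have hg1 : ∀ {u : X}, u ∈ layer X → ∀ g : X, g * u * g⁻¹ ∈ layer X := fun hu g => hLn.conj_mem _ hu g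
  have hg2 : ∀ {u : X}, (∀ y ∈ layer X, u * y = y * u) → ∀ g : X, ∀ y ∈ layer X, g * u * g⁻¹ * y = y * (g * u * g⁻¹) := by
    intro u hu g y hy
    have h1 : g⁻¹ * y * g ∈ layer X := by
      have := hLn.conj_mem y hy g⁻¹
      rwa [inv_inv] at this
    have h2 := hu _ h1
    calc g * u * g⁻¹ * y = g * (u * (g⁻¹ * y * g)) * g⁻¹ := by group
      _ = g * (g⁻¹ * y * g * u) * g⁻¹ := by rw [h2]
      _ = y * (g * u * g⁻¹) := by group
  have hsq : ∀ (u g : X), g * u * g⁻¹ * (g * u * g⁻¹) = g * (u * u) * g⁻¹ := fun u g => by group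
  have hz : ∀ g : X, g * z * g⁻¹ = z := fun g => by rw [h.zc g, mul_inv_cancel_right]
  -- elements with the same square
  have hpm : ∀ {u w : X}, u ∈ layer X → (∀ y ∈ layer X, u * y = y * u) → w ∈ layer X →
      (∀ y ∈ layer X, w * y = y * w) → w * w = u * u → w = u ∨ w = u * z := by
    intro u w hu hu' hw hw' e
    have h1 : u⁻¹ * w ∈ layer X := mul_mem (inv_mem hu) hw
    have h2 : ∀ y ∈ layer X, u⁻¹ * w * y = y * (u⁻¹ * w) := fun y hy =>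
      ((show Commute u y from hu' y hy).inv_left.mul_left (show Commute w y from hw' y hy)).eq
    have h3 : u⁻¹ * w * (u⁻¹ * w) = 1 := by
      have c : Commute w u⁻¹ := (show Commute w u from hw' u hu).inv_right
      calc u⁻¹ * w * (u⁻¹ * w) = u⁻¹ * (w * u⁻¹) * w := by group
        _ = u⁻¹ * (u⁻¹ * w) * w := by rw [c.eq]
        _ = (u * u)⁻¹ * (w * w) := by group
        _ = 1 := by rw [e, inv_mul_cancel]
    rcases A_inv h h1 h2 h3 with e1 | e1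
    · left
      rw [inv_mul_eq_one] at e1; exact e1.symm
    · right
      rwa [inv_mul_eq_iff_eq_mul] at e1
  by_cases f1 : f * f = 1
  · rcases A_inv h hf hfc f1 with e | e
    · rw [e, one_mul, mul_one]
    · rw [e]; exact (h.zc t).symm
  by_cases f2 : f * f = z
  · apply comm_of_zpowers h
    intro g
    rcases hpm hf hfc (hg1 hf g) (hg2 hfc g) (by rw [hsq, f2, hz]) with e | e
    · rw [e]; exact mem_zpowers f
    · rw [e, ← f2]; exact mul_mem (mem_zpowers f) (mul_mem (mem_zpowers f) (mem_zpowers f))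
  have f3 : (f * f) * (f * f) = z := by
    rcases ff with e | e | e
    · exact absurd e f1
    · exact absurd e f2
    · exact e
  have hff : f * f ∈ layer X := mul_mem hf hf
  have hffc : ∀ y ∈ layer X, f * f * y = y * (f * f) := fun y hy =>
    ((show Commute f y from hfc y hy).mul_left (hfc y hy)).eq
  have hzp : z ∈ zpowers f := by
    rw [← f3]
    exact mul_mem (mul_mem (mem_zpowers f) (mem_zpowers f)) (mul_mem (mem_zpowers f) (mem_zpowers f))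
  apply comm_of_zpowers h
  intro g
  rcases hpm hff hffc (hg1 hff g) (hg2 hffc g) (by rw [hsq, f3, hz]) with e | e
  · rcases hpm hf hfc (hg1 hf g) (hg2 hfc g) (by rw [hsq, e]) with e' | e'
    · rw [e']; exact mem_zpowers f
    · rw [e']; exact mul_mem (mem_zpowers f) hzp
  · have hinv : (f * f) * z = f⁻¹ * f⁻¹ := by
      calc (f * f) * z = (f * f) * z * (f * f) * (f * f)⁻¹ := by group
        _ = (f * f) * (z * (f * f)) * (f * f)⁻¹ := by group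
        _ = (f * f) * ((f * f) * z) * (f * f)⁻¹ := by rw [h.zc (f * f)]
        _ = ((f * f) * (f * f)) * z * (f * f)⁻¹ := by group
        _ = f⁻¹ * f⁻¹ := by rw [f3, h.zz]; group
    have hfi : ∀ y ∈ layer X, f⁻¹ * y = y * f⁻¹ := fun y hy => (show Commute f y from hfc y hy).inv_left.eq
    rcases hpm (inv_mem hf) hfi (hg1 hf g) (hg2 hfc g) (by rw [hsq, e, hinv]) with e' | e'
    · rw [e']; exact inv_mem (mem_zpowers f)
    · rw [e']; exact mul_mem (inv_mem (mem_zpowers f)) hzp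

end

/-- an involution `t` acting on a 2-group `B`; the involutions of `C_B(t)` are in `⟨z⟩`, `C_B(t) < B` -/
theorem exists_move [Finite X] {t z : X} (tt : t * t = 1) {B : Subgroup X} (hB : IsPGroup 2 B)
    (hBt : ∀ b ∈ B, t * b * t⁻¹ ∈ B) (hfix : ∀ b ∈ B, b * t = t * b → b * b = 1 → b = 1 ∨ b = z)
    (hne : ∃ b ∈ B, b * t ≠ t * b) : ∃ v ∈ B, t * v * t⁻¹ = v * z := by
  have : Fact (Nat.Prime 2) := ⟨Nat.prime_two⟩
  have ti : t⁻¹ = t := inv_eq_of_mul_eq_one_right tt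
  have htN : zpowers t ≤ normalizer (B : Set X) := by
    rw [zpowers_le, mem_normalizer_iff]
    intro b
    refine ⟨fun hb => hBt b hb, fun hb => ?_⟩
    have h1 := hBt _ hb
    have h2 : t * (t * b * t⁻¹) * t⁻¹ = b := by
      calc t * (t * b * t⁻¹) * t⁻¹ = (t * t) * b * (t * t)⁻¹ := by group
        _ = b := by rw [tt]; group
    rwa [h2] at h1
  have htp : IsPGroup 2 (zpowers t) := NI.isPGroup_zp tt
  set P : Subgroup X := B ⊔ zpowers t with hP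
  have hPp : IsPGroup 2 P := IsPGroup.to_sup_of_normal_left' hB htp htN
  have htP : t ∈ P := (le_sup_right : zpowers t ≤ P) (mem_zpowers t)
  have hBP : B ≤ P := le_sup_left
  have hmem : ∀ x ∈ P, x ∈ B ∨ t * x ∈ B := by
    let P' : Subgroup X :=
      { carrier := {x | x ∈ B ∨ t * x ∈ B}
        one_mem' := Or.inl B.one_mem
        mul_mem' := by
          have key : ∀ b ∈ B, t * b * t ∈ B := fun b hb => by
            have := hBt b hb; rwa [ti] at this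
          rintro x y (hx | hx) (hy | hy)
          · exact Or.inl (B.mul_mem hx hy)
          · right
            have h1 := B.mul_mem (key x hx) hy
            have e : t * x * t * (t * y) = t * (x * y) := by
              calc t * x * t * (t * y) = t * x * (t * t) * y := by group
                _ = t * (x * y) := by rw [tt]; group
            rwa [e] at h1
          · right
            rw [← mul_assoc]; exact B.mul_mem hx hy
          · left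
            have h1 := B.mul_mem (key _ hx) hy
            have e : t * (t * x) * t * (t * y) = x * y := by
              calc t * (t * x) * t * (t * y) = (t * t) * x * (t * t) * y := by group
                _ = x * y := by rw [tt]; group
            rwa [e] at h1
        inv_mem' := by
          have key : ∀ b ∈ B, t * b * t ∈ B := fun b hb => by
            have := hBt b hb; rwa [ti] at this
          rintro x (hx | hx)
          · exact Or.inl (B.inv_mem hx)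
          · right
            have h1 := key _ (B.inv_mem hx)
            have e : t * (t * x)⁻¹ * t = t * x⁻¹ := by
              rw [mul_inv_rev, ti, mul_assoc, mul_assoc, tt, mul_one]
            rwa [e] at h1 }
    have h1 : P ≤ P' := by
      rw [hP, sup_le_iff, zpowers_le]
      exact ⟨fun x hx => Or.inl hx, Or.inr (by rw [tt]; exact B.one_mem)⟩
    exact h1
  set H : Subgroup X := P ⊓ centralizer ({t} : Set X) with hH
  have hHP : H < P := by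
    refine lt_of_le_of_ne inf_le_left ?_
    intro e
    obtain ⟨b, hb, hbt⟩ := hne
    have h1 : b ∈ H := by rw [e]; exact hBP hb
    exact hbt (mem_centralizer_singleton_iff.1 h1.2)
  have : Group.IsNilpotent P := hPp.isNilpotent
  obtain ⟨g, hgP, hgH, hgN⟩ := Cfsg.Agent.Transfer.FrobeniusFusion.exists_mem_normalizer_notMem hHP
  have htH : t ∈ H := ⟨htP, mem_centralizer_singleton_iff.2 rfl⟩
  -- an element of `B`
  obtain ⟨b, hbB, hbH, hbN⟩ : ∃ b ∈ B, b ∉ H ∧ b * t * b⁻¹ ∈ H := by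
    have h0 : g * t * g⁻¹ ∈ H := (mem_normalizer_iff.1 hgN t).1 htH
    rcases hmem g hgP with hg | hg
    · exact ⟨g, hg, hgH, h0⟩
    · refine ⟨t * g, hg, fun h => hgH ?_, ?_⟩
      · have h1 := H.mul_mem htH h
        rwa [← mul_assoc, tt, one_mul] at h1
      · have h1 := H.mul_mem (H.mul_mem htH h0) (H.inv_mem htH)
        have e : t * (g * t * g⁻¹) * t⁻¹ = t * g * t * (t * g)⁻¹ := by group
        rwa [e] at h1
  have hct : (b * t * b⁻¹) * t = t * (b * t * b⁻¹) := mem_centralizer_singleton_iff.1 hbN.2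
  set w := b * (t * b⁻¹ * t⁻¹) with hw'
  have hw : w ∈ B := B.mul_mem hbB (hBt _ (B.inv_mem hbB))
  have hwt : w * t = t * w := by
    have e : w = (b * t * b⁻¹) * t⁻¹ := by rw [hw']; group
    have c : Commute (b * t * b⁻¹) t := hct
    rw [e]
    exact (c.mul_left (Commute.refl t).inv_left).eq
  have hww : w * w = 1 := by
    have h1 : t * w * t⁻¹ = w⁻¹ := by
      calc t * w * t⁻¹ = (t * b * t⁻¹) * ((t * t) * b⁻¹ * (t * t)⁻¹) := by rw [hw']; group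
        _ = w⁻¹ := by rw [tt, hw']; group
    rw [← hwt, mul_inv_cancel_right] at h1
    calc w * w = w * w⁻¹ := by rw [← h1]
      _ = 1 := mul_inv_cancel w
  rcases hfix _ hw hwt hww with h1 | h1
  · exfalso
    apply hbH
    refine ⟨hBP hbB, mem_centralizer_singleton_iff.2 ?_⟩
    have h2 : b * t = t * b := by
      have e : b * t = b * (t * b⁻¹ * t⁻¹) * (t * b) := by group
      rw [e, ← hw', h1, one_mul]
    exact h2
  · refine ⟨b⁻¹, B.inv_mem hbB, ?_⟩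
    have e : t * b⁻¹ * t⁻¹ = b⁻¹ * (b * (t * b⁻¹ * t⁻¹)) := by group
    rw [e, ← hw', h1]

/-- the elements `v` of a component containing `Q₁` -/
theorem exists_v [Finite X] (h : HypB z t a₁ a₂ Q₁ Q₂) {M : Subgroup X} (hM : IsComponent M) (hQ : Q₁ ≤ M)
    (hcM : ∀ m ∈ M, ∀ y ∈ Q₂, m * y = y * m)
    (hfix : ∀ b ∈ M, Bt t Q₁ Q₂ b → b * b = 1 → b = 1 ∨ b = z) :
    (∃ v ∈ M, (∀ q ∈ Q₁, v * q = q * v) ∧ t * v * t⁻¹ = v * z) ∨
      ∃ W : Subgroup X, IsPGroup 2 W ∧ Q₁ ≤ W ∧ W ≤ M ∧ (∃ S : Sylow 2 M, (S : Subgroup M) = W.subgroupOf M) ∧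
        ∀ w ∈ W, (∀ q ∈ Q₁, w * q = q * w) → Bt t Q₁ Q₂ w := by
  have : Fact (Nat.Prime 2) := ⟨Nat.prime_two⟩
  have hct : Commute t z := h.zc t
  have htN : zpowers t ≤ normalizer (Q₁ : Set X) := by
    rw [zpowers_le, mem_normalizer_iff]
    intro b
    constructor
    · intro hb
      rw [← h.s₁.ct b hb, mul_inv_cancel_right]; exact hb
    · intro hb
      have h1 := h.s₁.ct _ hb
      have h2 : b = t⁻¹ * (t * b * t⁻¹) * t := by group
      rw [h2, mul_assoc, h1, inv_mul_cancel_left]; exact hb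
  obtain ⟨T, hT⟩ := (IsPGroup.to_sup_of_normal_left' h.s₁.pQ (NI.isPGroup_zp h.tt) htN).exists_le_sylow
  have htT : t ∈ (T : Subgroup X) := hT ((le_sup_right : zpowers t ≤ _) (mem_zpowers t))
  have hQT : Q₁ ≤ (T : Subgroup X) := le_sup_left.trans hT
  obtain ⟨S, hS⟩ := Cfsg.Agent.S0542.result 2 M hM.1 T
  set W : Subgroup X := (T : Subgroup X) ⊓ M with hW
  have hWp : IsPGroup 2 W := T.2.to_le inf_le_left
  have htm : ∀ x ∈ M, t * x * t⁻¹ ∈ M := fun x hx => by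
    have := conj_mem_cj (g := t) hx
    rwa [cj_t h hM] at this
  by_cases hB : ∃ b ∈ W ⊓ centralizer (Q₁ : Set X), b * t ≠ t * b
  · left
    have hBt : ∀ b ∈ W ⊓ centralizer (Q₁ : Set X), t * b * t⁻¹ ∈ W ⊓ centralizer (Q₁ : Set X) := by
      intro b hb
      refine ⟨⟨T.mul_mem (T.mul_mem htT hb.1.1) (T.inv_mem htT), htm b hb.1.2⟩, mem_centralizer_iff.2 ?_⟩
      intro q hq
      have c1 : Commute q t := h.s₁.ct q hq
      have c2 : Commute q b := mem_centralizer_iff.1 hb.2 q hq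
      exact ((c1.mul_right c2).mul_right c1.inv_right).eq
    obtain ⟨v, hv, hvt⟩ := exists_move h.tt (hWp.to_le inf_le_left) hBt (fun b hb hbt hbb =>
      hfix b hb.1.2 ⟨hbt, fun q hq => (mem_centralizer_iff.1 hb.2 q hq).symm, fun y hy => hcM b hb.1.2 y hy⟩ hbb) hB
    exact ⟨v, hv.1.2, fun q hq => (mem_centralizer_iff.1 hv.2 q hq).symm, hvt⟩
  · right
    push Not at hB
    refine ⟨W, hWp, le_inf hQT hQ, inf_le_right, ⟨S, by rw [hS, hW, inf_subgroupOf_right]⟩, fun w hw hwq => ?_⟩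
    exact ⟨hB w ⟨hw, mem_centralizer_iff.2 fun q hq => (hwq q hq).symm⟩, hwq, fun y hy => hcM w hw.2 y hy⟩

/-! ### Two components -/

/-- two distinct components containing `Q₁` resp. `Q₂` -/
structure Pr (Q₁ Q₂ M₁ M₂ : Subgroup X) : Prop where
  c₁ : IsComponent M₁
  c₂ : IsComponent M₂
  ne : M₁ ≠ M₂
  q₁ : Q₁ ≤ M₁
  q₂ : Q₂ ≤ M₂

namespace Pr

variable {M₁ M₂ : Subgroup X}

theorem symm (p : Pr Q₁ Q₂ M₁ M₂) : Pr Q₂ Q₁ M₂ M₁ := ⟨p.c₂, p.c₁, p.ne.symm, p.q₂, p.q₁⟩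

theorem comm (p : Pr Q₁ Q₂ M₁ M₂) : ∀ x ∈ M₁, ∀ y ∈ M₂, x * y = y * x := fun x hx y hy =>
  Cfsg.Agent.Cit.Comp.comm_of_ne p.c₁ p.c₂ p.ne hx hy

variable [Finite X]

theorem t_notMem (p : Pr Q₁ Q₂ M₁ M₂) (h : HypB z t a₁ a₂ Q₁ Q₂) : t ∉ M₁ := fun ht =>
  not_le h p.c₂.2 fun x hx => (p.comm t ht x hx).symm

theorem zM (p : Pr Q₁ Q₂ M₁ M₂) (h : HypB z t a₁ a₂ Q₁ Q₂) : z ∈ M₁ := p.q₁ h.s₁.zQ

/-- only `M₂` contains `Q₂` -/
theorem uniq₂ (p : Pr Q₁ Q₂ M₁ M₂) (h : HypB z t a₁ a₂ Q₁ Q₂) {N : Subgroup X} (hN : IsComponent N)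
    (hQ : Q₂ ≤ N) : N = M₂ := by
  by_contra hne
  exact h.s₂.not_comm fun _ hx _ hy => Cfsg.Agent.Cit.Comp.comm_of_ne hN p.c₂ hne (hQ hx) (p.q₂ hy)

/-- `M₁ ∩ B` -/
theorem cases₁ (p : Pr Q₁ Q₂ M₁ M₂) (h : HypB z t a₁ a₂ Q₁ Q₂) {b : X} (hb : b ∈ M₁)
    (hB : Bt t Q₁ Q₂ b) : b = 1 ∨ b = z ∨ b * b = z := by
  have ht := p.t_notMem h
  have hz := p.zM h
  have key : ∀ u ∈ M₁, T4 z t u → u = 1 ∨ u = z := by
    rintro u hu (e | e | e | e)
    · exact Or.inl e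
    · exact Or.inr e
    · exact absurd (e ▸ hu) ht
    · exfalso
      apply ht
      have : t = u * z := by rw [e, mul_assoc, h.zz, mul_one]
      rw [this]; exact M₁.mul_mem hu hz
  by_cases h4 : T4 z t b
  · rcases key b hb h4 with e | e
    · exact Or.inl e
    · exact Or.inr (Or.inl e)
  · rcases key (b * b) (M₁.mul_mem hb hb) (h.Bsq b hB) with e | e
    · exfalso
      exact h.refl b ⟨hB, e, h4⟩ M₂ p.c₂ (Or.inr p.q₂) fun m hm => p.comm b hb m hm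
    · exact Or.inr (Or.inr e)

theorem inv₁ (p : Pr Q₁ Q₂ M₁ M₂) (h : HypB z t a₁ a₂ Q₁ Q₂) {b : X} (hb : b ∈ M₁)
    (hB : Bt t Q₁ Q₂ b) (hbb : b * b = 1) : b = 1 ∨ b = z := by
  rcases p.cases₁ h hb hB with e | e | e
  · exact Or.inl e
  · exact Or.inr e
  · rw [hbb] at e; exact absurd e.symm h.z1

/-- elements of `M₁ ∩ M₂` commute with `t` -/
theorem mid_comm (p : Pr Q₁ Q₂ M₁ M₂) (h : HypB z t a₁ a₂ Q₁ Q₂) {f : X} (h1 : f ∈ M₁) (h2 : f ∈ M₂)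
    (ff : f * f = 1 ∨ f * f = z ∨ (f * f) * (f * f) = z) : f * t = t * f :=
  A_comm h (component_le_layer p.c₁ h1) (comm_layer p.c₁ p.c₂ p.ne h1 h2) ff

theorem mid_bt (p : Pr Q₁ Q₂ M₁ M₂) (h : HypB z t a₁ a₂ Q₁ Q₂) {f : X} (h1 : f ∈ M₁) (h2 : f ∈ M₂)
    (ff : f * f = 1 ∨ f * f = z ∨ (f * f) * (f * f) = z) : Bt t Q₁ Q₂ f :=
  ⟨p.mid_comm h h1 h2 ff, fun q hq => (p.comm q (p.q₁ hq) f h2).symm, fun q hq => p.comm f h1 q (p.q₂ hq)⟩

/-- an element moved by `t` -/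
theorem not_comm_t (h : HypB z t a₁ a₂ Q₁ Q₂) {v : X} (hv : t * v * t⁻¹ = v * z) : v * t ≠ t * v := by
  intro e
  rw [← e, mul_inv_cancel_right] at hv
  exact h.z1 (mul_eq_left.1 hv.symm)

/-- `(v²)^t = v²` -/
theorem sq_comm (h : HypB z t a₁ a₂ Q₁ Q₂) {v : X} (hv : t * v * t⁻¹ = v * z) : v * v * t = t * (v * v) := by
  have h1 : t * (v * v) * t⁻¹ = v * v := by
    calc t * (v * v) * t⁻¹ = (t * v * t⁻¹) * (t * v * t⁻¹) := by group
      _ = v * z * (v * z) := by rw [hv]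
      _ = v * (z * v) * z := by group
      _ = v * (v * z) * z := by rw [h.zc v]
      _ = v * v * (z * z) := by group
      _ = v * v := by rw [h.zz, mul_one]
  rw [mul_inv_eq_iff_eq_mul] at h1
  exact h1.symm

/-- `v₁ v₂ ∈ B` -/
theorem mul_bt (p : Pr Q₁ Q₂ M₁ M₂) (h : HypB z t a₁ a₂ Q₁ Q₂) {v₁ v₂ : X} (h1 : v₁ ∈ M₁)
    (h1q : ∀ q ∈ Q₁, v₁ * q = q * v₁) (h1t : t * v₁ * t⁻¹ = v₁ * z) (h2 : v₂ ∈ M₂)
    (h2q : ∀ q ∈ Q₂, v₂ * q = q * v₂) (h2t : t * v₂ * t⁻¹ = v₂ * z) : Bt t Q₁ Q₂ (v₁ * v₂) := by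
  refine ⟨?_, fun q hq => ?_, fun q hq => ?_⟩
  · have h3 : t * (v₁ * v₂) * t⁻¹ = v₁ * v₂ := by
      calc t * (v₁ * v₂) * t⁻¹ = (t * v₁ * t⁻¹) * (t * v₂ * t⁻¹) := by group
        _ = v₁ * z * (v₂ * z) := by rw [h1t, h2t]
        _ = v₁ * (z * v₂) * z := by group
        _ = v₁ * (v₂ * z) * z := by rw [h.zc v₂]
        _ = v₁ * v₂ * (z * z) := by group
        _ = v₁ * v₂ := by rw [h.zz, mul_one]
    rw [mul_inv_eq_iff_eq_mul] at h3
    exact h3.symm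
  · have c1 : Commute v₁ q := h1q q hq
    have c2 : Commute v₂ q := (p.comm q (p.q₁ hq) v₂ h2).symm
    exact (c1.mul_left c2).eq
  · have c1 : Commute v₁ q := p.comm v₁ h1 q (p.q₂ hq)
    have c2 : Commute v₂ q := h2q q hq
    exact (c1.mul_left c2).eq

/-- `v₁ v₂ ∉ ⟨t, z⟩` (if `v₁` cannot lie in `M₁ ∩ M₂`) -/
theorem mul_not_T4 (p : Pr Q₁ Q₂ M₁ M₂) (h : HypB z t a₁ a₂ Q₁ Q₂) {v₁ v₂ : X} (h1 : v₁ ∈ M₁)
    (h1t : t * v₁ * t⁻¹ = v₁ * z) (h2 : v₂ ∈ M₂) (hv : v₁ ∉ M₂) : ¬ T4 z t (v₁ * v₂) := by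
  have hz2 : z ∈ M₂ := p.symm.zM (symmB h)
  have c12 : Commute v₁ v₂ := p.comm v₁ h1 v₂ h2
  have key : ∀ e : X, v₁ * v₂ = e → v₁ = e * v₂⁻¹ := fun e he => by rw [← he, mul_inv_cancel_right]
  rintro (e | e | e | e)
  · apply hv
    rw [key _ e]; exact M₂.mul_mem M₂.one_mem (M₂.inv_mem h2)
  · apply hv
    rw [key _ e]; exact M₂.mul_mem hz2 (M₂.inv_mem h2)
  · apply not_comm_t h h1t
    rw [← e]
    exact ((Commute.refl v₁).mul_right c12).eq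
  · apply not_comm_t h h1t
    have e1 : t = v₁ * v₂ * z := by rw [e, mul_assoc, h.zz, mul_one]
    rw [e1]
    exact (((Commute.refl v₁).mul_right c12).mul_right (h.zc v₁)).eq

/-- conjugates of `M₁`, `M₂` -/
theorem perm (p : Pr Q₁ Q₂ M₁ M₂) {u w₁ w₂ g : X} (hu₁ : ∃ m ∈ M₁, m * u ≠ u * m)
    (hu₂ : ∃ m ∈ M₂, m * u ≠ u * m) (hw₁ : w₁ ∈ M₁) (hw₂ : w₂ ∈ M₂) (hg : g * u * g⁻¹ = w₁ * w₂) :
    (cj g M₁ = M₁ ∧ cj g M₂ = M₂) ∨ (cj g M₁ = M₂ ∧ cj g M₂ = M₁) := by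
  have hcomp : ∀ {N : Subgroup X}, IsComponent N → (∃ m ∈ N, m * u ≠ u * m) → cj g N = M₁ ∨ cj g N = M₂ := by
    intro N hN hm
    by_contra hne
    push Not at hne
    obtain ⟨m, hm, hmu⟩ := hm
    have hN' := Cfsg.Agent.Cit.Comp.isComponent_cj hN g
    have hgm : g * m * g⁻¹ ∈ cj g N := conj_mem_cj hm
    have c1 : Commute (g * m * g⁻¹) w₁ := Cfsg.Agent.Cit.Comp.comm_of_ne hN' p.c₁ hne.1 hgm hw₁
    have c2 : Commute (g * m * g⁻¹) w₂ := Cfsg.Agent.Cit.Comp.comm_of_ne hN' p.c₂ hne.2 hgm hw₂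
    have c3 := (c1.mul_right c2).eq
    rw [← hg] at c3
    apply hmu
    calc m * u = g⁻¹ * (g * m * g⁻¹ * (g * u * g⁻¹)) * g := by group
      _ = g⁻¹ * (g * u * g⁻¹ * (g * m * g⁻¹)) * g := by rw [c3]
      _ = u * m := by group
  have hinj : cj g M₁ ≠ cj g M₂ := by
    intro e
    apply p.ne
    have hback : ∀ N : Subgroup X, ∀ x, x ∈ N ↔ g * x * g⁻¹ ∈ cj g N := by
      intro N x
      rw [mem_cj]
      have e1 : g⁻¹ * (g * x * g⁻¹) * g = x := by group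
      rw [e1]
    ext x
    rw [hback M₁ x, hback M₂ x, e]
  rcases hcomp p.c₁ hu₁ with e1 | e1 <;> rcases hcomp p.c₂ hu₂ with e2 | e2
  · exact absurd (e1.trans e2.symm) hinj
  · exact Or.inl ⟨e1, e2⟩
  · exact Or.inr ⟨e1, e2⟩
  · exact absurd (e1.trans e2.symm) hinj

/-- comparison of the two factorisations -/
theorem fac (p : Pr Q₁ Q₂ M₁ M₂) {u m₁ m₂ w₁ w₂ g e : X} (hu₁ : ∃ m ∈ M₁, m * u ≠ u * m)
    (hu₂ : ∃ m ∈ M₂, m * u ≠ u * m) (hm₁ : m₁ ∈ M₁) (hm₂ : m₂ ∈ M₂) (hu : u = m₁ * m₂) (hw₁ : w₁ ∈ M₁)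
    (hw₂ : w₂ ∈ M₂) (hg : g * u * g⁻¹ = w₁ * w₂) (ge : g * e * g⁻¹ = e) (e₁ : m₁ * m₁ = e) (e₂ : m₂ * m₂ = e)
    (ew : w₁ * w₁ = e * z) : ∃ f ∈ M₁, f ∈ M₂ ∧ f * f = z := by
  have key : ∀ n₁ ∈ M₁, ∀ n₂ ∈ M₂, n₁ * n₂ = w₁ * w₂ → n₁ * n₁ = e → ∃ f ∈ M₁, f ∈ M₂ ∧ f * f = z := by
    intro n₁ hn₁ n₂ hn₂ hn hne
    have e3 : n₁⁻¹ * w₁ = n₂ * w₂⁻¹ := by
      calc n₁⁻¹ * w₁ = n₁⁻¹ * (w₁ * w₂) * w₂⁻¹ := by group
        _ = n₁⁻¹ * (n₁ * n₂) * w₂⁻¹ := by rw [hn]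
        _ = n₂ * w₂⁻¹ := by group
    refine ⟨n₁⁻¹ * w₁, M₁.mul_mem (M₁.inv_mem hn₁) hw₁, ?_, ?_⟩
    · rw [e3]; exact M₂.mul_mem hn₂ (M₂.inv_mem hw₂)
    · set f := n₁⁻¹ * w₁ with hf
      have hf2 : f ∈ M₂ := by rw [e3]; exact M₂.mul_mem hn₂ (M₂.inv_mem hw₂)
      have c : n₁ * f = f * n₁ := p.comm n₁ hn₁ f hf2
      have e4 : w₁ = n₁ * f := by rw [hf]; group
      rw [e4] at ew
      have e5 : n₁ * f * (n₁ * f) = e * (f * f) := by
        calc n₁ * f * (n₁ * f) = n₁ * (f * n₁) * f := by group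
          _ = n₁ * (n₁ * f) * f := by rw [c]
          _ = (n₁ * n₁) * (f * f) := by group
          _ = e * (f * f) := by rw [hne]
      rw [e5] at ew
      exact mul_left_cancel ew
  have hconj : ∀ m : X, m * m = e → g * m * g⁻¹ * (g * m * g⁻¹) = e := by
    intro m hm
    calc g * m * g⁻¹ * (g * m * g⁻¹) = g * (m * m) * g⁻¹ := by group
      _ = e := by rw [hm, ge]
  have hgu : (g * m₁ * g⁻¹) * (g * m₂ * g⁻¹) = w₁ * w₂ := by
    rw [← hg, hu]; group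
  rcases p.perm hu₁ hu₂ hw₁ hw₂ hg with ⟨p1, p2⟩ | ⟨p1, p2⟩
  · exact key _ (by rw [← p1]; exact conj_mem_cj hm₁) _ (by rw [← p2]; exact conj_mem_cj hm₂) hgu (hconj _ e₁)
  · have h1 : g * m₂ * g⁻¹ ∈ M₁ := by rw [← p2]; exact conj_mem_cj hm₂
    have h2 : g * m₁ * g⁻¹ ∈ M₂ := by rw [← p1]; exact conj_mem_cj hm₁
    exact key _ h1 _ h2 (by rw [p.comm _ h1 _ h2]; exact hgu) (hconj _ e₂)

theorem exists_not_comm (p : Pr Q₁ Q₂ M₁ M₂) (h : HypB z t a₁ a₂ Q₁ Q₂) : ∃ m ∈ M₁, m * t ≠ t * m := by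
  by_contra hcon
  push Not at hcon
  exact not_le h p.c₁.2 hcon

/-- `v₁ v₂` is not trivial on `M₁` -/
theorem exists_not_comm' (p : Pr Q₁ Q₂ M₁ M₂) (h : HypB z t a₁ a₂ Q₁ Q₂) {v₁ v₂ : X} (h1 : v₁ ∈ M₁)
    (h1t : t * v₁ * t⁻¹ = v₁ * z) (h2 : v₂ ∈ M₂) (hsq : v₁ * v₁ = 1 ∨ v₁ * v₁ = z) :
    ∃ m ∈ M₁, m * (v₁ * v₂) ≠ v₁ * v₂ * m := by
  by_contra hcon
  push Not at hcon
  have h3 : ∀ m ∈ M₁, v₁ * m = m * v₁ := by
    intro m hm
    have c2 : Commute m v₂ := p.comm m hm v₂ h2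
    have c3 : Commute m (v₁ * v₂) := hcon m hm
    have c4 : Commute m v₁ := by
      have e : v₁ = v₁ * v₂ * v₂⁻¹ := by group
      rw [e]; exact c3.mul_right c2.inv_right
    exact c4.symm.eq
  have h4 : ∀ y ∈ layer X, v₁ * y = y * v₁ := by
    intro y hy
    have h5 : layer X ≤ centralizer ({v₁} : Set X) := by
      rw [layer_le_iff]
      intro K hK k hk
      rw [mem_centralizer_singleton_iff]
      by_cases e : K = M₁
      · subst e
        exact (h3 k hk).symm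
      · exact Cfsg.Agent.Cit.Comp.comm_of_ne hK p.c₁ e hk h1
    exact (mem_centralizer_singleton_iff.1 (h5 hy)).symm
  exact not_comm_t h h1t (A_comm h (component_le_layer p.c₁ h1) h4 (by
    rcases hsq with e | e
    · exact Or.inl e
    · exact Or.inr (Or.inl e)))

/-- a Sylow 2-subgroup of `M₁` with `C_W(Q₁) = ⟨z⟩` -/
theorem rank_one (p : Pr Q₁ Q₂ M₁ M₂) (h : HypB z t a₁ a₂ Q₁ Q₂) {W : Subgroup X} (hWp : IsPGroup 2 W)
    (hQW : Q₁ ≤ W) {S : Sylow 2 M₁} (hS : (S : Subgroup M₁) = W.subgroupOf M₁) (hWM : W ≤ M₁)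
    (hB : ∀ w ∈ W, (∀ q ∈ Q₁, w * q = q * w) → w = 1 ∨ w = z) : ∀ x ∈ M₁, x * x = 1 → x = 1 ∨ x = z := by
  obtain ⟨C, hCW, hCi, hCu⟩ := exists_index_two h.s₁ h.zc h.zz h.z1 hWp hQW hB
  intro u hu huu
  obtain ⟨g, hg⟩ := CaseM.exists_conj_of_perfect p.c₁.2.1 S (C.subgroupOf M₁)
    (by rw [hS]; exact comap_mono hCW)
    (by rw [hS, relIndex_subgroupOf hWM, hCi]) ⟨u, hu⟩ (Subtype.ext huu)
  have hg' : (g : X) * u * (g : X)⁻¹ ∈ C := hg
  rcases hCu _ hg' (by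
      calc (g : X) * u * (g : X)⁻¹ * ((g : X) * u * (g : X)⁻¹) = g * (u * u) * (g : X)⁻¹ := by group
        _ = 1 := by rw [huu, mul_one, mul_inv_cancel]) with e | e
  · exact Or.inl (conj_eq_one_iff.1 e)
  · right
    have : u = (g : X)⁻¹ * (g * u * (g : X)⁻¹) * g := by group
    rw [this, e, h.zc (g : X)⁻¹, inv_mul_cancel_right]

/-- **(6.1)**, one side: `v₁` exists -/
theorem case1_v (p : Pr Q₁ Q₂ M₁ M₂) (h : HypB z t a₁ a₂ Q₁ Q₂) {i : X} (hi₁ : i ∈ M₁) (hi₂ : i ∈ M₂)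
    (hiB : Bt t Q₁ Q₂ i) (hii : i * i = z) : ∃ v ∈ M₁, (∀ q ∈ Q₁, v * q = q * v) ∧ t * v * t⁻¹ = v * z := by
  have : Fact (Nat.Prime 2) := ⟨Nat.prime_two⟩
  rcases exists_v h p.c₁ p.q₁ (fun m hm y hy => p.comm m hm y (p.q₂ hy)) (fun b hb hB hbb => p.inv₁ h hb hB hbb)
    with hv | ⟨W, hWp, hQW, hWM, ⟨S, hS⟩, hWB⟩
  · exact hv
  exfalso
  have hic : ∀ m ∈ M₁, i * m = m * i := fun m hm => (p.comm m hm i hi₂).symm
  -- `i ∈ W`
  have hiW : i ∈ W := by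
    have hicM : ∀ m : M₁, (⟨i, hi₁⟩ : M₁) * m = m * ⟨i, hi₁⟩ := fun m => Subtype.ext (hic m m.2)
    have hzn : zpowers (⟨i, hi₁⟩ : M₁) ≤ Subgroup.center M₁ := by
      rw [zpowers_le, mem_center_iff]
      intro g
      exact (hicM g).symm
    have hpi : IsPGroup 2 (zpowers (⟨i, hi₁⟩ : M₁)) := by
      rintro ⟨y, hy⟩
      obtain ⟨k, rfl⟩ := mem_zpowers_iff.1 hy
      refine ⟨2, Subtype.ext (Subtype.ext ?_)⟩
      show (i ^ k) ^ 2 ^ 2 = 1
      have h4 : i ^ 4 = 1 := by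
        rw [show (4 : ℕ) = 2 * 2 from rfl, pow_mul, pow_two i, hii, pow_two, h.zz]
      rw [show (2 ^ 2 : ℕ) = 4 from rfl, ← zpow_natCast, ← zpow_mul, mul_comm, zpow_mul, zpow_natCast, h4, one_zpow]
    have hnor : (zpowers (⟨i, hi₁⟩ : M₁)).Normal := by
      refine ⟨fun n hn g => ?_⟩
      have h5 := mem_center_iff.1 (hzn hn) g
      rw [h5, mul_inv_cancel_right]; exact hn
    have h5 : zpowers (⟨i, hi₁⟩ : M₁) ≤ (S : Subgroup M₁) := by
      have hsup : IsPGroup 2 (zpowers (⟨i, hi₁⟩ : M₁) ⊔ (S : Subgroup M₁) : Subgroup M₁) :=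
        IsPGroup.to_sup_of_normal_left hpi S.isPGroup'
      have h6 := S.is_maximal' hsup le_sup_right
      exact le_sup_left.trans h6.le
    have h6 := h5 (mem_zpowers _)
    rw [hS] at h6
    exact mem_subgroupOf.1 h6
  obtain ⟨C, hCW, hCi, hCab⟩ := ZFour.exists_abelian h.s₁ h.zc h.zz h.z1 hWp hQW hiW
    (fun w hw => hic w (hWM hw)) hii (by
    intro w hw hwq
    have hwB := hWB w hw hwq
    rcases p.cases₁ h (hWM hw) hwB with e | e | e
    · exact Or.inl e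
    · exact Or.inr (Or.inl e)
    · have hzz : z ∈ M₁ := p.zM h
      have hwi : i⁻¹ * w ∈ M₁ := M₁.mul_mem (M₁.inv_mem hi₁) (hWM hw)
      rcases h.Bu i w hiB hwB hii e with e1 | e1 | e1 | e1
      · right; right; left
        rw [inv_mul_eq_one] at e1; exact e1.symm
      · right; right; right
        rwa [inv_mul_eq_iff_eq_mul] at e1
      · exact absurd (e1 ▸ hwi) (p.t_notMem h)
      · exfalso
        apply p.t_notMem h
        have e2 : t = i⁻¹ * w * z := by rw [e1, mul_assoc, h.zz, mul_one]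
        rw [e2]; exact M₁.mul_mem hwi hzz)
  have hperf : _root_.commutator M₁ = ⊤ := p.c₁.2.1.commutator_eq_top
  have hiS : (⟨i, hi₁⟩ : M₁) ∈ (S : Subgroup M₁) := by rw [hS]; exact mem_subgroupOf.2 hiW
  refine ZFour.false_of_abelian hperf S hiS (fun m => Subtype.ext (hic m m.2)) ?_ (C := C.subgroupOf M₁) ?_ ?_
  · intro e
    have e1 : i * i = 1 := congrArg Subtype.val e
    rw [hii] at e1
    exact h.z1 e1
  · rw [hS, relIndex_subgroupOf hWM, hCi]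
  · intro x hx _ y hy _
    exact Subtype.ext (hCab x (mem_subgroupOf.1 hx) y (mem_subgroupOf.1 hy))

/-- **(6.1)** -/
theorem case1 (p : Pr Q₁ Q₂ M₁ M₂) (h : HypB z t a₁ a₂ Q₁ Q₂) {i : X} (hi₁ : i ∈ M₁) (hi₂ : i ∈ M₂)
    (hiB : Bt t Q₁ Q₂ i) (hii : i * i = z) : False := by
  obtain ⟨v₁, h1, h1q, h1t⟩ := p.case1_v h hi₁ hi₂ hiB hii
  obtain ⟨v₂, h2, h2q, h2t⟩ := p.symm.case1_v (symmB h) hi₂ hi₁ (bt_symm hiB) hii
  have hyB := p.mul_bt h h1 h1q h1t h2 h2q h2t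
  have hz₂ : z ∈ M₂ := p.symm.zM (symmB h)
  -- squares
  have hsq : v₁ * v₁ = 1 ∨ v₁ * v₁ = z ∨ (v₁ * v₁) * (v₁ * v₁) = z := by
    refine p.cases₁ h (M₁.mul_mem h1 h1) ⟨sq_comm h h1t, fun q hq => ?_, fun q hq => ?_⟩
    · have c : Commute v₁ q := h1q q hq
      exact (c.mul_left c).eq
    · have c : Commute v₁ q := p.comm v₁ h1 q (p.q₂ hq)
      exact (c.mul_left c).eq
  have hv12 : v₁ ∉ M₂ := fun hv => not_comm_t h h1t (p.mid_comm h h1 hv hsq)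
  have hT := p.mul_not_T4 h h1 h1t h2 hv12
  have c12 : Commute v₁ v₂ := p.comm v₁ h1 v₂ h2
  have ci1 : Commute i v₁ := (p.comm v₁ h1 i hi₂).symm
  have ci2 : Commute i v₂ := p.comm i hi₁ v₂ h2
  have hiy : i * (v₁ * v₂) = v₁ * v₂ * i := (ci1.mul_right ci2).eq
  have hty : ∀ e : X, Commute v₁ e → v₁ * v₂ * e ≠ t := by
    intro e ce he
    apply not_comm_t h h1t
    rw [← he]
    exact (((Commute.refl v₁).mul_right c12).mul_right ce).eq
  rcases h.Bsq _ hyB with e | e | e | e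
  · -- a reflection: `i y` has square `z`
    have h3 : i * (v₁ * v₂) * (i * (v₁ * v₂)) = z := by
      calc i * (v₁ * v₂) * (i * (v₁ * v₂)) = i * (v₁ * v₂) * (v₁ * v₂ * i) := by rw [hiy]
        _ = i * (v₁ * v₂ * (v₁ * v₂)) * i := by group
        _ = z := by rw [e, mul_one, hii]
    have h4 : Bt t Q₁ Q₂ (i * (v₁ * v₂)) := by
      refine ⟨?_, fun q hq => ?_, fun q hq => ?_⟩
      · exact ((show Commute i t from hiB.1).mul_left hyB.1).eq
      · exact ((show Commute i q from hiB.2.1 q hq).mul_left (hyB.2.1 q hq)).eq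
      · exact ((show Commute i q from hiB.2.2 q hq).mul_left (hyB.2.2 q hq)).eq
    have h5 := h.Bu i _ hiB h4 hii h3
    rw [inv_mul_cancel_left] at h5
    exact hT h5
  · -- square `z`
    have h5 := h.Bu i _ hiB hyB hii e
    have hi' : i⁻¹ * (v₁ * v₂) = v₁ * v₂ * i⁻¹ := ((ci1.mul_right ci2).inv_left).eq
    rcases h5 with e1 | e1 | e1 | e1
    · apply hv12
      have e2 : v₁ = i * v₂⁻¹ := by
        rw [inv_mul_eq_one] at e1
        rw [e1]; group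
      rw [e2]; exact M₂.mul_mem hi₂ (M₂.inv_mem h2)
    · apply hv12
      have e2 : v₁ = i * z * v₂⁻¹ := by
        rw [inv_mul_eq_iff_eq_mul] at e1
        rw [← e1]; group
      rw [e2]; exact M₂.mul_mem (M₂.mul_mem hi₂ hz₂) (M₂.inv_mem h2)
    · exact hty i⁻¹ ci1.symm.inv_right (by rw [← hi', e1])
    · refine hty (i⁻¹ * z) (ci1.symm.inv_right.mul_right (h.zc v₁)) ?_
      rw [← mul_assoc, ← hi', e1, mul_assoc, h.zz, mul_one]
  · refine hty (v₁ * v₂) ((Commute.refl v₁).mul_right c12) e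
  · refine hty (v₁ * v₂ * z) (((Commute.refl v₁).mul_right c12).mul_right (h.zc v₁)) ?_
    rw [← mul_assoc, e, mul_assoc, h.zz, mul_one]

/-- **(6.2)** -/
theorem case2 (p : Pr Q₁ Q₂ M₁ M₂) (h : HypB z t a₁ a₂ Q₁ Q₂) (hF : FusT z t Q₁ Q₂) {m₁ m₂ : X} (h1 : m₁ ∈ M₁)
    (h1B : Bt t Q₁ Q₂ m₁) (h1s : m₁ * m₁ = z) (h2 : m₂ ∈ M₂) (h2s : m₂ * m₂ = z) (ht : t = m₁ * m₂) : False := by
  obtain ⟨g, q₁, hq₁, q₂, hq₂, e1, e2, hg⟩ := hF
  have hg' : g * t * g⁻¹ = (m₁ * q₁) * (m₂ * q₂) := by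
    rw [hg]
    have c : m₂ * q₁ = q₁ * m₂ := (p.comm q₁ (p.q₁ hq₁) m₂ h2).symm
    calc t * (q₁ * q₂) = m₁ * (m₂ * q₁) * q₂ := by rw [ht]; group
      _ = (m₁ * q₁) * (m₂ * q₂) := by rw [c]; group
  have hw : m₁ * q₁ * (m₁ * q₁) = z * z := by
    have c : Commute m₁ q₁ := h1B.2.1 q₁ hq₁
    calc m₁ * q₁ * (m₁ * q₁) = m₁ * (q₁ * m₁) * q₁ := by group
      _ = m₁ * (m₁ * q₁) * q₁ := by rw [c.eq]
      _ = (m₁ * m₁) * (q₁ * q₁) := by group
      _ = z * z := by rw [h1s, e1]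
  obtain ⟨f, hf1, hf2, hff⟩ := p.fac (p.exists_not_comm h) (p.symm.exists_not_comm (symmB h)) h1 h2 ht
    (M₁.mul_mem h1 (p.q₁ hq₁)) (M₂.mul_mem h2 (p.q₂ hq₂)) hg' (by rw [h.zc g, mul_inv_cancel_right]) h1s h2s hw
  exact p.case1 h hf1 hf2 (p.mid_bt h hf1 hf2 (Or.inr (Or.inl hff))) hff

/-- squares of `v` when `M₁ ∩ B = ⟨z⟩` -/
theorem sq_cases (p : Pr Q₁ Q₂ M₁ M₂) (h : HypB z t a₁ a₂ Q₁ Q₂) (hN : ∀ b ∈ M₁, Bt t Q₁ Q₂ b → b * b ≠ z)
    {v : X} (h1 : v ∈ M₁) (h1q : ∀ q ∈ Q₁, v * q = q * v) (h1t : t * v * t⁻¹ = v * z) :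
    v * v = 1 ∨ v * v = z := by
  have hB : Bt t Q₁ Q₂ (v * v) := by
    refine ⟨sq_comm h h1t, fun q hq => ?_, fun q hq => ?_⟩
    · have c : Commute v q := h1q q hq
      exact (c.mul_left c).eq
    · have c : Commute v q := p.comm v h1 q (p.q₂ hq)
      exact (c.mul_left c).eq
  rcases p.cases₁ h (M₁.mul_mem h1 h1) hB with e | e | e
  · exact Or.inl e
  · exact Or.inr e
  · exact absurd e (hN _ (M₁.mul_mem h1 h1) hB)

/-- the element `p` of (K4) maps `M₁` to `M₂` and `v₁` to `v₂⟨z⟩` -/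
theorem sq_eq (p : Pr Q₁ Q₂ M₁ M₂) (h : HypB z t a₁ a₂ Q₁ Q₂) (hN₁ : ∀ b ∈ M₁, Bt t Q₁ Q₂ b → b * b ≠ z)
    (hN₂ : ∀ b ∈ M₂, Bt t Q₁ Q₂ b → b * b ≠ z) {v₁ v₂ : X} (h1 : v₁ ∈ M₁)
    (h1q : ∀ q ∈ Q₁, v₁ * q = q * v₁) (h1t : t * v₁ * t⁻¹ = v₁ * z) (h2 : v₂ ∈ M₂)
    (h2q : ∀ q ∈ Q₂, v₂ * q = q * v₂) (h2t : t * v₂ * t⁻¹ = v₂ * z) : v₁ * v₁ = v₂ * v₂ := by
  obtain ⟨s, hst, hs₁, hs₂⟩ := h.swap
  have hfin := h.s₁.finite
  have hmap : Q₁.map (MulAut.conj s).toMonoidHom = Q₂ := by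
    have := h.s₂.finite
    apply Subgroup.eq_of_le_of_card_ge
    · rintro _ ⟨x, hx, rfl⟩
      exact hs₁ x hx
    · rw [h.s₂.card, ← h.s₁.card]
      exact (Nat.card_congr (Q₁.equivMapOfInjective _ (MulAut.conj s).injective).toEquiv).le
  have hcj : cj s M₁ = M₂ := by
    apply p.uniq₂ h (Cfsg.Agent.Cit.Comp.isComponent_cj p.c₁ s)
    rw [← hmap]
    rintro _ ⟨x, hx, rfl⟩
    exact conj_mem_cj (p.q₁ hx)
  set w := s * v₁ * s⁻¹ with hw
  have hwM : w ∈ M₂ := by rw [← hcj]; exact conj_mem_cj h1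
  have hwt : t * w * t⁻¹ = w * z := by
    have c : Commute s t := hst
    calc t * w * t⁻¹ = (t * s) * v₁ * (t * s)⁻¹ := by rw [hw]; group
      _ = (s * t) * v₁ * (s * t)⁻¹ := by rw [c.eq]
      _ = s * (t * v₁ * t⁻¹) * s⁻¹ := by group
      _ = s * v₁ * (z * s⁻¹) := by rw [h1t]; group
      _ = s * v₁ * (s⁻¹ * z) := by rw [h.zc s⁻¹]
      _ = w * z := by rw [hw]; group
  have hwq : ∀ q ∈ Q₂, w * q = q * w := by
    intro q hq
    rw [← hmap] at hq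
    obtain ⟨x, hx, rfl⟩ := hq
    show s * v₁ * s⁻¹ * (s * x * s⁻¹) = s * x * s⁻¹ * (s * v₁ * s⁻¹)
    calc s * v₁ * s⁻¹ * (s * x * s⁻¹) = s * (v₁ * x) * s⁻¹ := by group
      _ = s * (x * v₁) * s⁻¹ := by rw [h1q x hx]
      _ = s * x * s⁻¹ * (s * v₁ * s⁻¹) := by group
  have hww : w * w = v₁ * v₁ := by
    have e : w * w = s * (v₁ * v₁) * s⁻¹ := by rw [hw]; group
    rw [e]
    rcases p.sq_cases h hN₁ h1 h1q h1t with e | e
    · rw [e]; group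
    · rw [e, h.zc s, mul_inv_cancel_right]
  -- `w v₂⁻¹ ∈ B ∩ M₂`
  have hc : Bt t Q₁ Q₂ (w * v₂⁻¹) := by
    refine ⟨?_, fun q hq => ?_, fun q hq => ?_⟩
    · have e : t * (w * v₂⁻¹) * t⁻¹ = w * v₂⁻¹ := by
        calc t * (w * v₂⁻¹) * t⁻¹ = (t * w * t⁻¹) * (t * v₂ * t⁻¹)⁻¹ := by group
          _ = w * z * (v₂ * z)⁻¹ := by rw [hwt, h2t]
          _ = w * v₂⁻¹ := by group
      rw [mul_inv_eq_iff_eq_mul] at e
      exact e.symm
    · have c1 : Commute w q := (p.comm q (p.q₁ hq) w hwM).symm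
      have c2 : Commute v₂ q := (p.comm q (p.q₁ hq) v₂ h2).symm
      exact (c1.mul_left c2.inv_left).eq
    · have c1 : Commute w q := hwq q hq
      have c2 : Commute v₂ q := h2q q hq
      exact (c1.mul_left c2.inv_left).eq
  have hcM : w * v₂⁻¹ ∈ M₂ := M₂.mul_mem hwM (M₂.inv_mem h2)
  rcases p.symm.cases₁ (symmB h) hcM (bt_symm hc) with e | e | e
  · rw [mul_inv_eq_one] at e
    rw [← hww, e]
  · rw [mul_inv_eq_iff_eq_mul] at e
    rw [← hww, e]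
    calc z * v₂ * (z * v₂) = z * (v₂ * z) * v₂ := by group
      _ = z * (z * v₂) * v₂ := by rw [h.zc v₂]
      _ = (z * z) * (v₂ * v₂) := by group
      _ = v₂ * v₂ := by rw [h.zz, one_mul]
  · exact absurd e (hN₂ _ hcM hc)

/-- an element of odd order commuting with `b = v₁ v₂` normalises `M₁` -/
theorem odd_norm (p : Pr Q₁ Q₂ M₁ M₂) {v₁ v₂ j : X} (h1 : v₁ ∈ M₁) (h2 : v₂ ∈ M₂)
    (hn₁ : ∃ m ∈ M₁, m * (v₁ * v₂) ≠ v₁ * v₂ * m) (hn₂ : ∃ m ∈ M₂, m * (v₁ * v₂) ≠ v₁ * v₂ * m)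
    (hj : Odd (orderOf j)) (hjb : j * (v₁ * v₂) = v₁ * v₂ * j) : cj j M₁ = M₁ := by
  have hg : j * (v₁ * v₂) * j⁻¹ = v₁ * v₂ := by rw [hjb, mul_inv_cancel_right]
  rcases p.perm hn₁ hn₂ h1 h2 hg with ⟨e, -⟩ | ⟨e1, e2⟩
  · exact e
  · exfalso
    apply p.ne
    -- `j²` normalises `M₁`
    have hN : ∀ g : X, cj g M₁ = M₁ ↔ g ∈ normalizer (M₁ : Set X) := by
      intro g
      rw [mem_normalizer_iff]
      constructor
      · intro e x
        constructor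
        · intro hx
          have h3 := conj_mem_cj (g := g) hx
          rwa [e] at h3
        · intro hx
          have h3 : g * x * g⁻¹ ∈ cj g M₁ := by rw [e]; exact hx
          rw [mem_cj] at h3
          have e3 : g⁻¹ * (g * x * g⁻¹) * g = x := by group
          rwa [e3] at h3
      · intro e
        ext x
        rw [mem_cj, e]
        have e3 : g * (g⁻¹ * x * g) * g⁻¹ = x := by group
        rw [e3]
    have h3 : j * j ∈ normalizer (M₁ : Set X) := by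
      rw [mem_normalizer_iff]
      intro x
      have h4 : ∀ (A B : Subgroup X), cj j A = B → ∀ y, y ∈ A ↔ j * y * j⁻¹ ∈ B := by
        intro A B hAB y
        rw [← hAB, mem_cj]
        have e3 : j⁻¹ * (j * y * j⁻¹) * j = y := by group
        rw [e3]
      rw [h4 M₁ M₂ e1, h4 M₂ M₁ e2]
      have e3 : j * (j * x * j⁻¹) * j⁻¹ = j * j * x * (j * j)⁻¹ := by group
      rw [e3]
    obtain ⟨k, hk⟩ := hj
    have h4 : j = (j * j) ^ (k + 1) := by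
      rw [← pow_two, ← pow_mul]
      have e3 : 2 * (k + 1) = orderOf j + 1 := by omega
      rw [e3, pow_succ, pow_orderOf_eq_one, one_mul]
    have h5 : j ∈ normalizer (M₁ : Set X) := by
      rw [h4]; exact (normalizer (M₁ : Set X)).pow_mem h3 _
    rw [← e1, (hN j).2 h5]

/-- (4b): `z₁ ∈ M₁` -/
theorem diag_mem (p : Pr Q₁ Q₂ M₁ M₂) {v₁ v₂ z₁ : X} (h1 : v₁ ∈ M₁) (h2 : v₂ ∈ M₂)
    (hn₁ : ∃ m ∈ M₁, m * (v₁ * v₂) ≠ v₁ * v₂ * m) (hn₂ : ∃ m ∈ M₂, m * (v₁ * v₂) ≠ v₁ * v₂ * m)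
    (hd : DiagQ z₁ t Q₁ (v₁ * v₂)) : z₁ ∈ M₁ := by
  obtain ⟨r, j, hj, hjb, hq, hrs, hjs, hw⟩ := hd
  have hcj := p.odd_norm h1 h2 hn₁ hn₂ hj hjb
  set s := t * r * t⁻¹ with hs
  have h3 : r * s ∈ M₁ := p.q₁ hq
  have h4 : j * (r * s) * j⁻¹ ∈ M₁ := by
    have := conj_mem_cj (g := j) h3
    rwa [hcj] at this
  have c1 : Commute r s := hrs
  have c2 : Commute j s := hjs
  have c3 : Commute (j * r * j⁻¹) s := (c2.mul_left c1).mul_left c2.inv_left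
  have e : (r * s)⁻¹ * (j * (r * s) * j⁻¹) = r⁻¹ * (j * r * j⁻¹) := by
    calc (r * s)⁻¹ * (j * (r * s) * j⁻¹) = (r * s)⁻¹ * ((j * r * j⁻¹) * (j * s * j⁻¹)) := by group
      _ = (s * r)⁻¹ * ((j * r * j⁻¹) * s) := by rw [c2.eq, mul_inv_cancel_right, c1.eq]
      _ = r⁻¹ * s⁻¹ * (s * (j * r * j⁻¹)) := by rw [c3.eq, mul_inv_rev]
      _ = r⁻¹ * (j * r * j⁻¹) := by group
  have h5 : r⁻¹ * (j * r * j⁻¹) ∈ M₁ := by
    rw [← e]; exact M₁.mul_mem (M₁.inv_mem h3) h4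
  rw [← hw]; exact M₁.mul_mem h5 h5

/-- **(6.3)** -/
theorem case3 (p : Pr Q₁ Q₂ M₁ M₂) (h : HypB z t a₁ a₂ Q₁ Q₂) (hR : RefTri z t Q₁ Q₂)
    (hN₁ : ∀ b ∈ M₁, Bt t Q₁ Q₂ b → b * b ≠ z) (hN₂ : ∀ b ∈ M₂, Bt t Q₁ Q₂ b → b * b ≠ z) : CA z := by
  have hz₁ : z ∈ M₁ := p.zM h
  have hz₂ : z ∈ M₂ := p.symm.zM (symmB h)
  rcases exists_v h p.c₁ p.q₁ (fun m hm y hy => p.comm m hm y (p.q₂ hy)) (fun b hb hB hbb => p.inv₁ h hb hB hbb)
    with ⟨v₁, h1, h1q, h1t⟩ | ⟨W, hWp, hQW, hWM, ⟨S, hS⟩, hWB⟩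
  swap
  · refine ⟨M₁, p.c₁, hz₁, p.rank_one h hWp hQW hS hWM fun w hw hwq => ?_⟩
    rcases p.cases₁ h (hWM hw) (hWB w hw hwq) with e | e | e
    · exact Or.inl e
    · exact Or.inr e
    · exact absurd e (hN₁ w (hWM hw) (hWB w hw hwq))
  rcases exists_v (symmB h) p.c₂ p.q₂ (fun m hm y hy => (p.comm y (p.q₁ hy) m hm).symm)
    (fun b hb hB hbb => p.symm.inv₁ (symmB h) hb hB hbb)
    with ⟨v₂, h2, h2q, h2t⟩ | ⟨W, hWp, hQW, hWM, ⟨S, hS⟩, hWB⟩
  swap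
  · refine ⟨M₂, p.c₂, hz₂, p.symm.rank_one (symmB h) hWp hQW hS hWM fun w hw hwq => ?_⟩
    rcases p.symm.cases₁ (symmB h) (hWM hw) (hWB w hw hwq) with e | e | e
    · exact Or.inl e
    · exact Or.inr e
    · exact absurd e (hN₂ w (hWM hw) (bt_symm (hWB w hw hwq)))
  exfalso
  have hN₂' : ∀ b ∈ M₂, Bt t Q₂ Q₁ b → b * b ≠ z := fun b hb hB => hN₂ b hb (bt_symm hB)
  have s1 := p.sq_cases h hN₁ h1 h1q h1t
  have s2 := p.symm.sq_cases (symmB h) hN₂' h2 h2q h2t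
  have s12 := p.sq_eq h hN₁ hN₂ h1 h1q h1t h2 h2q h2t
  have hyB := p.mul_bt h h1 h1q h1t h2 h2q h2t
  have c12 : Commute v₁ v₂ := p.comm v₁ h1 v₂ h2
  have hv12 : v₁ ∉ M₂ := fun hv => not_comm_t h h1t (p.mid_comm h h1 hv (by
    rcases s1 with e | e
    · exact Or.inl e
    · exact Or.inr (Or.inl e)))
  have hT := p.mul_not_T4 h h1 h1t h2 hv12
  have hyy : v₁ * v₂ * (v₁ * v₂) = 1 := by
    have e : v₁ * v₂ * (v₁ * v₂) = (v₁ * v₁) * (v₂ * v₂) := by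
      calc v₁ * v₂ * (v₁ * v₂) = v₁ * (v₂ * v₁) * v₂ := by group
        _ = v₁ * (v₁ * v₂) * v₂ := by rw [c12.eq]
        _ = (v₁ * v₁) * (v₂ * v₂) := by group
    rw [e, ← s12]
    rcases s1 with e | e
    · rw [e, one_mul]
    · rw [e, h.zz]
  have hn₁ := p.exists_not_comm' h h1 h1t h2 s1
  have hn₂ : ∃ m ∈ M₂, m * (v₁ * v₂) ≠ v₁ * v₂ * m := by
    have h3 := p.symm.exists_not_comm' (symmB h) h2 h2t h1 s2
    rwa [← c12.eq] at h3
  rcases hR _ ⟨hyB, hyy, hT⟩ with hA | hB | ⟨z₁, hz1, hz1z, hz11, hd₁, hd₂⟩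
  · exact hA v₁ ((Commute.refl v₁).mul_right c12).eq h1q (fun q hq => p.comm v₁ h1 q (p.q₂ hq)) h1t
  · obtain ⟨g, q₁, hq₁, q₂, hq₂, e1, e2, hg⟩ := hB
    have hg' : g * (v₁ * v₂) * g⁻¹ = (v₁ * q₁) * (v₂ * q₂) := by
      rw [hg]
      have c : v₂ * q₁ = q₁ * v₂ := (p.comm q₁ (p.q₁ hq₁) v₂ h2).symm
      calc v₁ * v₂ * (q₁ * q₂) = v₁ * (v₂ * q₁) * q₂ := by group
        _ = (v₁ * q₁) * (v₂ * q₂) := by rw [c]; group
    have hw : v₁ * q₁ * (v₁ * q₁) = v₁ * v₁ * z := by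
      calc v₁ * q₁ * (v₁ * q₁) = v₁ * (q₁ * v₁) * q₁ := by group
        _ = v₁ * (v₁ * q₁) * q₁ := by rw [← h1q q₁ hq₁]
        _ = (v₁ * v₁) * (q₁ * q₁) := by group
        _ = v₁ * v₁ * z := by rw [e1]
    obtain ⟨f, hf1, hf2, hff⟩ := p.fac hn₁ hn₂ h1 h2 rfl
      (M₁.mul_mem h1 (p.q₁ hq₁)) (M₂.mul_mem h2 (p.q₂ hq₂)) hg' (e := v₁ * v₁) (by
        rcases s1 with e | e
        · rw [e]; group
        · rw [e, h.zc g, mul_inv_cancel_right]) rfl s12.symm hw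
    exact hN₁ f hf1 (p.mid_bt h hf1 hf2 (Or.inr (Or.inl hff))) hff
  · have hm₁ := p.diag_mem h1 h2 hn₁ hn₂ hd₁
    have hm₂ : z₁ ∈ M₂ := by
      rw [c12.eq] at hn₁ hn₂ hd₂
      exact p.symm.diag_mem h2 h1 hn₂ hn₁ hd₂
    rcases A_inv h (component_le_layer p.c₁ hm₁) (comm_layer p.c₁ p.c₂ p.ne hm₁ hm₂) hz11 with e | e
    · exact hz1 e
    · exact hz1z e

/-- **(6)** -/
theorem main (p : Pr Q₁ Q₂ M₁ M₂) (h : HypB z t a₁ a₂ Q₁ Q₂) (hF : FusT z t Q₁ Q₂) (hR : RefTri z t Q₁ Q₂) :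
    CA z := by
  have hz₁ : z ∈ M₁ := p.zM h
  have hz₂ : z ∈ M₂ := p.symm.zM (symmB h)
  -- an element of `B ∩ M₁` with square `z` gives one of `B ∩ M₂`
  have hsw : ∀ {a b : X} {P R N N' : Subgroup X}, HypB z t a b P R → Pr P R N N' → ∀ i ∈ N, Bt t P R i → i * i = z →
      ∃ i' ∈ N', Bt t P R i' ∧ i' * i' = z := by
    intro a b P R N N' h p i hi hB hii
    obtain ⟨s, hst, hs₁, hs₂⟩ := h.swap
    have hfin := h.s₁.finite
    have hfin2 := h.s₂.finite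
    have hmap : P.map (MulAut.conj s).toMonoidHom = R := by
      apply Subgroup.eq_of_le_of_card_ge
      · rintro _ ⟨x, hx, rfl⟩
        exact hs₁ x hx
      · rw [h.s₂.card, ← h.s₁.card]
        exact (Nat.card_congr (P.equivMapOfInjective _ (MulAut.conj s).injective).toEquiv).le
    have hmap2 : R.map (MulAut.conj s).toMonoidHom = P := by
      apply Subgroup.eq_of_le_of_card_ge
      · rintro _ ⟨x, hx, rfl⟩
        exact hs₂ x hx
      · rw [h.s₁.card, ← h.s₂.card]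
        exact (Nat.card_congr (R.equivMapOfInjective _ (MulAut.conj s).injective).toEquiv).le
    have hcj : cj s N = N' := by
      apply p.uniq₂ h (Cfsg.Agent.Cit.Comp.isComponent_cj p.c₁ s)
      rw [← hmap]
      rintro _ ⟨x, hx, rfl⟩
      exact conj_mem_cj (p.q₁ hx)
    have hconj : ∀ x : X, i * x = x * i → s * i * s⁻¹ * (s * x * s⁻¹) = s * x * s⁻¹ * (s * i * s⁻¹) := by
      intro x hx
      calc s * i * s⁻¹ * (s * x * s⁻¹) = s * (i * x) * s⁻¹ := by group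
        _ = s * (x * i) * s⁻¹ := by rw [hx]
        _ = s * x * s⁻¹ * (s * i * s⁻¹) := by group
    refine ⟨s * i * s⁻¹, by rw [← hcj]; exact conj_mem_cj hi, ⟨?_, fun q hq => ?_, fun q hq => ?_⟩, ?_⟩
    · have h3 := hconj t hB.1
      have h4 : s * t * s⁻¹ = t := by rw [hst, mul_inv_cancel_right]
      rwa [h4] at h3
    · rw [← hmap2] at hq
      obtain ⟨x, hx, rfl⟩ := hq
      exact hconj x (hB.2.2 x hx)
    · rw [← hmap] at hq
      obtain ⟨x, hx, rfl⟩ := hq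
      exact hconj x (hB.2.1 x hx)
    · calc s * i * s⁻¹ * (s * i * s⁻¹) = s * (i * i) * s⁻¹ := by group
        _ = z := by rw [hii, h.zc s, mul_inv_cancel_right]
  by_cases hi : ∃ i ∈ M₁, Bt t Q₁ Q₂ i ∧ i * i = z
  · exfalso
    obtain ⟨i, hi₁, hiB, hii⟩ := hi
    obtain ⟨i', hi₂, hiB', hii'⟩ := hsw h p i hi₁ hiB hii
    have hinv : i⁻¹ * i⁻¹ = z := by rw [← mul_inv_rev, hii, zinv h]
    have hinvB : Bt t Q₁ Q₂ i⁻¹ := ⟨(show Commute i t from hiB.1).inv_left.eq,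
      fun q hq => (show Commute i q from hiB.2.1 q hq).inv_left.eq,
      fun q hq => (show Commute i q from hiB.2.2 q hq).inv_left.eq⟩
    rcases h.Bu i i' hiB hiB' hii hii' with e | e | e | e
    · have e1 : i = i' := by rwa [inv_mul_eq_one] at e
      exact p.case1 h hi₁ (e1 ▸ hi₂) hiB hii
    · have e1 : i = i' * z := by
        rw [inv_mul_eq_iff_eq_mul] at e
        rw [e, mul_assoc, h.zz, mul_one]
      exact p.case1 h hi₁ (by rw [e1]; exact M₂.mul_mem hi₂ hz₂) hiB hii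
    · exact p.case2 h hF (M₁.inv_mem hi₁) hinvB hinv hi₂ hii' e.symm
    · refine p.case2 h hF (M₁.inv_mem hi₁) hinvB hinv (M₂.mul_mem hi₂ hz₂) (m₂ := i' * z) ?_ ?_
      · calc i' * z * (i' * z) = i' * (z * i') * z := by group
          _ = i' * (i' * z) * z := by rw [h.zc i']
          _ = (i' * i') * (z * z) := by group
          _ = z := by rw [hii', h.zz, mul_one]
      · rw [← mul_assoc, e, mul_assoc, h.zz, mul_one]
  · push Not at hi
    refine p.case3 h hR hi fun b hb hB hbb => ?_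
    obtain ⟨i, hi₁, hiB, hii⟩ := hsw (symmB h) p.symm b hb (bt_symm hB) hbb
    exact hi i hi₁ (bt_symm hiB) hii

end Pr

end Cfsg.Agent.OddHalf.D6.QThree.NIB.Two
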