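import Cfsg.Agent.OddHalf.D6.QThree.RefOf
import Cfsg.Agent.OddHalf.D6.QThree.NIB.Two
import Cfsg.Agent.KFacts.PSpFourThree.Sp

/-!
# ODD half, D6, NI with `B`: the reflections with `L* = PSp₄(3)` (helper801, text: #14694 (4a))

`Data.facts`: the facts on `L ≅ PSp₄(3)` for `z`, `R`; `Data.mem_R`: `R = O₂(D)`; `Data.norm_R`.
-/

set_option autoImplicit false

namespace Cfsg.Agent.OddHalf.D6.QThree.RefOf

open Subgroup Cfsg Cfsg.Agent.OddHalf.Iface Cfsg.Agent.OddHalf.D3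
open Cfsg.Agent.KFacts.PSpFourThree
open Cfsg.Agent.Lib.FieldThree (F3)

universe u

/-- the facts for a given `z` and a given `R` -/
theorem sp_of {L : Type*} [Group L] {F : Type*} [Field F] [Fintype F] (hF : Fintype.card F = 3)
    (e : L ≃* PSp 2 F) {z : L} (zz : z * z = 1) (z1 : z ≠ 1) {N : Subgroup L} (hN : IsPGroup 2 N)
    (hz : ∀ n ∈ N, n * z = z * n) (hn : ∀ g, g * z = z * g → ∀ n ∈ N, g * n * g⁻¹ ∈ N)
    (hna : ∃ a ∈ N, ∃ b ∈ N, a * b ≠ b * a) : FactsOut.Sp z N ∧ FactsOut.Aut z N := by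
  let f : L ≃* Cfsg.PSp 2 F3 := e.trans
    (Cfsg.Agent.LieClassical.FieldTransfer.pspCongr 2 (Cfsg.Agent.Lib.FieldThree.equivOfCard hF))
  obtain ⟨k, hk⟩ : ∃ k, k * PE.z * k⁻¹ = f z := by
    rcases three.classes (f z) (by rw [← map_mul, zz, map_one])
      (fun h1 => z1 ((map_eq_one_iff f f.injective).1 h1)) with h1 | h1
    · exact h1
    · exfalso
      obtain ⟨a, ha, b, hb, hab⟩ := hna
      apply hab
      apply f.injective
      rw [map_mul, map_mul]
      refine h1 (N.map f.toMonoidHom) (hN.map _) ?_ ?_ _ (mem_map_of_mem _ ha) _ (mem_map_of_mem _ hb)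
      · rintro _ ⟨n, hn', rfl⟩
        show f n * f z = f z * f n
        rw [← map_mul, hz n hn', map_mul]
      · rintro g hg _ ⟨n, hn', rfl⟩
        obtain ⟨g, rfl⟩ := f.surjective g
        have hg' : g * z = z * g := f.injective (by rw [map_mul, map_mul]; exact hg)
        refine ⟨g * n * g⁻¹, hn g hg' n hn', ?_⟩
        show f (g * n * g⁻¹) = f g * f n * (f g)⁻¹
        rw [map_mul, map_mul, map_inv]
  let f' : Cfsg.PSp 2 F3 ≃* L := (MulAut.conj k).trans f.symm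
  have hz' : f' PE.z = z := by
    show f.symm (k * PE.z * k⁻¹) = z
    rw [hk, f.symm_apply_apply]
  have h1 : FactsOut.Sp z (PE.R.map f'.toMonoidHom) := by
    have := PE.sp_facts.map f'
    rwa [hz'] at this
  have h2 : FactsOut.Aut z (PE.R.map f'.toMonoidHom) := by
    have := PE.aut.map f'
    rwa [hz'] at this
  have h3 : N = PE.R.map f'.toMonoidHom := by
    rcases h1.irr N (h1.max N hN hz hn) hn with h4 | h4
    · exfalso
      obtain ⟨a, ha, b, hb, hab⟩ := hna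
      apply hab
      have hcomm : ∀ x : L, x * 1 = 1 * x := fun x => by rw [one_mul, mul_one]
      rcases h4 a ha with rfl | rfl
      · exact (hcomm b).symm
      · exact (hz b hb).symm
    · exact h4
  rw [h3]
  exact ⟨h1, h2⟩

namespace Data

variable {G : Type u} [Group G] {t z b : G} {D R L : Subgroup G} {F : Type} [Field F] [Fintype F]

/-- the facts on `L` -/
theorem facts (h : Data t z b D R L F) :
    FactsOut.Sp (⟨z, h.zL⟩ : L) (R.subgroupOf L) ∧ FactsOut.Aut (⟨z, h.zL⟩ : L) (R.subgroupOf L) := by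
  obtain ⟨e⟩ := h.iso
  have hRL : R ≤ L := h.RD.trans h.DL
  refine sp_of h.hF e (Subtype.ext h.zz) (fun h1 => h.z1 (congrArg Subtype.val h1))
    (h.pR.of_equiv (subgroupOfEquivOfLe hRL).symm) (fun n hn => Subtype.ext (h.Dz n (h.RD hn)))
    (fun g hg n hn => h.nR g g.2 (congrArg Subtype.val hg) n hn) ?_
  obtain ⟨x, hx, y, hy, hxy⟩ := h.na
  exact ⟨⟨x, hRL hx⟩, hx, ⟨y, hRL hy⟩, hy, fun e => hxy (congrArg Subtype.val e)⟩

/-- `C_L(R) = ⟨z⟩` -/
theorem cR (h : Data t z b D R L F) {c : G} (hc : c ∈ L) (hcR : ∀ r ∈ R, c * r = r * c) : c = 1 ∨ c = z := by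
  rcases h.facts.1.cR (⟨c, hc⟩ : L) (Subtype.ext (hcR z h.zR)) (fun r hr => Subtype.ext (hcR r hr)) with h1 | h1
  · exact Or.inl (congrArg Subtype.val h1)
  · exact Or.inr (congrArg Subtype.val h1)

/-- `[D, D] ≤ R` -/
theorem dd (h : Data t z b D R L F) {x y : G} (hx : x ∈ D) (hy : y ∈ D) : x * y * x⁻¹ * y⁻¹ ∈ R := by
  have key : ∀ x ∈ D, ∃ hxL : x ∈ L, (⟨x, hxL⟩ : L) ∈ FactsOut.OD (⟨z, h.zL⟩ : L) := by
    intro x hx
    have h1 : D ≤ (FactsOut.OD (⟨z, h.zL⟩ : L)).map L.subtype := by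
      refine h.gen.trans ((closure_le _).2 ?_)
      rintro y ⟨hy, ho⟩
      refine ⟨⟨y, h.DL hy⟩, subset_closure ⟨Subtype.ext (h.Dz y hy), ?_⟩, rfl⟩
      rwa [Subgroup.orderOf_mk]
    obtain ⟨w, hw, rfl⟩ := h1 hx
    exact ⟨w.2, hw⟩
  obtain ⟨hxL, hx'⟩ := key x hx
  obtain ⟨hyL, hy'⟩ := key y hy
  exact h.facts.1.dd _ hx' _ hy'

/-- `R` contains the 2-elements of `D` -/
theorem mem_R (h : Data t z b D R L F) [Finite G] {x : G} (hx : x ∈ D) {n : ℕ} (hxn : x ^ 2 ^ n = 1) : x ∈ R := by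
  have hnor : ∀ d ∈ D, ∀ r ∈ R, d * r * d⁻¹ ∈ R := fun d hd => h.nR d (h.DL hd) (h.Dz d hd)
  have : (R.subgroupOf D).Normal := ⟨fun r hr d => hnor d d.2 r hr⟩
  have hc : ∀ p q : D ⧸ R.subgroupOf D, p * q = q * p := by
    intro p q
    obtain ⟨u, rfl⟩ := QuotientGroup.mk'_surjective _ p
    obtain ⟨v, rfl⟩ := QuotientGroup.mk'_surjective _ q
    rw [← map_mul, ← map_mul, QuotientGroup.mk'_eq_mk']
    refine ⟨(u * v)⁻¹ * (v * u), ?_, by group⟩
    have h1 := h.dd (D.inv_mem v.2) (D.inv_mem u.2)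
    rw [mem_subgroupOf]
    have e : (((u * v)⁻¹ * (v * u) : D) : G) = (v : G)⁻¹ * (u : G)⁻¹ * ((v : G)⁻¹)⁻¹ * ((u : G)⁻¹)⁻¹ := by
      push_cast
      group
    rw [e]
    exact h1
  -- every element of `D / R` has odd order
  have hodd : ∀ p : D ⧸ R.subgroupOf D, Odd (orderOf p) := by
    let S : Subgroup (D ⧸ R.subgroupOf D) :=
      { carrier := {p | Odd (orderOf p)}
        one_mem' := by
          show Odd (orderOf (1 : D ⧸ R.subgroupOf D))
          rw [orderOf_one]; exact odd_one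
        mul_mem' := by
          intro p q hp hq
          exact Odd.of_dvd_nat (hp.mul hq) (Commute.orderOf_mul_dvd_mul_orderOf (hc p q))
        inv_mem' := by
          intro p hp
          show Odd (orderOf p⁻¹)
          rwa [orderOf_inv] }
    have h1 : D ≤ (S.comap (QuotientGroup.mk' (R.subgroupOf D))).map D.subtype := by
      refine h.gen.trans ((closure_le _).2 ?_)
      rintro y ⟨hy, ho⟩
      refine ⟨⟨y, hy⟩, ?_, rfl⟩
      show Odd (orderOf (QuotientGroup.mk' (R.subgroupOf D) ⟨y, hy⟩))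
      refine Odd.of_dvd_nat ho ?_
      rw [← Subgroup.orderOf_mk y hy]
      exact orderOf_map_dvd _ _
    intro p
    obtain ⟨u, rfl⟩ := QuotientGroup.mk'_surjective _ p
    obtain ⟨w, hw, hwu⟩ := h1 u.2
    have : w = u := Subtype.ext hwu
    rw [← this]
    exact hw
  have h2 : QuotientGroup.mk' (R.subgroupOf D) ⟨x, hx⟩ = 1 := by
    have h3 : orderOf (QuotientGroup.mk' (R.subgroupOf D) ⟨x, hx⟩) ∣ 2 ^ n := by
      apply orderOf_dvd_of_pow_eq_one
      rw [← map_pow]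
      have : (⟨x, hx⟩ : D) ^ 2 ^ n = 1 := Subtype.ext hxn
      rw [this, map_one]
    have h4 : Nat.Coprime (orderOf (QuotientGroup.mk' (R.subgroupOf D) ⟨x, hx⟩)) (2 ^ n) :=
      (Nat.coprime_two_right.2 (hodd _)).pow_right n
    exact orderOf_eq_one_iff.1 (Nat.Coprime.eq_one_of_dvd h4 h3)
  have h5 := (QuotientGroup.eq_one_iff (N := R.subgroupOf D) (⟨x, hx⟩ : D)).1 h2
  exact h5

/-- an element of `C(z)` which normalises `D` normalises `R` -/
theorem norm_R (h : Data t z b D R L F) [Finite G] {g : G} (hg : ∀ d ∈ D, g * d * g⁻¹ ∈ D) :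
    ∀ r ∈ R, g * r * g⁻¹ ∈ R := by
  intro r hr
  obtain ⟨n, hn⟩ := h.pR ⟨r, hr⟩
  have hn' : r ^ 2 ^ n = 1 := congrArg Subtype.val hn
  refine h.mem_R (n := n) (hg r (h.RD hr)) ?_
  rw [conj_pow, hn', mul_one, mul_inv_cancel]

end Data

end Cfsg.Agent.OddHalf.D6.QThree.RefOf
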