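import Cfsg.Agent.OddHalf.D6.QThree.NISide

/-!
# ODD half, D6, `U₄(3)` with an outer part, NI with `B`: fusion of `t` in `C_G(z)` (helper801's #14694 (F), (F_b))

`K` centralises `t`; all involutions of `K` are `K`-conjugate to `z`, and `z ∈ R(z₁)` iff `z₁ ∈ R(z) = R`; some `s` in
`C(z)` normalises `R` and moves `t` to `tz`. Then some element of `C(z)` moves `t` to `tu`, `u ∈ R` an involution
outside `⟨z⟩`.
-/

set_option autoImplicit false

namespace Cfsg.Agent.OddHalf.D6.QThree.NIB.FusB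

open Subgroup
open Cfsg.Agent.OddHalf.D6.QThree.NISide

variable {G : Type*} [Group G]

/-- the K-facts (K3): `K` centralises `t`, one class of involutions, symmetry of `u ∈ R(z)` -/
structure KF (t z : G) (K R : Subgroup G) : Prop where
  zz : z * z = 1
  z1 : z ≠ 1
  Kt : ∀ k ∈ K, k * t = t * k
  RK : R ≤ K
  one : ∀ u ∈ K, u * u = 1 → u ≠ 1 → ∃ k ∈ K, k * u * k⁻¹ = z
  back : ∀ u ∈ R, u * u = 1 → u ≠ 1 → u ≠ z → ∀ k ∈ K, k * u * k⁻¹ = z → k * z * k⁻¹ ∈ R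
  ex : ∃ u ∈ R, u * u = 1 ∧ u ≠ 1 ∧ u ≠ z

/-- **(F)** -/
theorem KF.fus {t z s : G} {K R : Subgroup G} (h : KF t z K R) (hst : s * t * s⁻¹ = t * z)
    (hsR : ∀ r ∈ R, s⁻¹ * r * s ∈ R) :
    ∃ g u : G, g * z = z * g ∧ u ∈ R ∧ u * u = 1 ∧ u ≠ 1 ∧ u ≠ z ∧ g * t * g⁻¹ = t * u := by
  obtain ⟨u₀, hu₀, hu2, hu1, huz⟩ := h.ex
  obtain ⟨k, hk, hku⟩ := h.one u₀ (h.RK hu₀) hu2 hu1
  have hw : s⁻¹ * u₀ * s ∈ R := hsR u₀ hu₀
  obtain ⟨c, hc, hcw⟩ := h.one _ (h.RK hw) (by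
    calc s⁻¹ * u₀ * s * (s⁻¹ * u₀ * s) = s⁻¹ * (u₀ * u₀) * s := by group
      _ = 1 := by rw [hu2]; group) (by
    intro e
    apply hu1
    calc u₀ = s * (s⁻¹ * u₀ * s) * s⁻¹ := by group
      _ = 1 := by rw [e]; group)
  have hkz : k * z * k⁻¹ ∈ R := h.back u₀ hu₀ hu2 hu1 huz k hk hku
  refine ⟨k * s * c⁻¹, k * z * k⁻¹, ?_, hkz, ?_, ?_, ?_, ?_⟩
  · have h1 : c⁻¹ * z * c = s⁻¹ * u₀ * s := by rw [← hcw]; group
    have h2 : k * s * c⁻¹ * z * (k * s * c⁻¹)⁻¹ = z := by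
      calc k * s * c⁻¹ * z * (k * s * c⁻¹)⁻¹ = k * (s * (c⁻¹ * z * c) * s⁻¹) * k⁻¹ := by group
        _ = k * u₀ * k⁻¹ := by rw [h1]; group
        _ = z := hku
    rwa [mul_inv_eq_iff_eq_mul] at h2
  · calc k * z * k⁻¹ * (k * z * k⁻¹) = k * (z * z) * k⁻¹ := by group
      _ = 1 := by rw [h.zz]; group
  · intro e
    exact h.z1 (conj_eq_one_iff.1 e)
  · intro e
    apply huz
    calc u₀ = k⁻¹ * (k * u₀ * k⁻¹) * k := by group
      _ = k⁻¹ * (k * z * k⁻¹) * k := by rw [hku, e]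
      _ = z := by group
  · have hct : c⁻¹ * t * c = t := by
      have h1 := h.Kt c hc
      calc c⁻¹ * t * c = c⁻¹ * (t * c) := by group
        _ = c⁻¹ * (c * t) := by rw [h1]
        _ = t := by group
    have hkt : k * t * k⁻¹ = t := by rw [h.Kt k hk, mul_inv_cancel_right]
    calc k * s * c⁻¹ * t * (k * s * c⁻¹)⁻¹ = k * (s * (c⁻¹ * t * c) * s⁻¹) * k⁻¹ := by group
      _ = k * (t * z) * k⁻¹ := by rw [hct, hst]
      _ = (k * t * k⁻¹) * (k * z * k⁻¹) := by group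
      _ = t * (k * z * k⁻¹) := by rw [hkt]

/-- the involutions of `Q₁ Q₂` outside `⟨z⟩` -/
theorem factor {z t a b : G} {Q₁ Q₂ D D' : Subgroup G} (s₁ : Side z t a Q₁ D) (s₂ : Side z t b Q₂ D')
    (zz : z * z = 1) (z1 : z ≠ 1) (comm : ∀ x ∈ Q₁, ∀ y ∈ Q₂, x * y = y * x) {x y : G} (hx : x ∈ Q₁) (hy : y ∈ Q₂)
    (h2 : x * y * (x * y) = 1) (h1 : x * y ≠ 1) (hz : x * y ≠ z) : x * x = z ∧ y * y = z := by
  have hxy : x * y * (x * y) = (x * x) * (y * y) := by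
    calc x * y * (x * y) = x * (y * x) * y := by group
      _ = x * (x * y) * y := by rw [← comm x hx y hy]
      _ = (x * x) * (y * y) := by group
  rw [hxy] at h2
  have hq : ∀ {w : G} {Q E : Subgroup G} {c : G}, Side z t c Q E → w ∈ Q → w * w = 1 → w = 1 ∨ w = z := by
    intro w Q E c s hw hww
    by_contra hne
    push Not at hne
    have := s.sq w hw hne.1 hne.2
    rw [hww] at this
    exact z1 this.symm
  have hcase : ∀ {w : G} {Q E : Subgroup G} {c : G}, Side z t c Q E → w ∈ Q → w * w = 1 ∨ w * w = z := by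
    intro w Q E c s hw
    by_cases e1 : w = 1
    · left; rw [e1, one_mul]
    by_cases e2 : w = z
    · left; rw [e2, zz]
    exact Or.inr (s.sq w hw e1 e2)
  rcases hcase s₁ hx with hxx | hxx
  · exfalso
    rw [hxx, one_mul] at h2
    rcases hq s₁ hx hxx with e | e <;> rcases hq s₂ hy h2 with e' | e'
    · exact h1 (by rw [e, e', one_mul])
    · exact hz (by rw [e, e', one_mul])
    · exact hz (by rw [e, e', mul_one])
    · exact h1 (by rw [e, e', zz])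
  · rcases hcase s₂ hy with hyy | hyy
    · exfalso
      rw [hxx, hyy, mul_one] at h2
      exact z1 h2
    · exact ⟨hxx, hyy⟩

end Cfsg.Agent.OddHalf.D6.QThree.NIB.FusB
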