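import Cfsg.Agent.OddHalf.D6.QThree.NIB.Pre
import Cfsg.Agent.OddHalf.D6.QThree.DiagEnd
import Cfsg.Agent.SignalizersComponents.ComponentNormalize

/-!
# ODD half, D6, `q = 3`: (R), a reflection does not centralise a component containing `Q₁` or `Q₂` (helper948; text:
helper801, bb #14694 (1))

`comm_of_subnormal`: a component of `X` centralised by `b` commutes with the solvable subnormal subgroups of `C_X(b)`.
`Pre.refl_of`: the field `NIB.HypB.refl`, from `RefD`.
-/

set_option autoImplicit false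

namespace Cfsg.Agent.OddHalf.D6.QThree.NIB

open Subgroup Cfsg
open Cfsg.Agent.SignalizersComponents.Components
open Cfsg.Agent.Cit (cj mem_cj conj_mem_cj cj_mul cj_one)
open Cfsg.Agent.OddHalf.D6.QThree.NISide
open Cfsg.Agent.OddHalf.D6.QThree.Diag

universe u

/-- a component centralised by `b` commutes with the solvable subnormal subgroups of `C_X(b)` -/
theorem comm_of_subnormal {X : Type u} [Group X] [Finite X] {b : X} {M E : Subgroup X} (hM : IsComponent M)
    (hMb : ∀ m ∈ M, m * b = b * m) (hEb : E ≤ centralizer ({b} : Set X))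
    (hE : (E.subgroupOf (centralizer ({b} : Set X))).IsSubnormal) (hs : Group.IsSolvable E) :
    ∀ e ∈ E, ∀ m ∈ M, e * m = m * e := by
  set C := centralizer ({b} : Set X) with hC
  have hMC : M ≤ C := fun m hm => mem_centralizer_singleton_iff.2 (hMb m hm)
  have hM' : IsComponent (M.subgroupOf C) := isComponent_subgroupOf hMC hM
  rcases Cfsg.Agent.SignalizersComponents.ComponentNormalize.component_le_or_comm hM' hE with h1 | h1
  · exfalso
    apply quasisimple_not_isSolvable hM'.2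
    have h2 : Group.IsSolvable (E.subgroupOf C) :=
      Group.isSolvable_of_isSolvable_injective (f := (subgroupOfEquivOfLe hEb).toMonoidHom)
        (subgroupOfEquivOfLe hEb).injective
    exact Group.isSolvable_of_isSolvable_injective (f := inclusion h1) (inclusion_injective h1)
  · intro e he m hm
    rw [commutator_eq_bot_iff_le_centralizer] at h1
    have h2 := mem_centralizer_iff.1 (h1 (show (⟨m, hMC hm⟩ : C) ∈ M.subgroupOf C from hm)) ⟨e, hEb he⟩ he
    exact congrArg Subtype.val h2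

section X

variable {X : Type u} [Group X] {z t a₁ a₂ : X} {Q₁ Q₂ : Subgroup X}

/-- the data at a reflection `b`, seen in `X = C_G(z)` -/
def RefX (t b : X) (Q₁ Q₂ : Subgroup X) : Prop :=
  ∃ E : Subgroup X, E ≤ centralizer ({b} : Set X) ∧ (E.subgroupOf (centralizer ({b} : Set X))).IsSubnormal ∧
    Group.IsSolvable E ∧ ((Q₁ ≤ E ∧ Q₂ ≤ E) ∨
      ((∀ q ∈ Q₁, ∃ e ∈ E, e * (t * e * t⁻¹) = q) ∧ ∀ q ∈ Q₂, ∃ e ∈ E, e * (t * e * t⁻¹) = q))

theorem Pre.refl_of_X [Finite X] (h : Pre z t a₁ a₂ Q₁ Q₂) {b : X} (hb : RefX t b Q₁ Q₂) {M : Subgroup X}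
    (hM : IsComponent M) (hQ : Q₁ ≤ M ∨ Q₂ ≤ M) : ¬ ∀ m ∈ M, b * m = m * b := by
  intro hMb
  obtain ⟨E, hEb, hE, hs, hcase⟩ := hb
  have hc := comm_of_subnormal hM (fun m hm => (hMb m hm).symm) hEb hE hs
  -- `Q₁`, `Q₂` commute with `M`
  have key : (∀ q ∈ Q₁, ∀ m ∈ M, q * m = m * q) ∧ ∀ q ∈ Q₂, ∀ m ∈ M, q * m = m * q := by
    rcases hcase with ⟨h1, h2⟩ | ⟨h1, h2⟩
    · exact ⟨fun q hq => hc q (h1 hq), fun q hq => hc q (h2 hq)⟩
    · have ht : ∀ e ∈ E, ∀ m ∈ M, (e * (t * e * t⁻¹)) * m = m * (e * (t * e * t⁻¹)) := by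
        intro e he m hm
        have hm' : t⁻¹ * m * t ∈ M := by
          have h3 : m ∈ cj t M := by rw [h.cj_t hM]; exact hm
          exact mem_cj.1 h3
        have c1 : Commute e m := hc e he m hm
        have c2 : (t * e * t⁻¹) * m = m * (t * e * t⁻¹) := by
          have h4 := hc e he _ hm'
          calc (t * e * t⁻¹) * m = t * (e * (t⁻¹ * m * t)) * t⁻¹ := by group
            _ = t * ((t⁻¹ * m * t) * e) * t⁻¹ := by rw [h4]
            _ = m * (t * e * t⁻¹) := by group
        exact (c1.mul_left (show Commute (t * e * t⁻¹) m from c2)).eq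
      refine ⟨fun q hq m hm => ?_, fun q hq m hm => ?_⟩
      · obtain ⟨e, he, rfl⟩ := h1 q hq
        exact ht e he m hm
      · obtain ⟨e, he, rfl⟩ := h2 q hq
        exact ht e he m hm
  rcases hQ with hQ | hQ
  · exact h.s₁.not_comm fun x hx y hy => key.1 x hx y (hQ hy)
  · exact h.s₂.not_comm fun x hx y hy => key.2 x hx y (hQ hy)

end X

/-! ### from `G` -/

variable {G : Type u} [Group G]

/-- the data at a reflection `b` in `G`: `D` is subnormal in `C(b) ∩ C(z)`, or the diagonal case -/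
def RefD (t z b : G) (D : Subgroup G) : Prop :=
  (D.subgroupOf (centralizer ({b} : Set G) ⊓ centralizer ({z} : Set G))).IsSubnormal ∨
    ∃ M L : Subgroup G, DiagAt t z b D M L

theorem RefD.ref {t z b : G} {D J : Subgroup G} (h : RefD t z b D) (hJ : J ≤ D) (hJn : (J.subgroupOf D).IsSubnormal) :
    DiagEnd.Ref t z b D J := by
  rcases h with h | h
  · exact Or.inl (sn_chain hJ hJn h)
  · exact Or.inr h

/-- subnormality in `C_G(b) ∩ C_G(z)`, seen in `X = C_G(z)` -/
theorem sn_X {z : G} {b : ↥(centralizer ({z} : Set G))} {E : Subgroup G}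
    (h : (E.subgroupOf (centralizer ({(b : G)} : Set G) ⊓ centralizer ({z} : Set G))).IsSubnormal) :
    ((E.subgroupOf (centralizer ({z} : Set G))).subgroupOf
      (centralizer ({b} : Set ↥(centralizer ({z} : Set G))))).IsSubnormal := by
  let f : ↥(centralizer ({b} : Set ↥(centralizer ({z} : Set G)))) →*
      ↥(centralizer ({(b : G)} : Set G) ⊓ centralizer ({z} : Set G)) :=
    { toFun := fun x => ⟨x.1.1, mem_centralizer_singleton_iff.2
        (congrArg Subtype.val (mem_centralizer_singleton_iff.1 x.2)), x.1.2⟩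
      map_one' := rfl
      map_mul' := fun _ _ => rfl }
  exact h.comap f

/-- the data seen in `X = C_G(z)` -/
theorem RefD.refX [Finite G] {t z : G} {D R : Subgroup G} (P : Pos t z D R) (hsol : Group.IsSolvable D)
    {t' b : ↥(centralizer ({z} : Set G))} (ht' : (t' : G) = t) {Q₁ Q₂ : Subgroup ↥(centralizer ({z} : Set G))}
    (hQ₁ : ∀ q ∈ Q₁, (q : G) ∈ D) (hQ₂ : ∀ q ∈ Q₂, (q : G) ∈ D) (hbt : (b : G) * t = t * b)
    (hbD : ∀ d ∈ D, (b : G) * d = d * b) (h : RefD t z (b : G) D) : RefX t' b Q₁ Q₂ := by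
  have memZ : ∀ g, g ∈ centralizer ({z} : Set G) ↔ g * z = z * g := fun g => mem_centralizer_singleton_iff
  have memC : ∀ x : ↥(centralizer ({z} : Set G)),
      x ∈ centralizer ({b} : Set ↥(centralizer ({z} : Set G))) ↔ (x : G) * b = b * x := fun x => by
    rw [mem_centralizer_singleton_iff]
    exact ⟨fun h => congrArg Subtype.val h, fun h => Subtype.ext h⟩
  rcases h with h | ⟨M, L, A⟩
  · refine ⟨D.subgroupOf (centralizer ({z} : Set G)), fun x hx => (memC x).2 (hbD x hx).symm, sn_X h, ?_, Or.inl ⟨fun q hq => hQ₁ q hq,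
      fun q hq => hQ₂ q hq⟩⟩
    have hDZ : D ≤ centralizer ({z} : Set G) := fun d hd => (memZ d).2 (P.Dz d hd)
    exact Group.isSolvable_of_isSolvable_injective (f := (subgroupOfEquivOfLe hDZ).toMonoidHom)
      (subgroupOfEquivOfLe hDZ).injective
  · have hDZ : A.pre D ≤ centralizer ({z} : Set G) := fun d hd => (memZ d).2 (A.pre_z P hd)
    refine ⟨(A.pre D).subgroupOf (centralizer ({z} : Set G)), fun x hx => (memC x).2 (A.Mb x (A.mem_pre.1 hx).1), sn_X (A.pre_sn P hbt.symm),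
      ?_, Or.inr ⟨fun q hq => ?_, fun q hq => ?_⟩⟩
    · -- `D₁` is solvable
      let f : ↥((A.pre D).subgroupOf (centralizer ({z} : Set G))) →* D :=
        { toFun := fun x => ⟨(x.1 : G) * (t * x.1 * t⁻¹), (A.mem_pre.1 x.2).2⟩
          map_one' := Subtype.ext (by
            show (1 : G) * (t * 1 * t⁻¹) = 1
            group)
          map_mul' := fun x y => Subtype.ext (A.dmul (A.mem_pre.1 x.2).1 (A.mem_pre.1 y.2).1) }
      have hf : Function.Injective f := by
        intro x y e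
        have h1 : (f x).1 = (f y).1 := congrArg Subtype.val e
        exact Subtype.ext (Subtype.ext (A.dinj (A.mem_pre.1 x.2).1 (A.mem_pre.1 y.2).1 h1))
      exact Group.isSolvable_of_isSolvable_injective (f := f) hf
    · obtain ⟨m, hm, e⟩ := A.LM q (A.DL (hQ₁ q hq))
      have hmD : m ∈ A.pre D := ⟨hm, by rw [e]; exact hQ₁ q hq⟩
      refine ⟨⟨m, hDZ hmD⟩, hmD, Subtype.ext ?_⟩
      show m * (t' * m * (t' : G)⁻¹) = q
      rw [ht', e]
    · obtain ⟨m, hm, e⟩ := A.LM q (A.DL (hQ₂ q hq))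
      have hmD : m ∈ A.pre D := ⟨hm, by rw [e]; exact hQ₂ q hq⟩
      refine ⟨⟨m, hDZ hmD⟩, hmD, Subtype.ext ?_⟩
      show m * (t' * m * (t' : G)⁻¹) = q
      rw [ht', e]

/-- **(R)**: the field `HypB.refl` -/
theorem Pre.refl_of [Finite G] {t z : G} {D R : Subgroup G} (P : Pos t z D R) (hsol : Group.IsSolvable D)
    {z' t' a₁ a₂ : ↥(centralizer ({z} : Set G))} {Q₁ Q₂ : Subgroup ↥(centralizer ({z} : Set G))}
    (h : Pre z' t' a₁ a₂ Q₁ Q₂) (ht' : (t' : G) = t) (hQ₁ : ∀ q ∈ Q₁, (q : G) ∈ D) (hQ₂ : ∀ q ∈ Q₂, (q : G) ∈ D)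
    (hRef : ∀ b : ↥(centralizer ({z} : Set G)), Refl z' t' Q₁ Q₂ b → RefD t z (b : G) D) :
    ∀ b, Refl z' t' Q₁ Q₂ b → ∀ M : Subgroup ↥(centralizer ({z} : Set G)), IsComponent M → (Q₁ ≤ M ∨ Q₂ ≤ M) →
      ¬ ∀ m ∈ M, b * m = m * b := by
  intro b hb M hM hQ
  have memZ : ∀ g, g ∈ centralizer ({z} : Set G) ↔ g * z = z * g := fun g => mem_centralizer_singleton_iff
  have hbt : (b : G) * t = t * b := by
    have := congrArg Subtype.val hb.1.1
    rw [← ht']; exact this
  have hbD : D ≤ centralizer ({(b : G)} : Set G) := by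
    refine P.gen.trans ((closure_le _).2 ?_)
    rintro d ⟨hd, ho⟩
    have hdZ : d ∈ centralizer ({z} : Set G) := (memZ d).2 (P.Dz d hd)
    have h1 := h.odd b hb.1 ⟨d, hdZ⟩ (Subtype.ext (by
      show d * t' = t' * d
      rw [ht']; exact P.Dt d hd)) (by
      rw [← Subgroup.orderOf_coe]; exact ho)
    exact mem_centralizer_singleton_iff.2 (congrArg Subtype.val h1).symm
  exact h.refl_of_X (RefD.refX P hsol ht' hQ₁ hQ₂ hbt
    (fun d hd => (mem_centralizer_singleton_iff.1 (hbD hd)).symm) (hRef b hb)) hM hQ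

end Cfsg.Agent.OddHalf.D6.QThree.NIB
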