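import Cfsg.Agent.OddHalf.D6.QThree.NIB.Two
import Cfsg.Agent.OddHalf.D6.QThree.Diag

/-!
# ODD half, D6, NI with `B`: the diagonal case at a reflection, seen in `X = C_G(z)` (helper801, text: #14694 (4b))

`DiagAt t z b D M L` ==> `NIB.Two.Diag`.
-/

set_option autoImplicit false

namespace Cfsg.Agent.OddHalf.D6.QThree.NIB.DiagOf

open Subgroup
open Cfsg.Agent.OddHalf.D6.QThree.NISide
open Cfsg.Agent.OddHalf.D6.QThree.Diag (DiagAt)
open Cfsg.Agent.OddHalf.D6.QThree.NIB.Two (Diag DiagQ)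

universe u

variable {G : Type u} [Group G] {t z b : G} {D M L : Subgroup G}

/-- `r ∈ M` with `[r r^t, z] = 1` commutes with `z` -/
theorem comm_z (A : DiagAt t z b D M L) {r z₁ : G} (hr : r ∈ M) (hz₁ : z₁ ∈ M) (e : z₁ * (t * z₁ * t⁻¹) = z)
    (h : (r * (t * r * t⁻¹)) * z = z * (r * (t * r * t⁻¹))) : r * z₁ = z₁ * r ∧ r * z = z * r := by
  have h1 : r * z₁ = z₁ * r := by
    apply A.dinj (M.mul_mem hr hz₁) (M.mul_mem hz₁ hr)
    rw [A.dmul hr hz₁, A.dmul hz₁ hr, e, h]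
  refine ⟨h1, ?_⟩
  have c1 : Commute r z₁ := h1
  have c2 : Commute r (t * z₁ * t⁻¹) := A.com r hr z₁ hz₁
  rw [← e]
  exact c1.mul_right c2

/-- one factor -/
theorem diagQ {z₁ : G} (A : DiagAt t z b D M L) (hz₁ : z₁ ∈ M) (e : z₁ * (t * z₁ * t⁻¹) = z)
    {z' t' b' a : ↥(centralizer ({z} : Set G))} {Q E : Subgroup ↥(centralizer ({z} : Set G))}
    (hz' : (z' : G) = z) (ht' : (t' : G) = t) (hb' : (b' : G) = b) (s : Side z' t' a Q E) (ha : Odd (orderOf a))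
    (hQD : ∀ q ∈ Q, (q : G) ∈ D) (haD : (a : G) ∈ D) (w : ↥(centralizer ({z} : Set G))) (hw : (w : G) = z₁)
    {i : ↥(centralizer ({z} : Set G))} (hi : i ∈ Q) (i1 : i ≠ 1) (iz : i ≠ z') : DiagQ w t' Q b' := by
  have memZ : ∀ g, g ∈ centralizer ({z} : Set G) ↔ g * z = z * g := fun g => mem_centralizer_singleton_iff
  obtain ⟨r, hr, hri⟩ := A.LM i (A.DL (hQD i hi))
  obtain ⟨j, hj, hja⟩ := A.LM a (A.DL haD)
  have hiz : (i : G) * z = z * i := (memZ _).1 i.2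
  have haz : (a : G) * z = z * a := (memZ _).1 a.2
  obtain ⟨-, hrz⟩ := comm_z A hr hz₁ e (by rw [hri]; exact hiz)
  obtain ⟨-, hjz⟩ := comm_z A hj hz₁ e (by rw [hja]; exact haz)
  have hsq : (i⁻¹ * (a * i * a⁻¹)) * (i⁻¹ * (a * i * a⁻¹)) = z' := by
    apply s.sq
    · exact Q.mul_mem (Q.inv_mem hi) (s.aQ i hi)
    · intro e1
      apply s.act i hi i1 iz
      rw [← inv_mul_eq_one.1 e1]
    · intro e1
      apply s.act i hi i1 iz
      have e2 : a * i * a⁻¹ = i * z' := by rw [← e1]; group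
      have hc : i * z' = z' * i := Subtype.ext (by
        show (i : G) * z' = z' * i
        rw [hz']; exact hiz)
      rw [e2]
      calc i * (i * z') = i * (z' * i) := by rw [hc]
        _ = i * z' * i := by group
  have hsqG : ((i : G)⁻¹ * (a * i * (a : G)⁻¹)) * ((i : G)⁻¹ * (a * i * (a : G)⁻¹)) = z := by
    have := congrArg Subtype.val hsq
    rw [hz'] at this
    exact this
  have hm : r⁻¹ * (j * r * j⁻¹) ∈ M := M.mul_mem (M.inv_mem hr) (M.mul_mem (M.mul_mem hj hr) (M.inv_mem hj))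
  have key : (r⁻¹ * (j * r * j⁻¹)) * (r⁻¹ * (j * r * j⁻¹)) = z₁ := by
    apply A.dinj (M.mul_mem hm hm) hz₁
    rw [e, A.dmul hm hm, A.dmul (M.inv_mem hr) (M.mul_mem (M.mul_mem hj hr) (M.inv_mem hj)),
      A.dmul (M.mul_mem hj hr) (M.inv_mem hj), A.dmul hj hr, A.dinv hr, A.dinv hj, hri, hja]
    exact hsqG
  refine ⟨⟨r, (memZ r).2 hrz⟩, ⟨j, (memZ j).2 hjz⟩, ?_, ?_, ?_, ?_, ?_, ?_⟩
  · rw [Subgroup.orderOf_mk, ← A.orderOf_d hj, hja, Subgroup.orderOf_coe]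
    exact ha
  · apply Subtype.ext
    show j * (b' : G) = b' * j
    rw [hb']
    exact A.Mb j hj
  · have h1 : (⟨r, (memZ r).2 hrz⟩ : ↥(centralizer ({z} : Set G))) * (t' * ⟨r, (memZ r).2 hrz⟩ * t'⁻¹) = i := by
      apply Subtype.ext
      show r * ((t' : G) * r * (t' : G)⁻¹) = i
      rw [ht', hri]
    rw [h1]
    exact hi
  · apply Subtype.ext
    show r * ((t' : G) * r * (t' : G)⁻¹) = ((t' : G) * r * (t' : G)⁻¹) * r
    rw [ht']
    exact A.com r hr r hr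
  · apply Subtype.ext
    show j * ((t' : G) * r * (t' : G)⁻¹) = ((t' : G) * r * (t' : G)⁻¹) * j
    rw [ht']
    exact A.com j hj r hr
  · apply Subtype.ext
    show (r⁻¹ * (j * r * j⁻¹)) * (r⁻¹ * (j * r * j⁻¹)) = (w : G)
    rw [hw]
    exact key

/-- a non-central element of `Q` -/
theorem exists_ne {X : Type*} [Group X] {z t a : X} {Q E : Subgroup X} (s : Side z t a Q E) :
    ∃ i ∈ Q, i ≠ 1 ∧ i ≠ z := by
  by_contra hcon
  push Not at hcon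
  have := s.finite
  have h1 : ∀ x ∈ Q, ∀ y ∈ Q, x * y = y * x := by
    intro x hx y hy
    by_cases hx1 : x = 1
    · rw [hx1, one_mul, mul_one]
    by_cases hy1 : y = 1
    · rw [hy1, one_mul, mul_one]
    rw [hcon x hx hx1, hcon y hy hy1]
  exact s.not_comm h1

/-- **(C')** the diagonal case -/
theorem diag (A : DiagAt t z b D M L) (zz : z * z = 1) (z1 : z ≠ 1)
    {z' t' b' a₁ a₂ : ↥(centralizer ({z} : Set G))} {Q₁ Q₂ : Subgroup ↥(centralizer ({z} : Set G))}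
    (hz' : (z' : G) = z) (ht' : (t' : G) = t) (hb' : (b' : G) = b) (s₁ : Side z' t' a₁ Q₁ Q₂)
    (s₂ : Side z' t' a₂ Q₂ Q₁) (oa₁ : Odd (orderOf a₁)) (oa₂ : Odd (orderOf a₂))
    (hQ₁ : ∀ q ∈ Q₁, (q : G) ∈ D) (hQ₂ : ∀ q ∈ Q₂, (q : G) ∈ D) (h₁ : (a₁ : G) ∈ D) (h₂ : (a₂ : G) ∈ D) :
    Diag z' t' Q₁ Q₂ b' := by
  have memZ : ∀ g, g ∈ centralizer ({z} : Set G) ↔ g * z = z * g := fun g => mem_centralizer_singleton_iff
  have hzD : z ∈ D := by
    rw [← hz']; exact hQ₁ z' s₁.zQ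
  obtain ⟨z₁, hz₁, e⟩ := A.LM z (A.DL hzD)
  obtain ⟨-, hzz⟩ := comm_z A hz₁ hz₁ e (by rw [e])
  have h1 : z₁ ≠ 1 := by
    intro h
    apply z1
    rw [← e, h]; group
  obtain ⟨i, hi, i1, iz⟩ := exists_ne s₁
  obtain ⟨k, hk, k1, kz⟩ := exists_ne s₂
  refine ⟨⟨z₁, (memZ _).2 hzz⟩, fun h => h1 (congrArg Subtype.val h), fun h => ?_, ?_, ?_, ?_⟩
  · have h2 : z₁ = z := by
      have := congrArg Subtype.val h
      rw [hz'] at this
      exact this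
    apply h1
    have h3 : t * z₁ * t⁻¹ = 1 := by
      rw [h2] at e ⊢
      calc t * z * t⁻¹ = z⁻¹ * (z * (t * z * t⁻¹)) := by group
        _ = 1 := by rw [e]; group
    calc z₁ = t⁻¹ * (t * z₁ * t⁻¹) * t := by group
      _ = 1 := by rw [h3]; group
  · apply Subtype.ext
    show z₁ * z₁ = 1
    apply A.dinj (M.mul_mem hz₁ hz₁) M.one_mem
    rw [A.dmul hz₁ hz₁, e, zz]
    group
  · exact diagQ A hz₁ e hz' ht' hb' s₁ oa₁ hQ₁ h₁ _ rfl hi i1 iz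
  · exact diagQ A hz₁ e hz' ht' hb' s₂ oa₂ hQ₂ h₂ _ rfl hk k1 kz

end Cfsg.Agent.OddHalf.D6.QThree.NIB.DiagOf
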