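import Cfsg.Agent.OddHalf.D6.QThree.NIB.Hyp
import Cfsg.Agent.OddHalf.D6.QThree.TwoFix
import Cfsg.Agent.Lib.ThompsonPQ
import Cfsg.Agent.Lib.GenFitting
import Cfsg.Agent.SignalizersComponents.ComponentImage
import Cfsg.Agent.Involutions.RigidAut
import Cfsg.Agent.S0215
import Cfsg.Agent.S0542

/-!
# ODD half, D6, `q = 3`: (NI) with `B`: the components (helper135, text of helper801 bb #14694 (2), (3), (4))

`dich`: a component `M` contains `Q₁` or `Q₂`, or `C_M(t) ≤ B` and `Q₁ Q₂` centralises `M`.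
`exists_comp`: some component contains `Q₁` or `Q₂`.
-/

set_option autoImplicit false

namespace Cfsg.Agent.OddHalf.D6.QThree.NIB

open Subgroup Cfsg
open Cfsg.Agent.SignalizersComponents.Components
open Cfsg.Agent.Cit (cj mem_cj conj_mem_cj cj_mul cj_one)
open Cfsg.Agent.OddHalf.D6.QThree.NISide

variable {X : Type*} [Group X]

namespace Bt

variable {t : X} {Q₁ Q₂ : Subgroup X}

theorem one : Bt t Q₁ Q₂ 1 := ⟨by simp, fun q _ => by simp, fun q _ => by simp⟩

theorem mul {b c : X} (hb : Bt t Q₁ Q₂ b) (hc : Bt t Q₁ Q₂ c) : Bt t Q₁ Q₂ (b * c) := by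
  refine ⟨?_, fun q hq => ?_, fun q hq => ?_⟩
  · exact ((show Commute b t from hb.1).mul_left (show Commute c t from hc.1)).eq
  · exact ((show Commute b q from hb.2.1 q hq).mul_left (show Commute c q from hc.2.1 q hq)).eq
  · exact ((show Commute b q from hb.2.2 q hq).mul_left (show Commute c q from hc.2.2 q hq)).eq

theorem inv {b : X} (hb : Bt t Q₁ Q₂ b) : Bt t Q₁ Q₂ b⁻¹ := by
  refine ⟨?_, fun q hq => ?_, fun q hq => ?_⟩
  · exact (show Commute b t from hb.1).inv_left.eq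
  · exact (show Commute b q from hb.2.1 q hq).inv_left.eq
  · exact (show Commute b q from hb.2.2 q hq).inv_left.eq

theorem symm {b : X} (hb : Bt t Q₁ Q₂ b) : Bt t Q₂ Q₁ b := ⟨hb.1, hb.2.2, hb.2.1⟩

end Bt

/-- an element `u` commuting with `d` of odd order, `u⁴ = 1`, `u = [d, s]`: `u = 1` -/
theorem eq_one_of_odd {d s u : X} (hd : Odd (orderOf d)) (hu : u ^ 4 = 1) (hdu : d * u = u * d)
    (he : d * s * d⁻¹ * s⁻¹ = u) : u = 1 := by
  have h1 : d * s * d⁻¹ = u * s := by rw [← he]; group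
  have key : ∀ n : ℕ, d ^ n * s * (d ^ n)⁻¹ = u ^ n * s := by
    intro n
    induction n with
    | zero => simp
    | succ n ih =>
      have c : Commute d (u ^ n) := (show Commute d u from hdu).pow_right n
      calc d ^ (n + 1) * s * (d ^ (n + 1))⁻¹ = d * (d ^ n * s * (d ^ n)⁻¹) * d⁻¹ := by
            rw [pow_succ']; group
        _ = (d * u ^ n) * s * d⁻¹ := by rw [ih]; group
        _ = u ^ n * (d * s * d⁻¹) := by rw [c.eq]; group
        _ = u ^ (n + 1) * s := by rw [h1, pow_succ]; group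
  have h2 := key (orderOf d)
  rw [pow_orderOf_eq_one, one_mul, inv_one, mul_one] at h2
  have h3 : u ^ orderOf d = 1 := by
    have := h2.symm
    rwa [mul_eq_right] at this
  have h4 : orderOf u ∣ orderOf d := orderOf_dvd_of_pow_eq_one h3
  have h5 : orderOf u ∣ 4 := orderOf_dvd_of_pow_eq_one hu
  have h6 : Nat.Coprime (orderOf d) 4 := by
    rw [show (4 : ℕ) = 2 ^ 2 from rfl]
    exact (Nat.Coprime.pow_right 2 hd.coprime_two_right)
  have h7 := Nat.eq_one_of_dvd_coprimes h6 h4 h5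
  rwa [orderOf_eq_one_iff] at h7

namespace HypB

variable {z t a₁ a₂ : X} {Q₁ Q₂ : Subgroup X}

theorem btz (h : HypB z t a₁ a₂ Q₁ Q₂) : Bt t Q₁ Q₂ z :=
  ⟨(h.zc t).symm, fun q _ => (h.zc q).symm, fun q _ => (h.zc q).symm⟩

theorem btt (h : HypB z t a₁ a₂ Q₁ Q₂) : Bt t Q₁ Q₂ t :=
  ⟨rfl, fun q hq => (h.s₁.ct q hq).symm, fun q hq => (h.s₂.ct q hq).symm⟩

theorem tinv (h : HypB z t a₁ a₂ Q₁ Q₂) : t⁻¹ = t := inv_eq_of_mul_eq_one_right h.tt

theorem t4_sq (h : HypB z t a₁ a₂ Q₁ Q₂) {x : X} (hx : T4 z t x) : x * x = 1 := by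
  have c : Commute t z := h.zc t
  rcases hx with rfl | rfl | rfl | rfl
  · rw [one_mul]
  · exact h.zz
  · exact h.tt
  · calc t * z * (t * z) = t * (z * t) * z := by group
      _ = t * (t * z) * z := by rw [← c.eq]
      _ = (t * t) * (z * z) := by group
      _ = 1 := by rw [h.tt, h.zz, one_mul]

theorem b4 (h : HypB z t a₁ a₂ Q₁ Q₂) {b : X} (hb : Bt t Q₁ Q₂ b) : b ^ 4 = 1 := by
  have h1 := h.t4_sq (h.Bsq b hb)
  rw [show (4 : ℕ) = 2 * 2 from rfl, pow_mul, pow_two b, pow_two, h1]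

theorem symm (h : HypB z t a₁ a₂ Q₁ Q₂) : HypB z t a₂ a₁ Q₂ Q₁ where
  zc := h.zc
  zz := h.zz
  z1 := h.z1
  tt := h.tt
  t1 := h.t1
  tz := h.tz
  O := h.O
  sol := h.sol
  s₁ := h.s₂
  s₂ := h.s₁
  comm := fun x hx y hy => (h.comm y hy x hx).symm
  nor := by
    intro g hg x hx y hy
    obtain ⟨x', hx', y', hy', e⟩ := h.nor g hg y hy x hx
    refine ⟨y', hy', x', hx', ?_⟩
    rw [← h.comm y hy x hx, e, h.comm x' hx' y' hy']
  rad := by
    intro N h1 h2 h3 n hn
    obtain ⟨x, hx, y, hy, b, hb, e⟩ := h.rad N h1 h2 h3 n hn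
    refine ⟨y, hy, x, hx, b, hb.symm, ?_⟩
    rwa [← h.comm x hx y hy]
  odd := fun b hb => h.odd b hb.symm
  oa₁ := h.oa₂
  oa₂ := h.oa₁
  Bsq := fun b hb => h.Bsq b hb.symm
  Bc := fun b c hb hc => h.Bc b c hb.symm hc.symm
  Bu := fun b c hb hc => h.Bu b c hb.symm hc.symm
  sw := h.sw
  swap := by
    obtain ⟨p, hp, h1, h2⟩ := h.swap
    exact ⟨p, hp, h2, h1⟩
  com := h.com
  elem := h.elem
  zM := h.zM
  refl := fun b hb M hM hQ => h.refl b ⟨hb.1.symm, hb.2⟩ M hM hQ.symm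
  nF := fun hc F hF hF2 hQ => h.nF (fun M hM => (hc M hM).symm) F hF hF2 hQ.symm

theorem not_le [Finite X] (h : HypB z t a₁ a₂ Q₁ Q₂) {M : Subgroup X} (hM : IsQuasisimple M)
    (hMt : ∀ x ∈ M, x * t = t * x) : False := by
  apply quasisimple_not_isSolvable hM
  have h1 : M ≤ centralizer ({t} : Set X) := fun x hx => mem_centralizer_singleton_iff.2 (hMt x hx)
  have := h.sol
  exact Group.isSolvable_of_isSolvable_injective (f := inclusion h1) (inclusion_injective h1)

/-- `t` normalises every component -/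
theorem cj_t [Finite X] (h : HypB z t a₁ a₂ Q₁ Q₂) {M : Subgroup X} (hM : IsComponent M) : cj t M = M := by
  by_contra hne
  obtain ⟨D, hD1, -, -, hD3, -⟩ := Cfsg.Agent.Cit.Comp.exists_diag hM h.tt hne
  exact h.not_le hD3 fun x hx => mem_centralizer_singleton_iff.1 (hD1 hx)

/-- **Claim A** -/
theorem claim (h : HypB z t a₁ a₂ Q₁ Q₂) {M : Subgroup X} (hM : IsComponent M) {x w : X} (hs : x * w ∈ M)
    (hx : x ∈ Q₁) (hw : ∀ q ∈ Q₁, w * q = q * w) (haw : a₁ * w = w * a₁) (hx1 : x ≠ 1) (hxz : x ≠ z) :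
    Q₁ ≤ M := by
  set x' := a₁ * x * a₁⁻¹ with hx'
  have hx'Q : x' ∈ Q₁ := h.s₁.aQ x hx
  have hxx' : x * x' ≠ x' * x := h.s₁.act x hx hx1 hxz
  have cw : Commute w x := hw x hx
  have cw' : Commute w x' := hw x' hx'Q
  have e1 : a₁ * (x * w) * a₁⁻¹ = x' * w := by
    calc a₁ * (x * w) * a₁⁻¹ = a₁ * x * (w * a₁⁻¹) := by group
      _ = a₁ * x * (a₁⁻¹ * w) := by rw [(show Commute a₁ w from haw).symm.inv_right.eq]
      _ = x' * w := by rw [hx']; group
  have hne : x * w * (a₁ * (x * w) * a₁⁻¹) ≠ (a₁ * (x * w) * a₁⁻¹) * (x * w) := by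
    intro e
    apply hxx'
    rw [e1] at e
    have h1 : x * w * (x' * w) = x * x' * (w * w) := by
      calc x * w * (x' * w) = x * (w * x') * w := by group
        _ = x * (x' * w) * w := by rw [cw'.eq]
        _ = x * x' * (w * w) := by group
    have h2 : x' * w * (x * w) = x' * x * (w * w) := by
      calc x' * w * (x * w) = x' * (w * x) * w := by group
        _ = x' * (x * w) * w := by rw [cw.eq]
        _ = x' * x * (w * w) := by group
    rw [h1, h2] at e
    exact mul_right_cancel e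
  have hcj : cj a₁ M = M := by
    by_contra hcj
    exact hne (Cfsg.Agent.Cit.Comp.comm_of_ne hM (Cfsg.Agent.Cit.Comp.isComponent_cj hM a₁) (fun e => hcj e.symm)
      hs (conj_mem_cj hs))
  have hs' : a₁ * (x * w) * a₁⁻¹ ∈ M := by
    have := conj_mem_cj (g := a₁) hs
    rwa [hcj] at this
  have hp : (x * w)⁻¹ * (a₁ * (x * w) * a₁⁻¹) = x⁻¹ * x' := by
    rw [e1]
    calc (x * w)⁻¹ * (x' * w) = w⁻¹ * (x⁻¹ * x') * w := by group
      _ = w⁻¹ * (w * (x⁻¹ * x')) := by
          rw [mul_assoc, ((cw.symm.inv_left).mul_left cw'.symm).eq]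
      _ = x⁻¹ * x' := by rw [inv_mul_cancel_left]
  have hpM : x⁻¹ * x' ∈ M := by rw [← hp]; exact M.mul_mem (M.inv_mem hs) hs'
  have hpM' : a₁ * (x⁻¹ * x') * a₁⁻¹ ∈ M := by
    have := conj_mem_cj (g := a₁) hpM
    rwa [hcj] at this
  refine h.s₁.gen h.zc h.zz h.z1 (Q₁.mul_mem (Q₁.inv_mem hx) hx'Q) ?_ ?_ hpM hpM'
  · intro e
    apply hxx'
    rw [inv_mul_eq_one] at e
    rw [← e]
  · intro e
    apply hxx'
    rw [inv_mul_eq_iff_eq_mul] at e
    rw [e, mul_assoc, h.zc x]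

/-- `a₁` centralises `B` -/
theorem a₁b (h : HypB z t a₁ a₂ Q₁ Q₂) {b : X} (hb : Bt t Q₁ Q₂ b) : a₁ * b = b * a₁ :=
  (h.odd b hb a₁ h.s₁.a_t h.oa₁).symm

theorem a₂b (h : HypB z t a₁ a₂ Q₁ Q₂) {b : X} (hb : Bt t Q₁ Q₂ b) : a₂ * b = b * a₂ :=
  (h.odd b hb a₂ h.s₂.a_t h.oa₂).symm

theorem btq (h : HypB z t a₁ a₂ Q₁ Q₂) {x : X} (hx : x = 1 ∨ x = z) : Bt t Q₁ Q₂ x := by
  rcases hx with rfl | rfl
  · exact Bt.one
  · exact h.btz

/-- elements of `R B` in a component containing neither `Q₁` nor `Q₂` -/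
theorem bt_of (h : HypB z t a₁ a₂ Q₁ Q₂) {M : Subgroup X} (hM : IsComponent M) (h1 : ¬ Q₁ ≤ M)
    (h2 : ¬ Q₂ ≤ M) {x y b : X} (hs : x * y * b ∈ M) (hx : x ∈ Q₁) (hy : y ∈ Q₂)
    (hb : Bt t Q₁ Q₂ b) : Bt t Q₁ Q₂ (x * y * b) := by
  have hx' : x = 1 ∨ x = z := by
    by_contra hne
    push Not at hne
    refine h1 (h.claim hM (w := y * b) (by rwa [← mul_assoc]) hx (fun q hq => ?_) ?_ hne.1 hne.2)
    · exact ((show Commute y q from (h.comm q hq y hy).symm).mul_left (show Commute b q from hb.2.1 q hq)).eq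
    · exact ((show Commute a₁ y from h.s₁.aD y hy).mul_right (show Commute a₁ b from h.a₁b hb)).eq
  have hy' : y = 1 ∨ y = z := by
    by_contra hne
    push Not at hne
    refine h2 (h.symm.claim hM (w := x * b) (by rwa [← mul_assoc, ← h.comm x hx y hy]) hy (fun q hq => ?_) ?_
      hne.1 hne.2)
    · exact ((show Commute x q from h.comm x hx q hq).mul_left (show Commute b q from hb.2.2 q hq)).eq
    · exact ((show Commute a₂ x from h.s₂.aD x hx).mul_right (show Commute a₂ b from h.a₂b hb)).eq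
  exact ((h.btq hx').mul (h.btq hy')).mul hb

theorem R_pow (h : HypB z t a₁ a₂ Q₁ Q₂) {x y : X} (hx : x ∈ Q₁) (hy : y ∈ Q₂) : (x * y) ^ 4 = 1 := by
  have key : ∀ u : X, (u = 1 ∨ u = z) ∨ u * u = z → u ^ 4 = 1 := by
    rintro u ((rfl | rfl) | e)
    · rw [one_pow]
    · rw [show (4 : ℕ) = 2 * 2 from rfl, pow_mul, pow_two u, h.zz, one_pow]
    · rw [show (4 : ℕ) = 2 * 2 from rfl, pow_mul, pow_two u, e, pow_two, h.zz]
  have hx4 : x ^ 4 = 1 := key x (by
    by_cases hh : x = 1 ∨ x = z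
    · exact Or.inl hh
    · push Not at hh; exact Or.inr (h.s₁.sq x hx hh.1 hh.2))
  have hy4 : y ^ 4 = 1 := key y (by
    by_cases hh : y = 1 ∨ y = z
    · exact Or.inl hh
    · push Not at hh; exact Or.inr (h.s₂.sq y hy hh.1 hh.2))
  have cxy : Commute x y := h.comm x hx y hy
  rw [cxy.mul_pow, hx4, hy4, one_mul]

/-- `O(C_X(t)) = 1` -/
theorem core_centralizer [Finite X] (h : HypB z t a₁ a₂ Q₁ Q₂) :
    pPrimeCore 2 ↥(centralizer ({t} : Set X)) = ⊥ := by
  set C := centralizer ({t} : Set X) with hC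
  rw [eq_bot_iff]
  intro n hn
  have hcop := Cfsg.Agent.Lib.Cores.pPrimeCore_coprime (G := C) 2
  have hodd : ∀ m ∈ pPrimeCore 2 C, m ^ 4 = 1 → m = 1 := by
    intro m hm hm4
    have h1 : orderOf m ∣ 4 := orderOf_dvd_of_pow_eq_one hm4
    have h2 : orderOf m ∣ Nat.card (pPrimeCore 2 C) := by
      rw [← Subgroup.orderOf_mk m hm]
      exact orderOf_dvd_natCard _
    have h3 : Nat.Coprime 4 (Nat.card (pPrimeCore 2 C)) := by
      rw [show (4 : ℕ) = 2 ^ 2 from rfl]
      exact (hcop.symm).pow_left 2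
    have h4 := Nat.eq_one_of_dvd_coprimes h3 h1 h2
    rwa [orderOf_eq_one_iff] at h4
  have hnt : ∀ m : C, (m : X) * t = t * m := fun m => mem_centralizer_singleton_iff.1 m.2
  have hN := Cfsg.Agent.Lib.Cores.pPrimeCore_normal (G := C) 2
  have key : ∀ x ∈ Q₁, ∀ y ∈ Q₂, (n : X) * (x * y) = (x * y) * n := by
    intro x hx y hy
    obtain ⟨x', hx', y', hy', e⟩ := h.nor n (hnt n) x hx y hy
    have hrC : x * y ∈ C := mem_centralizer_singleton_iff.2
      (show Commute (x * y) t from (show Commute x t from h.s₁.ct x hx).mul_left (h.s₂.ct y hy))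
    set r : C := ⟨x * y, hrC⟩ with hr
    have h1 : n * r * n⁻¹ * r⁻¹ ∈ pPrimeCore 2 C := by
      have h2 : r * n⁻¹ * r⁻¹ ∈ pPrimeCore 2 C := hN.conj_mem _ (inv_mem hn) r
      have h3 := mul_mem hn h2
      have e3 : n * r * n⁻¹ * r⁻¹ = n * (r * n⁻¹ * r⁻¹) := by group
      rw [e3]; exact h3
    have h2 : n * r * n⁻¹ * r⁻¹ = 1 := by
      apply hodd _ h1
      apply Subtype.ext
      show ((n : X) * (x * y) * (n : X)⁻¹ * (x * y)⁻¹) ^ 4 = 1
      rw [e]
      have e4 : x' * y' * (x * y)⁻¹ = (x' * x⁻¹) * (y' * y⁻¹) := by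
        have c1 : Commute x⁻¹ y⁻¹ := (show Commute x y from h.comm x hx y hy).inv_inv
        have c2 : Commute x⁻¹ y' := (show Commute x y' from h.comm x hx y' hy').inv_left
        calc x' * y' * (x * y)⁻¹ = x' * y' * (y⁻¹ * x⁻¹) := by rw [mul_inv_rev]
          _ = x' * y' * (x⁻¹ * y⁻¹) := by rw [c1.eq]
          _ = x' * (y' * x⁻¹) * y⁻¹ := by group
          _ = x' * (x⁻¹ * y') * y⁻¹ := by rw [c2.eq]
          _ = (x' * x⁻¹) * (y' * y⁻¹) := by group
      rw [e4]
      exact h.R_pow (Q₁.mul_mem hx' (Q₁.inv_mem hx)) (Q₂.mul_mem hy' (Q₂.inv_mem hy))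
    have h3 : (n : X) * (x * y) * (n : X)⁻¹ * (x * y)⁻¹ = 1 := congrArg Subtype.val h2
    rwa [mul_inv_eq_one, mul_inv_eq_iff_eq_mul] at h3
  rw [mem_bot]
  apply hodd n hn
  apply Subtype.ext
  show (n : X) ^ 4 = 1
  apply h.b4
  refine ⟨hnt n, fun x hx => ?_, fun y hy => ?_⟩
  · have := key x hx 1 Q₂.one_mem
    rwa [mul_one] at this
  · have := key 1 Q₁.one_mem y hy
    rwa [one_mul] at this

/-- the centralizer of `t` in a component containing neither `Q₁` nor `Q₂`: it contains the centralizer (in itself) of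
a subgroup of `B` -/
theorem exists_core [Finite X] (h : HypB z t a₁ a₂ Q₁ Q₂) {M : Subgroup X} (hM : IsComponent M) (h1 : ¬ Q₁ ≤ M)
    (h2 : ¬ Q₂ ≤ M) :
    ∃ O : Subgroup X, O ≤ M ∧ (∀ o ∈ O, Bt t Q₁ Q₂ o) ∧ (∀ m ∈ M, m * t = t * m → ∀ o ∈ O, m * o * m⁻¹ ∈ O) ∧
      ∀ m ∈ M, m * t = t * m → (∀ o ∈ O, o * m = m * o) → m ∈ O := by
  have : Fact (Nat.Prime 2) := ⟨Nat.prime_two⟩
  have hsol := h.sol
  set C := centralizer ({t} : Set X) with hC
  set S : Subgroup C := M.subgroupOf C with hS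
  have hSn : S.IsSubnormal := hM.1.subgroupOf
  have hct : ∀ m : C, (m : X) * t = t * m := fun m => mem_centralizer_singleton_iff.1 m.2
  have hcore : ∀ s : S, s ∈ pCore 2 S → Bt t Q₁ Q₂ ((s : C) : X) := by
    intro s hs
    have e := Cfsg.Agent.SignalizersComponents.CompBasic.map_subtype_pCore_of_subnormal 2 hSn
    have h3 : (s : C) ∈ S ⊓ pCore 2 C := by rw [← e]; exact ⟨s, hs, rfl⟩
    have hN := Cfsg.Agent.Lib.Cores.pCore_normal (G := C) 2
    obtain ⟨x, hx, y, hy, b, hb, hxy⟩ := h.rad ((pCore 2 C).map C.subtype) (by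
        rintro _ ⟨n, -, rfl⟩; exact hct n) ((Cfsg.Agent.Lib.Cores.pCore_isPGroup 2).map _) (by
        rintro g hg _ ⟨n, hn, rfl⟩
        exact ⟨⟨g, mem_centralizer_singleton_iff.2 hg⟩ * n * ⟨g, mem_centralizer_singleton_iff.2 hg⟩⁻¹,
          hN.conj_mem n hn _, rfl⟩) ((s : C) : X) ⟨s, h3.2, rfl⟩
    have h4 : ((s : C) : X) ∈ M := mem_subgroupOf.1 s.2
    rw [hxy] at h4 ⊢
    exact h.bt_of hM h1 h2 h4 hx hy hb
  have hOS : pPrimeCore 2 S = ⊥ := by
    have e := Cfsg.Agent.SignalizersComponents.CompBasic.map_subtype_pPrimeCore_of_subnormal 2 hSn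
    rw [h.core_centralizer, inf_bot_eq] at e
    exact (map_eq_bot_iff_of_injective _ S.subtype_injective).1 e
  have hSsol : Group.IsSolvable S := inferInstance
  have hcen : centralizer (pCore 2 S : Set S) ≤ pCore 2 S :=
    Cfsg.Agent.OddOrderLocal.RankTwoSolvable.centralizer_pCore_le hOS
  have hNS := Cfsg.Agent.Lib.Cores.pCore_normal (G := S) 2
  refine ⟨((pCore 2 S).map S.subtype).map C.subtype, ?_, ?_, ?_, ?_⟩
  · rintro _ ⟨_, ⟨s, -, rfl⟩, rfl⟩
    exact mem_subgroupOf.1 s.2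
  · rintro _ ⟨_, ⟨s, hs, rfl⟩, rfl⟩
    exact hcore s hs
  · rintro m hm hmt _ ⟨_, ⟨s, hs, rfl⟩, rfl⟩
    have hmC : m ∈ C := mem_centralizer_singleton_iff.2 hmt
    refine ⟨_, ⟨⟨⟨m, hmC⟩, mem_subgroupOf.2 hm⟩ * s * ⟨⟨m, hmC⟩, mem_subgroupOf.2 hm⟩⁻¹, hNS.conj_mem s hs _, rfl⟩,
      rfl⟩
  · intro m hm hmt hmo
    have hmC : m ∈ C := mem_centralizer_singleton_iff.2 hmt
    refine ⟨_, ⟨⟨⟨m, hmC⟩, mem_subgroupOf.2 hm⟩, ?_, rfl⟩, rfl⟩
    apply hcen
    rw [mem_centralizer_iff]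
    intro u hu
    apply Subtype.ext
    apply Subtype.ext
    exact hmo ((u : C) : X) ⟨_, ⟨u, hu, rfl⟩, rfl⟩

/-- a subgroup containing the commutators `[r, a₁]` (`r ∈ Q₁`) contains `Q₁` -/
theorem gen_le (h : HypB z t a₁ a₂ Q₁ Q₂) {H : Subgroup X} (hH : ∀ r ∈ Q₁, r * (a₁ * r * a₁⁻¹)⁻¹ ∈ H) : Q₁ ≤ H := by
  obtain ⟨q, hq, hq1, hqz⟩ := h.s₁.exists_ne
  set q' := a₁ * q * a₁⁻¹ with hq'
  have hq'Q : q' ∈ Q₁ := h.s₁.aQ q hq
  have hact := h.s₁.act q hq hq1 hqz
  rw [← hq'] at hact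
  have h1 := hH q hq
  have h2 := hH q' hq'Q
  rw [← hq'] at h1
  refine h.s₁.gen h.zc h.zz h.z1 (Q₁.mul_mem hq (Q₁.inv_mem hq'Q)) ?_ ?_ h1 ?_
  · intro e
    apply hact
    rw [mul_inv_eq_one] at e
    rw [← e]
  · intro e
    apply hact
    rw [mul_inv_eq_iff_eq_mul, ← h.zc] at e
    rw [e, mul_assoc, h.zc q', ← mul_assoc]
  · have e : a₁ * (q * q'⁻¹) * a₁⁻¹ = q' * (a₁ * q' * a₁⁻¹)⁻¹ := by rw [hq']; group
    rw [e]
    exact h2

/-- a subgroup containing the elements of odd order of `C_X(t)` contains `Q₁` -/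
theorem le_of_odd (h : HypB z t a₁ a₂ Q₁ Q₂) {H : Subgroup X}
    (hH : ∀ d, d * t = t * d → Odd (orderOf d) → d ∈ H) : Q₁ ≤ H := by
  apply h.gen_le
  intro r hr
  have e : r * (a₁ * r * a₁⁻¹)⁻¹ = (r * a₁ * r⁻¹) * a₁⁻¹ := by group
  rw [e]
  refine H.mul_mem (hH _ ?_ ?_) (H.inv_mem (hH a₁ h.s₁.a_t h.oa₁))
  · have d1 : Commute r t := h.s₁.ct r hr
    have d2 : Commute a₁ t := h.s₁.a_t
    exact ((d1.mul_left d2).mul_left d1.inv_left).eq
  · rw [show r * a₁ * r⁻¹ = MulAut.conj r a₁ from rfl, MulEquiv.orderOf_eq]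
    exact h.oa₁

/-- an element commuting with the elements of odd order of `C_X(t)` commutes with `Q₁` -/
theorem comm_Q₁ (h : HypB z t a₁ a₂ Q₁ Q₂) {s : X} (hs : ∀ d, d * t = t * d → Odd (orderOf d) → d * s = s * d) :
    ∀ q ∈ Q₁, s * q = q * s := by
  have hle : Q₁ ≤ centralizer ({s} : Set X) :=
    h.le_of_odd fun d hd ho => mem_centralizer_singleton_iff.2 (hs d hd ho)
  intro q hq
  exact (mem_centralizer_singleton_iff.1 (hle hq)).symm

/-- **(2)**: for a component containing neither `Q₁` nor `Q₂` -/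
theorem alpha [Finite X] (h : HypB z t a₁ a₂ Q₁ Q₂) {M : Subgroup X} (hM : IsComponent M) (h1 : ¬ Q₁ ≤ M)
    (h2 : ¬ Q₂ ≤ M) :
    (∀ m ∈ M, m * t = t * m → Bt t Q₁ Q₂ m) ∧
      ((∀ m ∈ M, m * t = t * m → ∀ x ∈ M, m * x = x * m) ∨
        ∀ d, d * t = t * d → Odd (orderOf d) → ∀ m ∈ M, d * m * d⁻¹ ∈ M) := by
  obtain ⟨O, hOM, hOB, hOn, hOc⟩ := h.exists_core hM h1 h2
  by_cases hd : ∃ d, d * t = t * d ∧ Odd (orderOf d) ∧ cj d M ≠ M
  · obtain ⟨d, hdt, hdo, hdM⟩ := hd
    have hcen : ∀ o ∈ O, ∀ x ∈ M, o * x = x * o := by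
      intro o ho x hx
      have h3 : d * o * d⁻¹ = o := by
        rw [← h.odd o (hOB o ho) d hdt hdo, mul_inv_cancel_right]
      have h4 := conj_mem_cj (g := d) (hOM ho)
      rw [h3] at h4
      exact (Cfsg.Agent.Cit.Comp.comm_of_ne hM (Cfsg.Agent.Cit.Comp.isComponent_cj hM d) (fun e => hdM e.symm)
        hx h4).symm
    have hall : ∀ m ∈ M, m * t = t * m → m ∈ O := fun m hm hmt => hOc m hm hmt fun o ho => hcen o ho m hm
    exact ⟨fun m hm hmt => hOB m (hall m hm hmt), Or.inl fun m hm hmt x hx => hcen m (hall m hm hmt) x hx⟩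
  · push Not at hd
    have hdM : ∀ d, d * t = t * d → Odd (orderOf d) → ∀ m ∈ M, d * m * d⁻¹ ∈ M := by
      intro d hdt hdo m hm
      have h3 := conj_mem_cj (g := d) hm
      rwa [hd d hdt hdo] at h3
    refine ⟨fun m hm hmt => ?_, Or.inr hdM⟩
    have key : ∀ d, d * t = t * d → Odd (orderOf d) → d * m = m * d := by
      intro d hdt hdo
      set u := d * m * d⁻¹ * m⁻¹ with hu
      have huM : u ∈ M := M.mul_mem (hdM d hdt hdo m hm) (M.inv_mem hm)
      have cd : Commute d t := hdt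
      have cm : Commute m t := hmt
      have hut : u * t = t * u := (((cd.mul_left cm).mul_left cd.inv_left).mul_left cm.inv_left).eq
      have huO : u ∈ O := by
        refine hOc u huM hut fun o ho => ?_
        have c1 : Commute o d := h.odd o (hOB o ho) d hdt hdo
        have h4 : m⁻¹ * o * m ∈ O := by
          have := hOn m⁻¹ (M.inv_mem hm) cm.inv_left.eq o ho
          rwa [inv_inv] at this
        have c2 : Commute (m⁻¹ * o * m) d := h.odd _ (hOB _ h4) d hdt hdo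
        have c3 : Commute o (m * d⁻¹ * m⁻¹) := by
          have e : o * (m * d⁻¹ * m⁻¹) = m * ((m⁻¹ * o * m) * d⁻¹) * m⁻¹ := by group
          rw [Commute, SemiconjBy, e, c2.inv_right.eq]
          group
        have e : u = d * (m * d⁻¹ * m⁻¹) := by rw [hu]; group
        rw [e]
        exact (c1.mul_right c3).eq
      have h5 : u = 1 := eq_one_of_odd (s := m) hdo (h.b4 (hOB u huO)) (h.odd u (hOB u huO) d hdt hdo).symm hu.symm
      rw [hu, mul_inv_eq_one, mul_inv_eq_iff_eq_mul] at h5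
      exact h5
    exact ⟨hmt, h.comm_Q₁ key, h.symm.comm_Q₁ key⟩

end HypB

section Rigid

open Cfsg.Agent.Involutions.RigidAut

/-- the derived subgroup of the group of automorphisms fixing a Sylow `2`-subgroup pointwise has odd order (as in
S0227, without the odd order theorem) -/
theorem odd_commutator {G : Type*} [Group G] [Finite G]
    (hO : ∀ N : Subgroup G, N.Normal → Odd (Nat.card N) → N = ⊥) (S : Sylow 2 G)
    (C : Subgroup (MulAut G)) (hC : ∀ φ : MulAut G, φ ∈ C ↔ ∀ s : G, s ∈ S → φ s = s) :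
    Odd (Nat.card (commutator C)) := by
  have hp : Fact (Nat.Prime 2) := ⟨Nat.prime_two⟩
  rw [← Nat.not_even_iff_odd, even_iff_two_dvd]
  intro h2
  obtain ⟨φ, hφ⟩ := exists_prime_orderOf_dvd_card' (G := commutator C) 2 h2
  set ψ : MulAut G := ((φ : C) : MulAut G) with hψ
  have hord : orderOf ψ = 2 := by rw [hψ, Subgroup.orderOf_coe, Subgroup.orderOf_coe, hφ]
  have hψC : ψ ∈ C := (φ : C).2
  have hS : ∀ s ∈ S, ψ s = s := (hC _).mp hψC
  have hψp : IsPGroup 2 (Subgroup.zpowers ψ) := by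
    apply IsPGroup.of_card (n := 1)
    rw [Nat.card_zpowers, hord, pow_one]
  obtain ⟨P, hP⟩ := exists_sylow S ψ hS hψp
  have hiso := isolated S C (fun φ hφ => (hC φ).mp hφ) ψ hψC φ.2 P hP
  have := finite_SD ψ
  have hx2 : orderOf (sx ψ) = 2 := by
    have h1 : orderOf (sx ψ) = orderOf (⟨ψ, Subgroup.mem_zpowers ψ⟩ : Subgroup.zpowers ψ) :=
      orderOf_injective (SemidirectProduct.inr : Subgroup.zpowers ψ →* SD ψ)
        SemidirectProduct.inr_injective _
    rw [h1, ← Subgroup.orderOf_coe]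
    exact hord
  have hxP : sx ψ ∈ P := (hP _).mpr (S : Subgroup G).one_mem
  obtain ⟨N, hN, hNodd, hNc⟩ := Cfsg.Agent.S0215.result P (sx ψ) hx2 hxP hiso
  have hN₀ : N.comap (SemidirectProduct.inl : G →* SD ψ) = ⊥ := by
    apply hO _ inferInstance
    refine Odd.of_dvd_nat hNodd ?_
    exact Subgroup.card_comap_dvd_of_injective N _ SemidirectProduct.inl_injective
  have hone : ∀ g : G, ψ g = g := by
    intro g
    have h1 := hNc (SemidirectProduct.inl g)
    have h2 : sx ψ * SemidirectProduct.inl g * (sx ψ)⁻¹ * (SemidirectProduct.inl g)⁻¹ =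
        SemidirectProduct.inl (ψ g * g⁻¹) := by
      rw [← map_inv SemidirectProduct.inr, ← SemidirectProduct.inl_aut, map_mul, map_inv]
      rfl
    rw [h2] at h1
    have h3 : ψ g * g⁻¹ ∈ N.comap (SemidirectProduct.inl : G →* SD ψ) := h1
    rw [hN₀, Subgroup.mem_bot, mul_inv_eq_one] at h3
    exact h3
  have h1 : ψ = 1 := MulEquiv.ext hone
  rw [h1, orderOf_one] at hord
  exact absurd hord (by norm_num)

end Rigid

theorem comm_layer {M : Subgroup X} (hM : IsComponent M) {x : X} (hx : x ∈ M)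
    (hc : ∀ y ∈ M, x * y = y * x) : ∀ y ∈ layer X, x * y = y * x := by
  intro y hy
  have h1 : layer X ≤ centralizer ({x} : Set X) := by
    rw [layer_le_iff]
    intro K hK k hk
    rw [mem_centralizer_singleton_iff]
    by_cases e : K = M
    · subst e
      exact (hc k hk).symm
    · exact Cfsg.Agent.Cit.Comp.comm_of_ne hK hM e hk hx
  exact (mem_centralizer_singleton_iff.1 (h1 hy)).symm

namespace HypB

variable {z t a₁ a₂ : X} {Q₁ Q₂ : Subgroup X}

/-- the involutions of the center of a component -/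
theorem eq_z (h : HypB z t a₁ a₂ Q₁ Q₂) {M : Subgroup X} (hM : IsComponent M) {s : X} (hs : s ∈ M)
    (hc : ∀ y ∈ M, s * y = y * s) (hss : s * s = 1) : s = 1 ∨ s = z := by
  have hn : (layer X).Normal := layer_normal X
  let W : Subgroup X :=
    { carrier := {w | w ∈ layer X ∧ (∀ y ∈ layer X, w * y = y * w) ∧ w * w = 1}
      one_mem' := ⟨(layer X).one_mem, fun y _ => by simp, by simp⟩
      mul_mem' := by
        rintro a b ⟨ha, ha', haa⟩ ⟨hb, hb', hbb⟩
        refine ⟨(layer X).mul_mem ha hb, fun y hy =>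
          ((show Commute a y from ha' y hy).mul_left (show Commute b y from hb' y hy)).eq, ?_⟩
        calc a * b * (a * b) = a * (b * a) * b := by group
          _ = a * (a * b) * b := by rw [hb' a ha]
          _ = (a * a) * (b * b) := by group
          _ = 1 := by rw [haa, hbb, one_mul]
      inv_mem' := by
        rintro a ⟨ha, ha', haa⟩
        refine ⟨(layer X).inv_mem ha, fun y hy => (show Commute a y from ha' y hy).inv_left.eq, ?_⟩
        rw [← mul_inv_rev, haa, inv_one] }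
  have hW : W.Normal := by
    refine ⟨fun w hw g => ?_⟩
    obtain ⟨h1, h2, h3⟩ := hw
    refine ⟨hn.conj_mem w h1 g, fun y hy => ?_, ?_⟩
    · have h4 := h2 _ (hn.conj_mem y hy g⁻¹)
      rw [inv_inv] at h4
      calc g * w * g⁻¹ * y = g * (w * (g⁻¹ * y * g)) * g⁻¹ := by group
        _ = g * ((g⁻¹ * y * g) * w) * g⁻¹ := by rw [h4]
        _ = y * (g * w * g⁻¹) := by group
    · calc g * w * g⁻¹ * (g * w * g⁻¹) = g * (w * w) * g⁻¹ := by group
        _ = 1 := by rw [h3]; group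
  exact h.elem W hW (fun w hw => hw.2.2) s ⟨component_le_layer hM hs, comm_layer hM hs hc, hss⟩

/-- `C_M(t)` is not in the center of the component `M` -/
theorem not_central [Finite X] (h : HypB z t a₁ a₂ Q₁ Q₂) {M : Subgroup X} (hM : IsComponent M)
    (hc : ∀ m ∈ M, m * t = t * m → ∀ x ∈ M, m * x = x * m) : False := by
  have htm : ∀ x ∈ M, t * x * t⁻¹ ∈ M := fun x hx => by
    have := conj_mem_cj (g := t) hx
    rwa [h.cj_t hM] at this
  set N : Subgroup M := (centralizer ({t} : Set X)).subgroupOf M with hN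
  have hmem : ∀ m : M, m ∈ N ↔ (m : X) * t = t * m := fun m => by
    rw [hN, mem_subgroupOf, mem_centralizer_singleton_iff]
  have hNc : N ≤ center M := by
    intro m hm
    rw [mem_center_iff]
    intro g
    exact Subtype.ext (hc m m.2 ((hmem m).1 hm) g g.2).symm
  have hNn : N.Normal := by
    refine ⟨fun n hn g => ?_⟩
    have := mem_center_iff.1 (hNc hn) g
    rwa [this, mul_inv_cancel_right]
  let σ : M →* M :=
    { toFun := fun m => ⟨t * m * t⁻¹, htm m m.2⟩
      map_one' := by apply Subtype.ext; simp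
      map_mul' := by intro x y; apply Subtype.ext; simp }
  have hσ : ∀ m : M, ((σ m : M) : X) = t * m * t⁻¹ := fun m => rfl
  have hσσ : ∀ m : M, σ (σ m) = m := by
    intro m
    apply Subtype.ext
    rw [hσ, hσ]
    calc t * (t * (m : X) * t⁻¹) * t⁻¹ = (t * t) * m * (t * t)⁻¹ := by group
      _ = m := by rw [h.tt]; group
  have hNσ : N ≤ N.comap σ := by
    intro m hm
    rw [mem_comap, hmem, hσ]
    have h1 := (hmem m).1 hm
    rw [← h1, mul_inv_cancel_right]
    exact h1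
  let τ : M ⧸ N →* M ⧸ N := QuotientGroup.map N N σ hNσ
  have hτ : ∀ m : M, τ (m : M ⧸ N) = ((σ m : M) : M ⧸ N) := fun m => rfl
  have hττ : ∀ x, τ (τ x) = x := by
    intro x
    induction x using QuotientGroup.induction_on with
    | H m => rw [hτ, hτ, hσσ]
  have hnt : Nontrivial (M ⧸ N) := by
    rw [← not_subsingleton_iff_nontrivial]
    intro hs
    rw [QuotientGroup.subsingleton_iff] at hs
    apply h.not_le hM.2
    intro x hx
    have : (⟨x, hx⟩ : M) ∈ N := by rw [hs]; exact mem_top _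
    exact (hmem _).1 this
  have hq : IsQuasisimple (M ⧸ N) :=
    Cfsg.Agent.SignalizersComponents.ComponentImage.isQuasisimple_of_surjective hM.2 (QuotientGroup.mk' N)
      (QuotientGroup.mk'_surjective N) hnt
  have hfix : ∀ m : M, τ (m : M ⧸ N) = m → m ∈ N ∨ t * (m : X) * t⁻¹ = m * z := by
    intro m hm
    rw [hτ] at hm
    have h1 : m⁻¹ * σ m ∈ N := QuotientGroup.eq.1 hm.symm
    set s : X := (m : X)⁻¹ * (t * m * t⁻¹) with hs
    have hs' : ((m⁻¹ * σ m : M) : X) = s := rfl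
    have hst : s * t = t * s := by
      have := (hmem _).1 h1
      rwa [hs'] at this
    have hsM : s ∈ M := by rw [← hs']; exact (m⁻¹ * σ m).2
    have hss : s * s = 1 := by
      have h2 : s = t * s * t⁻¹ := by rw [← hst, mul_inv_cancel_right]
      have h3 : t * s * t⁻¹ = s⁻¹ := by
        rw [hs]
        calc t * ((m : X)⁻¹ * (t * m * t⁻¹)) * t⁻¹ = (t * m * t⁻¹)⁻¹ * ((t * t) * m * (t * t)⁻¹) := by group
          _ = (t * m * t⁻¹)⁻¹ * m := by rw [h.tt]; group
          _ = ((m : X)⁻¹ * (t * m * t⁻¹))⁻¹ := by group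
      rw [h3] at h2
      rw [mul_eq_one_iff_eq_inv]
      exact h2
    rcases h.eq_z hM hsM (hc s hsM hst) hss with h2 | h2
    · left
      rw [hmem]
      rw [hs, inv_mul_eq_one] at h2
      rw [eq_mul_inv_iff_mul_eq] at h2
      exact h2
    · right
      rw [hs, inv_mul_eq_iff_eq_mul] at h2
      exact h2
  obtain ⟨b, hb⟩ : ∃ b : M ⧸ N, ∀ m : M, t * (m : X) * t⁻¹ = m * z → (m : M ⧸ N) = b := by
    by_cases hv : ∃ v : M, t * (v : X) * t⁻¹ = v * z
    · obtain ⟨v, hv⟩ := hv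
      refine ⟨(v : M ⧸ N), fun m hm => ?_⟩
      symm
      rw [QuotientGroup.eq, hmem]
      show ((v : X)⁻¹ * m) * t = t * ((v : X)⁻¹ * m)
      have h1 : t * ((v : X)⁻¹ * m) * t⁻¹ = (v : X)⁻¹ * m := by
        calc t * ((v : X)⁻¹ * m) * t⁻¹ = (t * v * t⁻¹)⁻¹ * (t * m * t⁻¹) := by group
          _ = (v * z)⁻¹ * (m * z) := by rw [hv, hm]
          _ = z⁻¹ * (((v : X)⁻¹ * m) * z) := by group
          _ = (v : X)⁻¹ * m := by rw [h.zc]; group
      rw [mul_inv_eq_iff_eq_mul] at h1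
      exact h1.symm
    · exact ⟨1, fun m hm => absurd ⟨m, hm⟩ hv⟩
  obtain ⟨x, hx, hx1, hxb⟩ := Cfsg.Agent.OddHalf.D6.QThree.TwoFix.exists_fix hq τ hττ b
  induction x using QuotientGroup.induction_on with
  | H m =>
    rcases hfix m hx with h1 | h1
    · exact hx1 ((QuotientGroup.eq_one_iff m).2 h1)
    · exact hxb (hb m h1)

/-- **(3)**, end: `Q₁` centralises `M` -/
theorem cent [Finite X] (h : HypB z t a₁ a₂ Q₁ Q₂) {M : Subgroup X} (hM : IsComponent M)
    (hB : ∀ m ∈ M, m * t = t * m → Bt t Q₁ Q₂ m)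
    (hd : ∀ d, d * t = t * d → Odd (orderOf d) → ∀ m ∈ M, d * m * d⁻¹ ∈ M) :
    ∀ m ∈ M, ∀ x ∈ Q₁, m * x = x * m := by
  have : Fact (Nat.Prime 2) := ⟨Nat.prime_two⟩
  have htm : ∀ x ∈ M, t * x * t⁻¹ ∈ M := fun x hx => by
    have := conj_mem_cj (g := t) hx
    rwa [h.cj_t hM] at this
  -- the elements of odd order of `C_X(t)`
  set D : Set X := {d | d * t = t * d ∧ Odd (orderOf d)} with hD
  set E : Subgroup X := (M ⊔ zpowers t) ⊓ centralizer D with hE
  have htE : t ∈ E := by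
    refine ⟨(le_sup_right : zpowers t ≤ _) (mem_zpowers t), mem_centralizer_iff.2 fun d hd => hd.1⟩
  -- a maximal 2-subgroup `P` of `E` containing `t`
  obtain ⟨P, ⟨htP, hP2, hPE⟩, hPmax⟩ := (Set.toFinite {P : Subgroup X | t ∈ P ∧ IsPGroup 2 P ∧ P ≤ E}).exists_maximal
    ⟨zpowers t, mem_zpowers t, NI.isPGroup_zp h.tt, by rwa [zpowers_le]⟩
  obtain ⟨T, hT⟩ := hP2.exists_le_sylow
  set P₁ : Subgroup X := (T : Subgroup X) ⊓ (M ⊔ zpowers t) with hP₁
  have hPP₁ : P ≤ P₁ := le_inf hT (hPE.trans inf_le_left)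
  have hP₁2 : IsPGroup 2 P₁ := T.2.to_le inf_le_left
  -- the elements of `M ⟨t⟩`
  have hmt : ∀ g ∈ M ⊔ zpowers t, g ∈ M ∨ g * t ∈ M := by
    let P' : Subgroup X :=
      { carrier := {x | x ∈ M ∨ x * t ∈ M}
        one_mem' := Or.inl M.one_mem
        mul_mem' := by
          have key : ∀ b ∈ M, t * b * t ∈ M := fun b hb => by
            have := htm b hb; rwa [h.tinv] at this
          rintro x y (hx | hx) (hy | hy)
          · exact Or.inl (M.mul_mem hx hy)
          · right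
            rw [mul_assoc]
            exact M.mul_mem hx hy
          · right
            have h1 := M.mul_mem hx (key y hy)
            have e : x * t * (t * y * t) = x * y * t := by
              calc x * t * (t * y * t) = x * (t * t) * y * t := by group
                _ = x * y * t := by rw [h.tt]; group
            rwa [e] at h1
          · left
            have h1 := M.mul_mem hx (key _ hy)
            have e : x * t * (t * (y * t) * t) = x * y := by
              calc x * t * (t * (y * t) * t) = x * (t * t) * y * (t * t) := by group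
                _ = x * y := by rw [h.tt]; group
            rwa [e] at h1
        inv_mem' := by
          have key : ∀ b ∈ M, t * b * t ∈ M := fun b hb => by
            have := htm b hb; rwa [h.tinv] at this
          rintro x (hx | hx)
          · exact Or.inl (M.inv_mem hx)
          · right
            have h1 := key _ (M.inv_mem hx)
            have e : t * (x * t)⁻¹ * t = x⁻¹ * t := by
              rw [mul_inv_rev, h.tinv, ← mul_assoc, h.tt, one_mul]
            rwa [e] at h1 }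
    have h1 : M ⊔ zpowers t ≤ P' := by
      rw [sup_le_iff, zpowers_le]
      exact ⟨fun x hx => Or.inl hx, Or.inr (by rw [h.tt]; exact M.one_mem)⟩
    exact h1
  have hPP : P = P₁ := by
    by_contra hne
    have hlt : P < P₁ := lt_of_le_of_ne hPP₁ hne
    have hnil : Group.IsNilpotent P₁ := hP₁2.isNilpotent
    obtain ⟨g, hgP₁, hgP, hgN⟩ := Cfsg.Agent.Transfer.FrobeniusFusion.exists_mem_normalizer_notMem hlt
    have hgE : g ∈ E := by
      refine ⟨hgP₁.2, mem_centralizer_iff.2 ?_⟩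
      intro d hdD
      obtain ⟨hdt, hdo⟩ := hdD
      set u := d * g * d⁻¹ * g⁻¹ with hu
      -- `u` centralises `P`
      have huP : ∀ p ∈ P, u * p = p * u := by
        intro p hp
        have c1 : Commute d p := (mem_centralizer_iff.1 (hPE hp).2 d ⟨hdt, hdo⟩)
        have h4 : g⁻¹ * p * g ∈ P := by
          have := (mem_normalizer_iff.1 (inv_mem hgN) p).1 hp
          rwa [inv_inv] at this
        have c2 : Commute d (g⁻¹ * p * g) := (mem_centralizer_iff.1 (hPE h4).2 d ⟨hdt, hdo⟩)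
        have c3 : Commute (g * d⁻¹ * g⁻¹) p := by
          have e : (g * d⁻¹ * g⁻¹) * p = g * (d⁻¹ * (g⁻¹ * p * g)) * g⁻¹ := by group
          rw [Commute, SemiconjBy, e, c2.inv_left.eq]
          group
        have e : u = d * (g * d⁻¹ * g⁻¹) := by rw [hu]; group
        rw [e]
        exact (c1.mul_left c3).eq
      have hut : u * t = t * u := huP t htP
      have huM : u ∈ M := by
        rcases hmt g hgP₁.2 with hg | hg
        · exact M.mul_mem (hd d hdt hdo g hg) (M.inv_mem hg)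
        · have h5 := M.mul_mem (hd d hdt hdo _ hg) (M.inv_mem hg)
          have e : d * (g * t) * d⁻¹ * (g * t)⁻¹ = u := by
            have cd : Commute d t := hdt
            calc d * (g * t) * d⁻¹ * (g * t)⁻¹ = d * g * (t * d⁻¹) * t⁻¹ * g⁻¹ := by group
              _ = d * g * (d⁻¹ * t) * t⁻¹ * g⁻¹ := by rw [cd.symm.inv_right.eq]
              _ = u := by rw [hu]; group
          rwa [e] at h5
      have huB := hB u huM hut
      have h5 : u = 1 := eq_one_of_odd (s := g) hdo (h.b4 huB) (h.odd u huB d hdt hdo).symm hu.symm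
      rw [hu, mul_inv_eq_one, mul_inv_eq_iff_eq_mul] at h5
      exact h5
    have hg2 : IsPGroup 2 (zpowers g) := hP₁2.to_le (by rwa [zpowers_le])
    have h6 : IsPGroup 2 (P ⊔ zpowers g : Subgroup X) :=
      IsPGroup.to_sup_of_normal_left' hP2 hg2 (by rwa [zpowers_le])
    have h7 := hPmax (y := P ⊔ zpowers g) ⟨(le_sup_left : P ≤ _) htP, h6, sup_le hPE (by rwa [zpowers_le])⟩ le_sup_left
    exact hgP (h7 ((le_sup_right : zpowers g ≤ _) (mem_zpowers g)))
  -- the Sylow 2-subgroup `Q` of `M`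
  obtain ⟨Q, hQ⟩ := Cfsg.Agent.S0542.result 2 M hM.1 T
  have hQD : ∀ s : M, s ∈ Q → ∀ d ∈ D, d * (s : X) = s * d := by
    intro s hs d hdD
    have h1 : (s : X) ∈ P := by
      rw [hPP]
      refine ⟨?_, (le_sup_left : M ≤ _) s.2⟩
      have : s ∈ (T : Subgroup X).subgroupOf M := by rw [← hQ]; exact hs
      exact mem_subgroupOf.1 this
    exact mem_centralizer_iff.1 (hPE h1).2 d hdD
  -- the normalizer
  have hDN : D ⊆ (normalizer (M : Set X) : Subgroup X) := by
    rintro d ⟨hdt, hdo⟩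
    show d ∈ normalizer (M : Set X)
    rw [mem_normalizer_iff]
    intro x
    refine ⟨fun hx => hd d hdt hdo x hx, fun hx => ?_⟩
    have h1 := hd d⁻¹ ((show Commute d t from hdt).inv_left.eq) (by rwa [orderOf_inv]) _ hx
    have e : d⁻¹ * (d * x * d⁻¹) * d⁻¹⁻¹ = x := by group
    rwa [e] at h1
  have hQN : Q₁ ≤ normalizer (M : Set X) := h.le_of_odd fun d hdt hdo => hDN ⟨hdt, hdo⟩
  have hQQ : ∀ s : M, s ∈ Q → ∀ q ∈ Q₁, (s : X) * q = q * s := fun s hs =>
    h.comm_Q₁ fun d hdt hdo => hQD s hs d ⟨hdt, hdo⟩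
  -- the automorphisms
  let C₀ : Subgroup (MulAut M) :=
    { carrier := {φ | ∀ s : M, s ∈ Q → φ s = s}
      one_mem' := fun s _ => rfl
      mul_mem' := by
        intro a b ha hb s hs
        rw [MulAut.mul_apply, hb s hs, ha s hs]
      inv_mem' := by
        intro a ha s hs
        rw [MulAut.inv_apply, MulEquiv.symm_apply_eq]
        exact (ha s hs).symm }
  have hodd := odd_commutator (G := M) (by
      intro N hN hNo
      have h1 : N ≤ pPrimeCore 2 M :=
        Cfsg.Agent.Lib.Cores.le_pPrimeCore hN hNo.coprime_two_right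
      have e := Cfsg.Agent.SignalizersComponents.CompBasic.map_subtype_pPrimeCore_of_subnormal 2 hM.1
      rw [h.O, inf_bot_eq] at e
      rw [eq_bot_iff]
      exact h1.trans ((map_eq_bot_iff_of_injective _ M.subtype_injective).1 e).le) Q C₀ (fun φ => Iff.rfl)
  have hconj : ∀ g : X, ∀ hg : g ∈ normalizer (M : Set X), (∀ s : M, s ∈ Q → g * (s : X) = s * g) →
      M.normalizerMonoidHom ⟨g, hg⟩ ∈ C₀ := by
    intro g hg hc s hs
    apply Subtype.ext
    show g * (s : X) * g⁻¹ = s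
    rw [hc s hs, mul_inv_cancel_right]
  have hle : Q₁ ≤ centralizer (M : Set X) := by
    apply h.gen_le
    intro r hr
    have hrN := hQN hr
    have haN : a₁ ∈ normalizer (M : Set X) := hDN ⟨h.s₁.a_t, h.oa₁⟩
    set α : C₀ := ⟨_, hconj r hrN (fun s hs => (hQQ s hs r hr).symm)⟩ with hα
    set β : C₀ := ⟨_, hconj a₁ haN (fun s hs => hQD s hs a₁ ⟨h.s₁.a_t, h.oa₁⟩)⟩ with hβ
    have hw : r * (a₁ * r * a₁⁻¹)⁻¹ ∈ normalizer (M : Set X) :=
      mul_mem hrN (inv_mem (mul_mem (mul_mem haN hrN) (inv_mem haN)))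
    have hval : M.normalizerMonoidHom ⟨r * (a₁ * r * a₁⁻¹)⁻¹, hw⟩ = ((α * β * α⁻¹ * β⁻¹ : C₀) : MulAut M) := by
      have e : (⟨r * (a₁ * r * a₁⁻¹)⁻¹, hw⟩ : (normalizer (M : Set X) : Subgroup X)) =
          ⟨r, hrN⟩ * ⟨a₁, haN⟩ * ⟨r, hrN⟩⁻¹ * ⟨a₁, haN⟩⁻¹ := by
        apply Subtype.ext
        show r * (a₁ * r * a₁⁻¹)⁻¹ = r * a₁ * r⁻¹ * a₁⁻¹
        group
      rw [e, map_mul, map_mul, map_mul, map_inv, map_inv]
      rfl
    have hmem : (α * β * α⁻¹ * β⁻¹ : C₀) ∈ commutator C₀ := by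
      rw [_root_.commutator_def]
      exact commutator_mem_commutator (mem_top α) (mem_top β)
    have h8 : (r * (a₁ * r * a₁⁻¹)⁻¹) ^ 8 = 1 := by
      have h9 : r * (a₁ * r * a₁⁻¹)⁻¹ ∈ Q₁ := Q₁.mul_mem hr (Q₁.inv_mem (h.s₁.aQ r hr))
      have h10 : (⟨_, h9⟩ : Q₁) ^ 8 = 1 := by rw [← h.s₁.card]; exact pow_card_eq_one'
      exact congrArg Subtype.val h10
    have h8' : (α * β * α⁻¹ * β⁻¹ : C₀) ^ 8 = 1 := by
      apply Subtype.ext
      show ((α * β * α⁻¹ * β⁻¹ : C₀) : MulAut M) ^ 8 = 1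
      rw [← hval, ← map_pow]
      have e : (⟨r * (a₁ * r * a₁⁻¹)⁻¹, hw⟩ : (normalizer (M : Set X) : Subgroup X)) ^ 8 = 1 := Subtype.ext h8
      rw [e, map_one]
    have h1 : (α * β * α⁻¹ * β⁻¹ : C₀) = 1 := by
      have h2 : orderOf (α * β * α⁻¹ * β⁻¹ : C₀) ∣ 8 := orderOf_dvd_of_pow_eq_one h8'
      have h3 : orderOf (α * β * α⁻¹ * β⁻¹ : C₀) ∣ Nat.card (commutator C₀) := by
        rw [← Subgroup.orderOf_mk _ hmem]
        exact orderOf_dvd_natCard _
      have h4 : Nat.Coprime 8 (Nat.card (commutator C₀)) := by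
        rw [show (8 : ℕ) = 2 ^ 3 from rfl]
        exact (hodd.coprime_two_left).pow_left 3
      have h5 := Nat.eq_one_of_dvd_coprimes h4 h2 h3
      rwa [orderOf_eq_one_iff] at h5
    rw [mem_centralizer_iff]
    intro m hm
    have h2 : M.normalizerMonoidHom ⟨r * (a₁ * r * a₁⁻¹)⁻¹, hw⟩ ⟨m, hm⟩ = ⟨m, hm⟩ := by
      rw [hval, h1]; rfl
    have h3 : r * (a₁ * r * a₁⁻¹)⁻¹ * m * (r * (a₁ * r * a₁⁻¹)⁻¹)⁻¹ = m := congrArg Subtype.val h2
    rw [mul_inv_eq_iff_eq_mul] at h3
    exact h3.symm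
  intro m hm x hx
  exact mem_centralizer_iff.1 (hle hx) m hm

/-- **the dichotomy** (2), (3) -/
theorem dich [Finite X] (h : HypB z t a₁ a₂ Q₁ Q₂) {M : Subgroup X} (hM : IsComponent M) :
    (Q₁ ≤ M ∨ Q₂ ≤ M) ∨ ((∀ m ∈ M, m * t = t * m → Bt t Q₁ Q₂ m) ∧
      (∀ m ∈ M, ∀ x ∈ Q₁, m * x = x * m) ∧ ∀ m ∈ M, ∀ x ∈ Q₂, m * x = x * m) := by
  by_cases h1 : Q₁ ≤ M
  · exact Or.inl (Or.inl h1)
  by_cases h2 : Q₂ ≤ M
  · exact Or.inl (Or.inr h2)
  right
  obtain ⟨hB, hc | hd⟩ := h.alpha hM h1 h2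
  · exact (h.not_central hM hc).elim
  · exact ⟨hB, h.cent hM hB hd, h.symm.cent hM (fun m hm hmt => (hB m hm hmt).symm) hd⟩

/-- **(4)**: some component contains `Q₁` or `Q₂` -/
theorem exists_comp [Finite X] (h : HypB z t a₁ a₂ Q₁ Q₂) : ∃ M : Subgroup X, IsComponent M ∧ (Q₁ ≤ M ∨ Q₂ ≤ M) := by
  have : Fact (Nat.Prime 2) := ⟨Nat.prime_two⟩
  by_contra hcon
  push Not at hcon
  have hall : ∀ M : Subgroup X, IsComponent M →
      (∀ m ∈ M, ∀ x ∈ Q₁, m * x = x * m) ∧ ∀ m ∈ M, ∀ x ∈ Q₂, m * x = x * m := by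
    intro M hM
    rcases h.dich hM with (h1 | h1) | h1
    · exact absurd h1 (hcon M hM).1
    · exact absurd h1 (hcon M hM).2
    · exact h1.2
  set F := pCore 2 X with hF
  have hFn : F.Normal := Cfsg.Agent.Lib.Cores.pCore_normal (G := X) 2
  have hF2 : IsPGroup 2 F := Cfsg.Agent.Lib.Cores.pCore_isPGroup 2
  obtain ⟨p, hpt, hp₁, hp₂⟩ := h.swap
  -- not both in `F`
  have hn1 : ¬ Q₁ ≤ F := by
    intro h1
    refine h.nF (fun M hM => ⟨fun x hx m hm => ((hall M hM).1 m hm x hx).symm,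
      fun x hx m hm => ((hall M hM).2 m hm x hx).symm⟩) F hFn hF2 ⟨h1, fun y hy => ?_⟩
    have h2 := hFn.conj_mem _ (h1 (hp₂ y hy)) p⁻¹
    have e : p⁻¹ * (p * y * p⁻¹) * p⁻¹⁻¹ = y := by group
    rwa [e] at h2
  -- `a₁` centralises `F`
  have ha : ∀ f ∈ F, a₁ * f = f * a₁ := by
    have hP2 : IsPGroup 2 (zpowers t) := NI.isPGroup_zp h.tt
    have hnorm : ∀ g : X, g ∈ normalizer (F : Set X) := by
      intro g
      rw [mem_normalizer_iff]
      intro x
      refine ⟨fun hx => hFn.conj_mem x hx g, fun hx => ?_⟩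
      have h2 := hFn.conj_mem _ hx g⁻¹
      have e : g⁻¹ * (g * x * g⁻¹) * g⁻¹⁻¹ = x := by group
      rwa [e] at h2
    have h1 := Cfsg.Agent.Lib.ThompsonPQ.thompson_p_times_q 2 (zpowers t) (zpowers a₁) F hP2
      (by rw [Nat.card_zpowers]; exact h.oa₁.coprime_two_right) hF2
      (by
        rw [zpowers_le, mem_centralizer_iff]
        intro y hy
        obtain ⟨i, rfl⟩ := mem_zpowers_iff.1 hy
        exact ((show Commute a₁ t from h.s₁.a_t).zpow_left i).eq)
      (by rw [zpowers_le]; exact hnorm t)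
      (by rw [zpowers_le]; exact hnorm a₁)
      (by
        rintro f ⟨hf1, hf2⟩
        have hft : f * t = t * f := (mem_centralizer_iff.1 hf2 t (mem_zpowers t)).symm
        obtain ⟨x, hx, y, hy, b, hb, e⟩ := h.rad (F ⊓ centralizer ({t} : Set X))
          (fun n hn => mem_centralizer_singleton_iff.1 hn.2) (hF2.to_le inf_le_left)
          (by
            rintro g hg n ⟨hn1, hn2⟩
            refine ⟨hFn.conj_mem n hn1 g, mem_centralizer_singleton_iff.2 ?_⟩
            have c1 : Commute g t := hg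
            have c2 : Commute n t := mem_centralizer_singleton_iff.1 hn2
            exact ((c1.mul_left c2).mul_left c1.inv_left).eq) f ⟨hf1, mem_centralizer_singleton_iff.2 hft⟩
        have cw : Commute a₁ (y * b) :=
          (show Commute a₁ y from h.s₁.aD y hy).mul_right (show Commute a₁ b from h.a₁b hb)
        have hx' : x = 1 ∨ x = z := by
          by_contra hne
          push Not at hne
          apply hn1
          -- `x⁻¹ x'` in `F`
          have hw : ∀ q ∈ Q₁, (y * b) * q = q * (y * b) := fun q hq =>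
            ((show Commute y q from (h.comm q hq y hy).symm).mul_left (show Commute b q from hb.2.1 q hq)).eq
          set x' := a₁ * x * a₁⁻¹ with hx'
          have hx'Q : x' ∈ Q₁ := h.s₁.aQ x hx
          have hxx' : x * x' ≠ x' * x := h.s₁.act x hx hne.1 hne.2
          have e1 : a₁ * f * a₁⁻¹ = x' * (y * b) := by
            rw [e]
            calc a₁ * (x * y * b) * a₁⁻¹ = a₁ * x * ((y * b) * a₁⁻¹) := by group
              _ = a₁ * x * (a₁⁻¹ * (y * b)) := by rw [cw.symm.inv_right.eq]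
              _ = x' * (y * b) := by rw [hx']; group
          have e2 : f⁻¹ * (a₁ * f * a₁⁻¹) = x⁻¹ * x' := by
            rw [e1, e]
            have c1 : Commute (y * b) x⁻¹ := (show Commute (y * b) x from hw x hx).inv_right
            have c2 : Commute (y * b) x' := hw x' hx'Q
            calc (x * y * b)⁻¹ * (x' * (y * b)) = (y * b)⁻¹ * (x⁻¹ * x' * (y * b)) := by group
              _ = (y * b)⁻¹ * ((y * b) * (x⁻¹ * x')) := by rw [(c1.mul_right c2).eq]
              _ = x⁻¹ * x' := by rw [inv_mul_cancel_left]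
          have hpF : x⁻¹ * x' ∈ F := by
            rw [← e2]
            exact F.mul_mem (F.inv_mem hf1) (hFn.conj_mem f hf1 a₁)
          refine h.s₁.gen h.zc h.zz h.z1 (Q₁.mul_mem (Q₁.inv_mem hx) hx'Q) ?_ ?_ hpF (hFn.conj_mem _ hpF a₁)
          · intro e
            apply hxx'
            rw [inv_mul_eq_one] at e
            rw [← e]
          · intro e
            apply hxx'
            rw [inv_mul_eq_iff_eq_mul] at e
            rw [e, mul_assoc, h.zc x]
        have c3 : Commute a₁ f := by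
          rw [e, mul_assoc]
          refine Commute.mul_right ?_ cw
          rcases hx' with rfl | rfl
          · exact Commute.one_right _
          · exact h.zc a₁
        rw [mem_centralizer_iff]
        intro w hw
        obtain ⟨i, rfl⟩ := mem_zpowers_iff.1 hw
        exact (c3.zpow_left i).eq)
    intro f hf
    exact (mem_centralizer_iff.1 (h1 (mem_zpowers a₁)) f hf).symm
  -- `Q₁` centralises `F`
  have hc1 : Q₁ ≤ centralizer (F : Set X) := by
    apply h.gen_le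
    intro r hr
    rw [mem_centralizer_iff]
    intro f hf
    have c1 : Commute f a₁ := (ha f hf).symm
    have c2 : Commute (r⁻¹ * f * r) a₁ := by
      have := hFn.conj_mem f hf r⁻¹
      rw [inv_inv] at this
      exact (ha _ this).symm
    have c3 : Commute f (r * a₁ * r⁻¹) := by
      have e : f * (r * a₁ * r⁻¹) = r * ((r⁻¹ * f * r) * a₁) * r⁻¹ := by group
      rw [Commute, SemiconjBy, e, c2.eq]
      group
    have e : r * (a₁ * r * a₁⁻¹)⁻¹ = (r * a₁ * r⁻¹) * a₁⁻¹ := by group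
    rw [e]
    exact (c3.mul_right c1.inv_right).eq
  -- `Q₁` centralises `F*(X)`
  have hle : Q₁ ≤ centralizer (generalizedFittingSubgroup X : Set X) := by
    intro q hq
    rw [mem_centralizer_iff]
    intro y hy
    have h1 : generalizedFittingSubgroup X ≤ centralizer ({q} : Set X) := by
      unfold generalizedFittingSubgroup
      rw [sup_le_iff, layer_le_iff,
        Cfsg.Agent.SignalizersComponents.PConstrained.fittingSubgroup_eq_pCore_of_pPrimeCore_eq_bot 2 h.O]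
      refine ⟨fun M hM m hm => mem_centralizer_singleton_iff.2 ((hall M hM).1 m hm q hq), fun f hf => ?_⟩
      exact mem_centralizer_singleton_iff.2 (mem_centralizer_iff.1 (hc1 hq) f hf)
    exact mem_centralizer_singleton_iff.1 (h1 hy)
  apply h.s₁.not_comm
  intro x hx y hy
  have h1 := Cfsg.Agent.Lib.GenFitting.centralizer_genFitting_le (hle hx)
  exact mem_centralizer_iff.1 (hle hy) x h1

end HypB

end Cfsg.Agent.OddHalf.D6.QThree.NIB
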