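import Cfsg.Agent.Transfer.MaximalClass
import Cfsg.Agent.S0112
import Cfsg.Agent.Lib.DihedralRecog

/-!
# Groups with an element `c` of order `4` with `C(c) = ⟨c⟩`, and `C(O_2) ≤ O_2`

`Self c z`: `c² = z`, `z` a central involution of `C`, `C_C(c) = ⟨c⟩`. `main`: `F` a characteristic 2-subgroup of `C` with
`C_C(F) ≤ F`, equal to `C` if `C` is a 2-group, and no normal four-group of `C` contains `z`. Then `C = ⟨c⟩`, or `F` is a
quaternion group of order eight, or `C` is a dihedral group of order eight, or there is an element `u`, `u² = z`, such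
that `⟨u⟩` is a characteristic subgroup of `C` and `u^c = u⁻¹`.
-/

set_option autoImplicit false

namespace Cfsg.Agent.OddHalf.D6.QThree.NIB.MaxCls

open Subgroup

variable {C : Type*} [Group C] {c z : C}

/-- the setting -/
structure Self (c z : C) : Prop where
  cc : c * c = z
  zz : z * z = 1
  z1 : z ≠ 1
  zc : ∀ x : C, x * z = z * x
  self : ∀ x : C, x * c = c * x → x ∈ zpowers c

theorem Self.ord (h : Self c z) : orderOf c = 4 := by
  have h1 : c ^ 4 = 1 := by
    rw [show (4 : ℕ) = 2 * 2 from rfl, pow_mul, pow_two c, h.cc, pow_two, h.zz]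
  have h2 : ¬ orderOf c ∣ 2 := by
    intro h2
    have h3 := orderOf_dvd_iff_pow_eq_one.1 h2
    rw [pow_two, h.cc] at h3
    exact h.z1 h3
  have h3 : orderOf c ∣ 4 := orderOf_dvd_of_pow_eq_one h1
  have h4 : orderOf c ≤ 4 := Nat.le_of_dvd (by norm_num) h3
  have h5 : 0 < orderOf c := orderOf_pos_iff.2 (isOfFinOrder_iff_pow_eq_one.2 ⟨4, by norm_num, h1⟩)
  interval_cases h : orderOf c <;> first | rfl | omega

/-- a 2-group containing `c` is `⟨c⟩` or has a cyclic subgroup of index two and centre `⟨z⟩` -/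
theorem Self.max_class [Finite C] (h : Self c z) {P : Subgroup C} (hP : IsPGroup 2 P) (hcP : c ∈ P) :
    P = zpowers c ∨ ∃ w ∈ P, 4 ≤ orderOf w ∧
      (∀ x ∈ P, ∀ y ∈ P, x ∉ zpowers w → y ∉ zpowers w → x⁻¹ * y ∈ zpowers w) ∧
      (∀ x ∈ P, (∀ y ∈ P, x * y = y * x) → x = 1 ∨ x = z) := by
  have : Fact (Nat.Prime 2) := ⟨Nat.prime_two⟩
  obtain ⟨n, hn⟩ := IsPGroup.iff_card.1 hP
  have hle : zpowers c ≤ P := by rw [zpowers_le]; exact hcP
  have hzP : z ∈ P := by rw [← h.cc]; exact mul_mem hcP hcP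
  set A0 : Subgroup P := (zpowers c).subgroupOf P with hA0
  have hcA : Nat.card A0 = 2 ^ 2 := by
    rw [Nat.card_congr (subgroupOfEquivOfLe hle).toEquiv, Nat.card_zpowers, h.ord]
    norm_num
  have hself : centralizer (A0 : Set P) = A0 := by
    apply le_antisymm
    · intro x hx
      rw [mem_centralizer_iff] at hx
      have h1 := hx ⟨c, hcP⟩ (by
        rw [SetLike.mem_coe, hA0, mem_subgroupOf]
        exact mem_zpowers c)
      rw [hA0, mem_subgroupOf]
      exact h.self _ (congrArg Subtype.val h1).symm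
    · intro x hx
      rw [mem_centralizer_iff]
      intro y hy
      rw [SetLike.mem_coe, hA0, mem_subgroupOf] at hy
      rw [hA0, mem_subgroupOf] at hx
      obtain ⟨i, hi⟩ := mem_zpowers_iff.1 hx
      obtain ⟨j, hj⟩ := mem_zpowers_iff.1 hy
      apply Subtype.ext
      show (y : C) * x = x * y
      rw [← hi, ← hj, ← zpow_add, ← zpow_add, add_comm]
  have hcl := S0112.result n hn A0 hcA hself
  have hdvd : 2 ^ 2 ∣ 2 ^ n := by
    rw [← hcA, ← hn]
    exact card_subgroup_dvd_card A0
  have hn2 : 2 ≤ n := (Nat.pow_dvd_pow_iff_le_right (by norm_num)).1 hdvd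
  rcases Nat.lt_or_ge n 3 with h3 | h3
  · left
    have e : n = 2 := by omega
    symm
    apply Subgroup.eq_of_le_of_card_ge hle
    rw [hn, e, Nat.card_zpowers, h.ord]
    norm_num
  · right
    obtain ⟨A, hA, hidx⟩ := Cfsg.Agent.Transfer.MaximalClass.exists_isCyclic_index_two_of_maxClass n h3 P hn hcl
    have hZ := Cfsg.Agent.Transfer.MaximalClass.card_center_of_maxClass h3 hn hcl
    obtain ⟨⟨w, hwA⟩, hw⟩ := hA.exists_generator
    have hAw : ∀ x : P, x ∈ A ↔ (x : C) ∈ zpowers (w : C) := by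
      intro x
      constructor
      · intro hx
        obtain ⟨k, hk⟩ := mem_zpowers_iff.1 (hw ⟨x, hx⟩)
        refine mem_zpowers_iff.2 ⟨k, ?_⟩
        have := congrArg (fun y : A => ((y : P) : C)) hk
        simpa using this
      · intro hx
        obtain ⟨k, hk⟩ := mem_zpowers_iff.1 hx
        have : x = w ^ k := Subtype.ext (by rw [← hk]; rfl)
        rw [this]
        exact zpow_mem hwA k
    have hcardA : Nat.card A = 2 ^ (n - 1) := by
      have h1 := card_mul_index A
      rw [hidx, hn] at h1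
      have h2 : 2 ^ n = 2 ^ (n - 1) * 2 := by
        rw [← pow_succ]
        congr 1
        omega
      rw [h2] at h1
      exact Nat.eq_of_mul_eq_mul_right (by norm_num) h1
    have hordw : orderOf (w : C) = 2 ^ (n - 1) := by
      rw [← hcardA, ← orderOf_eq_card_of_forall_mem_zpowers hw]
      have h1 : orderOf (w : C) = orderOf w := Subgroup.orderOf_coe w
      rw [h1]
      exact (Subgroup.orderOf_mk w hwA).symm
    refine ⟨w, w.2, ?_, ?_, ?_⟩
    · rw [hordw]
      calc 4 = 2 ^ 2 := by norm_num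
        _ ≤ 2 ^ (n - 1) := Nat.pow_le_pow_right (by norm_num) (by omega)
    · intro x hx y hy hxA hyA
      have h1 : (⟨x, hx⟩ : P)⁻¹ * ⟨y, hy⟩ ∈ A := by
        rw [mul_mem_iff_of_index_two hidx, inv_mem_iff]
        exact ⟨fun h2 => absurd ((hAw _).1 h2) hxA, fun h2 => absurd ((hAw _).1 h2) hyA⟩
      exact (hAw _).1 h1
    · intro x hx hcom
      have hxZ : (⟨x, hx⟩ : P) ∈ center P := mem_center_iff.2 fun y => Subtype.ext (hcom y y.2).symm
      have hzZ : (⟨z, hzP⟩ : P) ∈ center P := mem_center_iff.2 fun y => Subtype.ext (h.zc y)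
      by_contra hne
      push Not at hne
      have h1 : ({1, ⟨z, hzP⟩, ⟨x, hx⟩} : Set P) ⊆ (center P : Set P) := by
        rintro y (rfl | rfl | rfl)
        · exact one_mem _
        · exact hzZ
        · exact hxZ
      have h2 : ({1, ⟨z, hzP⟩, ⟨x, hx⟩} : Set P).ncard = 3 := by
        have e1 : (1 : P) ≠ ⟨z, hzP⟩ := fun e => h.z1 (congrArg Subtype.val e).symm
        have e2 : (1 : P) ≠ ⟨x, hx⟩ := fun e => hne.1 (congrArg Subtype.val e).symm
        have e3 : (⟨z, hzP⟩ : P) ≠ ⟨x, hx⟩ := fun e => hne.2 (congrArg Subtype.val e).symm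
        rw [Set.ncard_insert_of_notMem (by simp [e1, e2]), Set.ncard_pair e3]
      have h3 := Set.ncard_le_ncard h1 (Set.toFinite _)
      have h4 : (center P : Set P).ncard = 2 := by
        rw [← hZ]; exact (Nat.card_coe_set_eq _).symm
      omega

/-- a group with a normal 2-subgroup `F`, `C(F) ≤ F`, and a normal cyclic subgroup of index at most two of `F` -/
theorem isPGroup_of [Finite C] {F B : Subgroup C} (hFp : IsPGroup 2 F) (hCF : centralizer (F : Set C) ≤ F)
    (hBF : B ≤ F) (hB : IsCyclic B) (hBn : ∀ g : C, ∀ x ∈ B, g * x * g⁻¹ ∈ B) (hFn : ∀ g : C, ∀ x ∈ F, g * x * g⁻¹ ∈ F)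
    (hidx : ∀ x ∈ F, ∀ y ∈ F, x ∉ B → y ∉ B → x⁻¹ * y ∈ B) : IsPGroup 2 C := by
  have : Fact (Nat.Prime 2) := ⟨Nat.prime_two⟩
  have hodd : ∀ d : C, Odd (orderOf d) → d = 1 := by
    intro d hd
    have two : ∀ b : C, b ^ orderOf d = 1 → b ∈ F → b = 1 := by
      intro b hb hbF
      obtain ⟨k, hk⟩ := hFp ⟨b, hbF⟩
      have hk' : b ^ 2 ^ k = 1 := congrArg Subtype.val hk
      have h1 : orderOf b ∣ 2 ^ k := orderOf_dvd_of_pow_eq_one hk'
      have h2 : orderOf b ∣ orderOf d := orderOf_dvd_of_pow_eq_one hb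
      have h3 : Nat.Coprime (2 ^ k) (orderOf d) := Nat.Coprime.pow_left _ (Nat.coprime_two_left.2 hd)
      have h4 : orderOf b = 1 := Nat.eq_one_of_dvd_coprimes h3 h1 h2
      exact orderOf_eq_one_iff.1 h4
    -- `d` centralises `B`
    have hdB : ∀ b ∈ B, d * b * d⁻¹ = b := by
      -- the action on `B`
      let α : MulAut B :=
        { toFun := fun b => ⟨d * b * d⁻¹, hBn d b b.2⟩
          invFun := fun b => ⟨d⁻¹ * b * d, by
            have := hBn d⁻¹ b b.2
            rwa [inv_inv] at this⟩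
          left_inv := fun b => Subtype.ext (by show d⁻¹ * (d * b * d⁻¹) * d = b; group)
          right_inv := fun b => Subtype.ext (by show d * (d⁻¹ * b * d) * d⁻¹ = b; group)
          map_mul' := fun b b' => Subtype.ext (by
            show d * (b * b') * d⁻¹ = (d * b * d⁻¹) * (d * b' * d⁻¹)
            group) }
      have hpow : ∀ (k : ℕ) (b : B), ((α ^ k) b : C) = d ^ k * b * (d ^ k)⁻¹ := by
        intro k
        induction k with
        | zero => intro b; simp
        | succ k ih =>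
          intro b
          rw [pow_succ', MulAut.mul_apply]
          show d * ((α ^ k) b : C) * d⁻¹ = _
          rw [ih, pow_succ']
          group
      have h1 : α ^ orderOf d = 1 := by
        ext b
        rw [hpow, pow_orderOf_eq_one]
        simp
      have h2 : orderOf α ∣ orderOf d := orderOf_dvd_of_pow_eq_one h1
      obtain ⟨m, hm⟩ := IsPGroup.iff_card.1 (hFp.to_le hBF)
      have h3 : Nat.card (MulAut B) = Nat.totient (2 ^ m) := by rw [IsCyclic.card_mulAut, hm]
      have h4 : orderOf α ∣ 2 ^ m := by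
        have h5 : orderOf α ∣ Nat.totient (2 ^ m) := by rw [← h3]; exact orderOf_dvd_natCard α
        rcases Nat.eq_zero_or_pos m with h0 | h0
        · rw [h0] at h5 ⊢
          simpa using h5
        · rw [Nat.totient_prime_pow Nat.prime_two h0] at h5
          refine h5.trans ?_
          rw [show (2 - 1 : ℕ) = 1 from rfl, mul_one]
          exact Nat.pow_dvd_pow 2 (by omega)
      have h5 : Nat.Coprime (2 ^ m) (orderOf d) := Nat.Coprime.pow_left _ (Nat.coprime_two_left.2 hd)
      have h6 : orderOf α = 1 := Nat.eq_one_of_dvd_coprimes h5 h4 h2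
      have h7 : α = 1 := orderOf_eq_one_iff.1 h6
      intro b hb
      have h8 : (α ⟨b, hb⟩ : C) = b := by rw [h7]; rfl
      exact h8
    -- `d` centralises `F`
    have hdF : ∀ f ∈ F, d * f * d⁻¹ = f := by
      intro f hf
      by_cases hfB : f ∈ B
      · exact hdB f hfB
      have h1 : d * f * d⁻¹ ∉ B := by
        intro h2
        apply hfB
        have h3 := hBn d⁻¹ _ h2
        have e : d⁻¹ * (d * f * d⁻¹) * d⁻¹⁻¹ = f := by group
        rwa [e] at h3
      have h2 := hidx f hf _ (hFn d f hf) hfB h1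
      set b := f⁻¹ * (d * f * d⁻¹) with hb
      have hdf : d * f * d⁻¹ = f * b := by rw [hb]; group
      have hdb : d * b * d⁻¹ = b := hdB b h2
      have hpow : ∀ k : ℕ, d ^ k * f * (d ^ k)⁻¹ = f * b ^ k := by
        intro k
        induction k with
        | zero => simp
        | succ k ih =>
          have hk : d * b ^ k * d⁻¹ = b ^ k := by
            rw [← MulAut.conj_apply, map_pow, MulAut.conj_apply, hdb]
          calc d ^ (k + 1) * f * (d ^ (k + 1))⁻¹ = d * (d ^ k * f * (d ^ k)⁻¹) * d⁻¹ := by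
                rw [pow_succ']; group
            _ = (d * f * d⁻¹) * (d * b ^ k * d⁻¹) := by rw [ih]; group
            _ = f * b ^ (k + 1) := by rw [hdf, hk, pow_succ', mul_assoc]
      have h3 := hpow (orderOf d)
      rw [pow_orderOf_eq_one, one_mul, inv_one, mul_one] at h3
      have h4 : b ^ orderOf d = 1 := mul_eq_left.1 h3.symm
      rw [hdf, two b h4 (hBF h2), mul_one]
    have hdc : d ∈ F := hCF (mem_centralizer_iff.2 fun f hf => by
      have h1 := hdF f hf
      rw [mul_inv_eq_iff_eq_mul] at h1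
      exact h1.symm)
    exact two d (pow_orderOf_eq_one d) hdc
  intro g
  obtain ⟨k, m, hm, hkm⟩ := Nat.exists_eq_two_pow_mul_odd (n := orderOf g) (orderOf_pos g).ne'
  refine ⟨k, hodd _ ?_⟩
  have h1 : orderOf (g ^ 2 ^ k) = m := by
    rw [orderOf_pow, hkm, Nat.gcd_eq_right (Dvd.intro _ rfl), Nat.mul_div_cancel_left _ (pow_pos (by norm_num) k)]
  rw [h1]
  exact hm

/-- elements `x`, `x⁴ = 1`, of a cyclic group -/
theorem cyc_four {v u x : C} {m : ℕ} (hv : orderOf v = 4 * m) (hu : u = v ^ m) (hx : x ∈ zpowers v)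
    (hx4 : x ^ 4 = 1) : x = 1 ∨ x = u ∨ x = u * u ∨ x = u⁻¹ := by
  obtain ⟨j, rfl⟩ := mem_zpowers_iff.1 hx
  have h1 : v ^ (j * 4) = 1 := by rw [zpow_mul]; exact_mod_cast hx4
  have h2 : ((4 * m : ℕ) : ℤ) ∣ j * 4 := by rw [← hv]; exact orderOf_dvd_iff_zpow_eq_one.2 h1
  have h3 : (m : ℤ) ∣ j := by
    have h4 : (4 : ℤ) * m ∣ 4 * j := by
      have e : ((4 * m : ℕ) : ℤ) = 4 * m := by push_cast; ring
      rw [← e, mul_comm 4 j]; exact h2
    exact (mul_dvd_mul_iff_left (by norm_num : (4 : ℤ) ≠ 0)).1 h4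
  obtain ⟨i, rfl⟩ := h3
  have hu4 : u ^ (4 : ℤ) = 1 := by
    rw [hu]
    have h5 : v ^ (4 * m) = 1 := by rw [← hv]; exact pow_orderOf_eq_one v
    have e : (v ^ m) ^ (4 : ℤ) = v ^ (4 * m) := by
      rw [← zpow_natCast, ← zpow_natCast, ← zpow_mul]
      congr 1
      push_cast
      ring
    rw [e, h5]
  have e : v ^ ((m : ℤ) * i) = u ^ i := by rw [hu, zpow_mul, zpow_natCast]
  rw [e]
  have h6 : u ^ i = u ^ (i % 4) := by
    conv_lhs => rw [← Int.emod_add_mul_ediv i 4]
    rw [zpow_add, zpow_mul, hu4, one_zpow, mul_one]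
  rw [h6]
  have h7 : i % 4 = 0 ∨ i % 4 = 1 ∨ i % 4 = 2 ∨ i % 4 = 3 := by omega
  rcases h7 with h | h | h | h
  · left; rw [h, zpow_zero]
  · right; left; rw [h, zpow_one]
  · right; right; left; rw [h]; rw [show (2 : ℤ) = 1 + 1 from rfl, zpow_add, zpow_one]
  · right; right; right
    rw [h]
    have h8 : u ^ (3 : ℤ) * u = 1 := by
      rw [← zpow_add_one]; exact hu4
    exact eq_inv_of_mul_eq_one_left h8

/-- the data of `main` -/
structure Rad (c z : C) (F : Subgroup C) : Prop extends Self c z where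
  char : ∀ α : MulAut C, ∀ x ∈ F, α x ∈ F
  pF : IsPGroup 2 F
  cF : centralizer (F : Set C) ≤ F
  max : IsPGroup 2 C → F = ⊤
  /-- no normal four-group -/
  elem : (∀ x ∈ F, x * x = 1) → ∀ x ∈ F, x = 1 ∨ x = z

variable {F : Subgroup C}

theorem Rad.nor (h : Rad c z F) (g : C) {x : C} (hx : x ∈ F) : g * x * g⁻¹ ∈ F :=
  h.char (MulAut.conj g) x hx

variable [Finite C]

/-- `F` is not cyclic, unless `C = ⟨c⟩` -/
theorem Rad.of_cyclic (h : Rad c z F) {v : C} (hv : ∀ x ∈ F, x ∈ zpowers v) : ∀ x : C, x ∈ zpowers c := by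
  have hle : F ≤ zpowers v := hv
  have hcyc : IsCyclic F := isCyclic_of_le hle
  have hC : IsPGroup 2 C := isPGroup_of h.pF h.cF le_rfl hcyc (fun g x hx => h.nor g hx) (fun g x hx => h.nor g hx)
    (fun x hx y hy hxn _ => absurd hx hxn)
  have htop := h.max hC
  have hcomm : ∀ x y : C, x * y = y * x := by
    intro x y
    have hx : x ∈ zpowers v := hv x (by rw [htop]; exact mem_top x)
    have hy : y ∈ zpowers v := hv y (by rw [htop]; exact mem_top y)
    obtain ⟨i, rfl⟩ := mem_zpowers_iff.1 hx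
    obtain ⟨j, rfl⟩ := mem_zpowers_iff.1 hy
    rw [← zpow_add, ← zpow_add, add_comm]
  exact fun x => h.self x (hcomm x c)

/-- **the theorem** -/
theorem Rad.main (h : Rad c z F) : (∀ x : C, x ∈ zpowers c) ∨
    (z ∈ F ∧ Nat.card F = 8 ∧ Nonempty (F ≃* QuaternionGroup 2)) ∨
    (Nat.card C = 8 ∧ ∃ x : C, x * x = 1 ∧ x * c * x⁻¹ = c⁻¹ ∧ ∀ f : C, f ∈ zpowers c ∨ x * f ∈ zpowers c) ∨
    (∃ u : C, u * u = z ∧ c * u * c⁻¹ = u⁻¹ ∧ ∀ α : MulAut C, α u = u ∨ α u = u⁻¹) := by
  have : Fact (Nat.Prime 2) := ⟨Nat.prime_two⟩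
  have hc4 := h.ord
  -- `P = F ⟨c⟩`
  have hcp : IsPGroup 2 (zpowers c) := by
    refine IsPGroup.of_card (n := 2) ?_
    rw [Nat.card_zpowers, hc4]
    norm_num
  have hFn : F.Normal := ⟨fun x hx g => h.nor g hx⟩
  set P : Subgroup C := F ⊔ zpowers c with hP
  have hPp : IsPGroup 2 P := IsPGroup.to_sup_of_normal_left h.pF hcp
  have hcP : c ∈ P := (le_sup_right : zpowers c ≤ P) (mem_zpowers c)
  have hFP : F ≤ P := le_sup_left
  have hzP : z ∈ P := by rw [← h.cc]; exact mul_mem hcP hcP
  rcases h.toSelf.max_class hPp hcP with e | ⟨w, hwP, hw4, hidx, hcen⟩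
  · left
    refine h.of_cyclic (v := c) fun x hx => ?_
    rw [← e]; exact hFP hx
  -- elements of `A = ⟨w⟩` commute
  have hAA : ∀ x ∈ zpowers w, ∀ y ∈ zpowers w, x * y = y * x := by
    intro x hx y hy
    obtain ⟨i, rfl⟩ := mem_zpowers_iff.1 hx
    obtain ⟨j, rfl⟩ := mem_zpowers_iff.1 hy
    rw [← zpow_add, ← zpow_add, add_comm]
  have hAP : zpowers w ≤ P := by rw [zpowers_le]; exact hwP
  -- an element of `A` commuting with some `y ∉ A` is in `{1, z}`
  have fact2 : ∀ a ∈ zpowers w, ∀ y ∈ P, y ∉ zpowers w → a * y = y * a → a = 1 ∨ a = z := by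
    intro a ha y hy hyA hay
    refine hcen a (hAP ha) fun x hx => ?_
    by_cases hxA : x ∈ zpowers w
    · exact hAA a ha x hxA
    · have h1 := hAA a ha _ (hidx y hy x hx hyA hxA)
      calc a * x = (a * y) * (y⁻¹ * x) := by group
        _ = y * (a * (y⁻¹ * x)) := by rw [hay, mul_assoc]
        _ = y * ((y⁻¹ * x) * a) := by rw [h1]
        _ = x * a := by group
  have fact1 : ∀ y ∈ P, y ∉ zpowers w → y * y = 1 ∨ y * y = z := by
    intro y hy hyA
    have h1 : y * y ∈ zpowers w := by
      have h2 := hidx y⁻¹ (inv_mem hy) y hy (fun h3 => hyA (by simpa using inv_mem h3)) hyA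
      rwa [inv_inv] at h2
    exact fact2 _ h1 y hy hyA (by rw [mul_assoc])
  have hwne : ¬ (w = 1 ∨ w = z) := by
    rintro (e | e)
    · rw [e, orderOf_one] at hw4; omega
    · have h1 : orderOf w ∣ 2 := orderOf_dvd_of_pow_eq_one (by rw [pow_two, e, h.zz])
      have := Nat.le_of_dvd (by norm_num) h1
      omega
  have hzA : z ∈ zpowers w := by
    by_contra hzA
    exact hwne (fact2 w (mem_zpowers w) z hzP hzA (h.zc w))
  by_cases hFA : ∀ x ∈ F, x ∈ zpowers w
  · left
    exact h.of_cyclic hFA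
  push Not at hFA
  obtain ⟨y, hyF, hyA⟩ := hFA
  have hyP := hFP hyF
  by_cases hB : ∀ b ∈ F, b ∈ zpowers w → b = 1 ∨ b = z
  · -- `F ∩ A ≤ ⟨z⟩`
    left
    by_cases hel : ∀ x ∈ F, x * x = 1
    · exfalso
      rcases h.elem hel y hyF with e | e
      · exact hyA (by rw [e]; exact one_mem _)
      · exact hyA (by rw [e]; exact hzA)
    · push Not at hel
      obtain ⟨x, hx, hxx⟩ := hel
      have hxA : x ∉ zpowers w := by
        intro hxA
        rcases hB x hx hxA with e | e
        · exact hxx (by rw [e, one_mul])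
        · exact hxx (by rw [e, h.zz])
      have hxz : x * x = z := (fact1 x (hFP hx) hxA).resolve_left hxx
      refine h.of_cyclic (v := x) fun f hf => ?_
      have hzx : z ∈ zpowers x := by rw [← hxz]; exact mul_mem (mem_zpowers x) (mem_zpowers x)
      by_cases hfA : f ∈ zpowers w
      · rcases hB f hf hfA with e | e
        · rw [e]; exact one_mem _
        · rw [e]; exact hzx
      · have h1 := hidx x (hFP hx) f (hFP hf) hxA hfA
        have h2 : x⁻¹ * f ∈ F := mul_mem (inv_mem hx) hf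
        have h3 : x⁻¹ * f ∈ zpowers x := by
          rcases hB _ h2 h1 with e | e
          · rw [e]; exact one_mem _
          · rw [e]; exact hzx
        have h4 := mul_mem (mem_zpowers x) h3
        rwa [mul_inv_cancel_left] at h4
  push Not at hB
  obtain ⟨b₀, hb₀F, hb₀A, hb₀1, hb₀z⟩ := hB
  -- `B = F ∩ A = ⟨v⟩`
  set B : Subgroup C := F ⊓ zpowers w with hBdef
  have hBcyc : IsCyclic B := isCyclic_of_le (inf_le_right : B ≤ zpowers w)
  obtain ⟨⟨v, hvB⟩, hvgen⟩ := hBcyc.exists_generator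
  have hBv : B = zpowers v := by
    apply le_antisymm
    · intro x hx
      obtain ⟨k, hk⟩ := mem_zpowers_iff.1 (hvgen ⟨x, hx⟩)
      refine mem_zpowers_iff.2 ⟨k, ?_⟩
      have := congrArg (fun y : B => (y : C)) hk
      simpa using this
    · rw [zpowers_le]; exact hvB
  have hvF : v ∈ F := hvB.1
  have hvA : v ∈ zpowers w := hvB.2
  have hBF : B ≤ F := inf_le_left
  have hidxB : ∀ x ∈ F, ∀ y ∈ F, x ∉ B → y ∉ B → x⁻¹ * y ∈ B := by
    intro x hx y hy hxB hyB
    exact ⟨F.mul_mem (F.inv_mem hx) hy, hidx x (hFP hx) y (hFP hy) (fun h1 => hxB ⟨hx, h1⟩) (fun h1 => hyB ⟨hy, h1⟩)⟩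
  have hyB : y ∉ B := fun h1 => hyA h1.2
  -- the order of `v`
  obtain ⟨k, hk⟩ : ∃ k, orderOf v = 2 ^ k := by
    obtain ⟨k, hk⟩ := h.pF ⟨v, hvF⟩
    have hk' : v ^ 2 ^ k = 1 := congrArg Subtype.val hk
    obtain ⟨j, -, hj⟩ := (Nat.dvd_prime_pow Nat.prime_two).1 (orderOf_dvd_of_pow_eq_one hk')
    exact ⟨j, hj⟩
  have hvne : ¬ (v = 1 ∨ v = z) := by
    intro hv
    have h1 : b₀ ∈ zpowers v := by rw [← hBv]; exact ⟨hb₀F, hb₀A⟩
    obtain ⟨j, hj⟩ := mem_zpowers_iff.1 h1
    rcases hv with e | e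
    · apply hb₀1; rw [← hj, e, one_zpow]
    · rw [e] at hj
      rcases Int.even_or_odd' j with ⟨i, hi | hi⟩
      · apply hb₀1
        rw [← hj, hi, zpow_mul, zpow_ofNat, pow_two, h.zz, one_zpow]
      · apply hb₀z
        rw [← hj, hi, zpow_add, zpow_mul, zpow_ofNat, pow_two, h.zz, one_zpow, one_mul, zpow_one]
  -- `v² ≠ 1`
  have hvv : v * v ≠ 1 := by
    intro h1
    -- `y` centralises `v`
    have h2 : y * v * y⁻¹ ∈ B := by
      by_contra h3
      have h4 := hidxB _ (h.nor y hvF) y hyF h3 hyB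
      have h5 : (y * v * y⁻¹)⁻¹ * y = y * v⁻¹ := by group
      rw [h5] at h4
      have h6 := mul_mem h4 hvB
      rw [inv_mul_cancel_right] at h6
      exact hyB h6
    rw [hBv] at h2
    obtain ⟨j, hj⟩ := mem_zpowers_iff.1 h2
    have h3 : y * v * y⁻¹ = v := by
      rcases Int.even_or_odd' j with ⟨i, hi | hi⟩
      · exfalso
        rw [hi, zpow_mul, zpow_ofNat, pow_two, h1, one_zpow] at hj
        apply hvne
        left
        have := hj.symm
        rw [mul_inv_eq_one, mul_eq_left] at this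
        exact this
      · rw [hi, zpow_add, zpow_mul, zpow_ofNat, pow_two, h1, one_zpow, one_mul, zpow_one] at hj
        exact hj.symm
    exact hvne (fact2 v hvA y hyP hyA (mul_inv_eq_iff_eq_mul.1 h3).symm)
  have hk2 : 2 ≤ k := by
    by_contra hlt
    have h1 : orderOf v ∣ 2 := by
      rw [hk]
      calc 2 ^ k ∣ 2 ^ 1 := Nat.pow_dvd_pow 2 (by omega)
        _ = 2 := pow_one 2
    have h2 := orderOf_dvd_iff_pow_eq_one.1 h1
    rw [pow_two] at h2
    exact hvv h2
  obtain ⟨m, hm⟩ : ∃ m, k = m + 2 := ⟨k - 2, by omega⟩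
  have hvm : orderOf v = 4 * 2 ^ m := by rw [hk, hm, pow_add, mul_comm]; norm_num
  -- the element `u` of order `4`
  set u : C := v ^ 2 ^ m with hu
  have huv : u ∈ zpowers v := pow_mem (mem_zpowers v) _
  have huB : u ∈ B := by rw [hBv]; exact huv
  have hu4 : u ^ 4 = 1 := by
    rw [hu, ← pow_mul, mul_comm, ← hvm, pow_orderOf_eq_one]
  have huu1 : u * u ≠ 1 := by
    intro h1
    have h2 : v ^ (2 ^ m * 2) = 1 := by rw [pow_mul, ← hu, pow_two, h1]
    have h3 := Nat.le_of_dvd (by positivity) (orderOf_dvd_of_pow_eq_one h2)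
    rw [hvm] at h3
    have : 0 < 2 ^ m := by positivity
    omega
  have hune : ¬ (u = 1 ∨ u = z) := by
    rintro (e | e)
    · exact huu1 (by rw [e, one_mul])
    · exact huu1 (by rw [e, h.zz])
  -- `u² = z`; an element of `P - A` normalising `⟨v⟩` inverts `u`
  have inv_u : ∀ x ∈ P, x ∉ zpowers w → x * u * x⁻¹ ∈ zpowers v → x * u * x⁻¹ = u⁻¹ := by
    intro x hx hxA hxu
    have h4 : (x * u * x⁻¹) ^ 4 = 1 := by
      rw [← MulAut.conj_apply, ← map_pow, hu4, map_one]
    rcases cyc_four hvm hu hxu h4 with e | e | e | e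
    · exfalso
      apply hune
      left
      rw [mul_inv_eq_one, mul_eq_left] at e
      exact e
    · exact absurd (fact2 u huB.2 x hx hxA (mul_inv_eq_iff_eq_mul.1 e).symm) hune
    · exfalso
      have h5 : (x * u * x⁻¹) * (x * u * x⁻¹) = 1 := by
        rw [e]
        calc u * u * (u * u) = u ^ 4 := by simp only [pow_succ, pow_zero, one_mul, mul_assoc]
          _ = 1 := hu4
      have h6 : x * (u * u) * x⁻¹ = 1 := by rw [← h5]; group
      rw [mul_inv_eq_one, mul_eq_left] at h6
      exact huu1 h6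
    · exact e
  have hyu : y * u * y⁻¹ ∈ zpowers v := by
    rw [← hBv]
    by_contra h3
    have h4 := hidxB _ (h.nor y huB.1) y hyF h3 hyB
    have h5 : (y * u * y⁻¹)⁻¹ * y = y * u⁻¹ := by group
    rw [h5] at h4
    have h6 := mul_mem h4 huB
    rw [inv_mul_cancel_right] at h6
    exact hyB h6
  have hyu' := inv_u y hyP hyA hyu
  have huu : u * u = z := by
    refine (fact2 (u * u) (mul_mem huB.2 huB.2) y hyP hyA ?_).resolve_left huu1
    have h1 : y * (u * u) * y⁻¹ = u * u := by
      calc y * (u * u) * y⁻¹ = (y * u * y⁻¹) * (y * u * y⁻¹) := by group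
        _ = u⁻¹ * u⁻¹ := by rw [hyu']
        _ = (u * u) * (u ^ 4)⁻¹ := by group
        _ = u * u := by rw [hu4, inv_one, mul_one]
    exact (mul_inv_eq_iff_eq_mul.1 h1).symm
  rcases Nat.eq_zero_or_pos m with hm0 | hm0
  · -- `|F| = 8`
    have hvu : v = u := by rw [hu, hm0, pow_zero, pow_one]
    have hBu : B = zpowers u := by rw [hBv, hvu]
    have hcardB : Nat.card B = 4 := by
      rw [hBv, Nat.card_zpowers, hvm, hm0]; norm_num
    have hcardF : Nat.card F = 8 := by
      have h1 : (B.subgroupOf F).index = 2 := by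
        rw [index_eq_two_iff]
        refine ⟨⟨y, hyF⟩, fun x => ?_⟩
        by_cases hxB : (x : C) ∈ B
        · right
          refine ⟨?_, ?_⟩
          · exact hxB
          · intro h2
            have h3 : (x : C) * y ∈ B := h2
            exact hyB ((mul_mem_cancel_left hxB).1 h3)
        · left
          refine ⟨?_, ?_⟩
          · show (x : C) * y ∈ B
            have h2 := hidxB _ (inv_mem x.2) y hyF (fun h3 => hxB (by simpa using inv_mem h3)) hyB
            rwa [inv_inv] at h2
          · exact hxB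
      have h2 := card_mul_index (B.subgroupOf F)
      rw [h1, Nat.card_congr (subgroupOfEquivOfLe hBF).toEquiv, hcardB] at h2
      omega
    rcases fact1 y hyP hyA with hyy | hyy
    · -- dihedral
      right; right; left
      -- the elements of `F - B` are involutions
      have hinv : ∀ x ∈ F, x ∉ B → x * x = 1 := by
        intro x hx hxB
        have h1 := hidxB y hyF x hx hyB hxB
        set b := y⁻¹ * x with hb
        have hyi : y⁻¹ = y := inv_eq_of_mul_eq_one_right hyy
        have h2 : y * b * y⁻¹ = b⁻¹ := by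
          rw [hBu] at h1
          obtain ⟨j, hj⟩ := mem_zpowers_iff.1 h1
          rw [← hj, ← MulAut.conj_apply, map_zpow, MulAut.conj_apply, hyu', inv_zpow]
        have h3 : x = y * b := by rw [hb]; group
        calc x * x = y * b * y⁻¹ * (y * y) * b := by rw [h3]; group
          _ = 1 := by rw [h2, hyy]; group
      have hBn : ∀ g : C, ∀ x ∈ B, g * x * g⁻¹ ∈ B := by
        have hug : ∀ g : C, g * u * g⁻¹ ∈ B := by
          intro g
          by_contra h1
          have h2 := hinv _ (h.nor g huB.1) h1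
          have h3 : g * (u * u) * g⁻¹ = 1 := by rw [← h2]; group
          rw [mul_inv_eq_one, mul_eq_left] at h3
          exact huu1 h3
        intro g x hx
        rw [hBu] at hx
        obtain ⟨j, rfl⟩ := mem_zpowers_iff.1 hx
        rw [← MulAut.conj_apply, map_zpow, MulAut.conj_apply]
        exact zpow_mem (hug g) j
      have hC : IsPGroup 2 C := isPGroup_of h.pF h.cF hBF hBcyc hBn (fun g x hx => h.nor g hx) hidxB
      have htop := h.max hC
      have hcF : c ∈ F := by rw [htop]; exact mem_top c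
      have hcB : c ∈ B := by
        by_contra h1
        have h2 := hinv c hcF h1
        rw [h.cc] at h2
        exact h.z1 h2
      have hBc : B = zpowers c := by
        symm
        apply Subgroup.eq_of_le_of_card_ge (by rw [zpowers_le]; exact hcB)
        rw [hcardB, Nat.card_zpowers, hc4]
      refine ⟨?_, y, hyy, ?_, fun f => ?_⟩
      · rw [← hcardF, htop]
        exact (Nat.card_congr Subgroup.topEquiv.toEquiv).symm
      · rw [hBu] at hcB
        obtain ⟨j, hj⟩ := mem_zpowers_iff.1 hcB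
        rw [← hj, ← MulAut.conj_apply, map_zpow, MulAut.conj_apply, hyu', inv_zpow]
      · by_cases hf : f ∈ B
        · left; rw [← hBc]; exact hf
        · right
          have h1 := hidxB y hyF f (by rw [htop]; exact mem_top f) hyB hf
          rwa [inv_eq_of_mul_eq_one_right hyy, hBc] at h1
    · -- quaternion
      right; left
      refine ⟨?_, hcardF, ?_⟩
      · rw [← huu]; exact mul_mem huB.1 huB.1
      · refine Cfsg.Agent.Lib.DihedralRecog.subgroup_quaternion_of_generators (m := 2) (by norm_num) F u y huB.1 hyF ?_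
          ?_ hyu' ?_ (by rw [hcardF])
        · rw [← hvu, hvm, hm0]; norm_num
        · rw [hyy, pow_two, huu]
        · rw [← hBu]; exact hyB
  · -- `|F| ≥ 16`
    right; right; right
    -- an element of `F` of order `≥ 8` is in `A`
    have hbig : ∀ x ∈ F, orderOf x = orderOf v → x ∈ B := by
      intro x hx hxo
      by_contra h1
      have h2 : x ^ 4 = 1 := by
        rcases fact1 x (hFP hx) (fun h3 => h1 ⟨hx, h3⟩) with e | e
        · calc x ^ 4 = (x * x) * (x * x) := by simp only [pow_succ, pow_zero, one_mul, mul_assoc]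
            _ = 1 := by rw [e, one_mul]
        · calc x ^ 4 = (x * x) * (x * x) := by simp only [pow_succ, pow_zero, one_mul, mul_assoc]
            _ = 1 := by rw [e, h.zz]
      have h3 := Nat.le_of_dvd (by norm_num) (orderOf_dvd_of_pow_eq_one h2)
      rw [hxo, hvm] at h3
      have : 2 ≤ 2 ^ m := by
        calc 2 = 2 ^ 1 := (pow_one 2).symm
          _ ≤ 2 ^ m := Nat.pow_le_pow_right (by norm_num) hm0
      omega
    have hα : ∀ α : MulAut C, α v ∈ B := fun α => hbig _ (h.char α v hvF) (orderOf_injective α.toMonoidHom α.injective v)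
    have hBα : ∀ α : MulAut C, ∀ x ∈ B, α x ∈ B := by
      intro α x hx
      rw [hBv] at hx
      obtain ⟨j, rfl⟩ := mem_zpowers_iff.1 hx
      rw [map_zpow]
      exact zpow_mem (hα α) j
    have hC : IsPGroup 2 C := isPGroup_of h.pF h.cF hBF hBcyc (fun g x hx => hBα (MulAut.conj g) x hx)
      (fun g x hx => h.nor g hx) hidxB
    have htop := h.max hC
    have hcF : c ∈ F := by rw [htop]; exact mem_top c
    have hcA : c ∉ zpowers w := by
      intro h1
      have h2 := h.self w (hAA w (mem_zpowers w) c h1)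
      obtain ⟨j, hj⟩ := mem_zpowers_iff.1 h2
      have h3 : w ^ 4 = 1 := by
        rw [← hj, ← zpow_natCast, ← zpow_mul, mul_comm, zpow_mul, zpow_natCast, ← hc4, pow_orderOf_eq_one, one_zpow]
      have h4 : v ^ 4 = 1 := by
        obtain ⟨i, hi⟩ := mem_zpowers_iff.1 hvA
        rw [← hi, ← zpow_natCast, ← zpow_mul, mul_comm, zpow_mul, zpow_natCast, h3, one_zpow]
      have h5 := Nat.le_of_dvd (by norm_num) (orderOf_dvd_of_pow_eq_one h4)
      rw [hvm] at h5
      have : 2 ≤ 2 ^ m := by
        calc 2 = 2 ^ 1 := (pow_one 2).symm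
          _ ≤ 2 ^ m := Nat.pow_le_pow_right (by norm_num) hm0
      omega
    refine ⟨u, huu, inv_u c hcP hcA ?_, fun α => ?_⟩
    · rw [← hBv]
      exact hBα (MulAut.conj c) u huB
    · have h1 : α u ∈ zpowers v := by rw [← hBv]; exact hBα α u huB
      have h4 : (α u) ^ 4 = 1 := by rw [← map_pow, hu4, map_one]
      rcases cyc_four hvm hu h1 h4 with e | e | e | e
      · exfalso
        apply hune
        left
        exact (map_eq_one_iff α α.injective).1 e
      · exact Or.inl e
      · exfalso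
        have h5 : α (u * u) = 1 := by
          rw [map_mul, e]
          calc u * u * (u * u) = u ^ 4 := by simp only [pow_succ, pow_zero, one_mul, mul_assoc]
            _ = 1 := hu4
        exact huu1 ((map_eq_one_iff α α.injective).1 h5)
      · exact Or.inr e

end Cfsg.Agent.OddHalf.D6.QThree.NIB.MaxCls
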