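import Cfsg.Agent.OddHalf.D6.QThree.NIB.Hyp
import Cfsg.Agent.OddHalf.D6.QThree.NIB.MaxCls

/-!
# ODD half, D6, `q = 3`, NI with `B`: the case `R ≤ M` (text of helper801, bb #14694, (5.1), (5.2))

`X = C_G(z)`, `M` a component containing `Q₁` and `Q₂`. `normal`: `M` is normal in `X` (given (L-balance) `grow`);
`main`: one of
* (`CA`) some component has `z` as its only involution;
* `t ∉ M C(M)`;
* `C(M) = ⟨c⟩`, of order two or four;
* `C(M)` has a normal quaternion subgroup of order eight which contains its centralizer in `C(M)`;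
* `DE`: `C(M) = ⟨c, x⟩` is a dihedral group of order eight, `t = m c`, `m ∈ M`.
-/

set_option autoImplicit false

namespace Cfsg.Agent.OddHalf.D6.QThree.NIB.Dir

open Subgroup Cfsg
open Cfsg.Agent.SignalizersComponents.Components
open Cfsg.Agent.Cit (cj mem_cj conj_mem_cj cj_mul cj_one)
open Cfsg.Agent.OddHalf.D6.QThree.NISide
open Cfsg.Agent.OddHalf.D6.QThree.NI (exists_lam isPGroup_zp)
open Cfsg.Agent.OddHalf.D6.QThree.NI.Hyp (CA)
open Cfsg.Agent.OddHalf.D6.QThree.NIB.MaxCls

variable {X : Type*} [Group X] {z t a₁ a₂ : X} {Q₁ Q₂ : Subgroup X}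

/-- a component is not centralised by `t` -/
theorem not_le [Finite X] (h : HypB z t a₁ a₂ Q₁ Q₂) {M : Subgroup X} (hM : IsQuasisimple M)
    (hMt : ∀ x ∈ M, x * t = t * x) : False := by
  apply quasisimple_not_isSolvable hM
  have h1 : M ≤ centralizer ({t} : Set X) := fun x hx => mem_centralizer_singleton_iff.2 (hMt x hx)
  have := h.sol
  exact Group.isSolvable_of_isSolvable_injective (f := inclusion h1) (inclusion_injective h1)

/-- `t` normalises every component -/
theorem cj_t [Finite X] (h : HypB z t a₁ a₂ Q₁ Q₂) {M : Subgroup X} (hM : IsComponent M) : cj t M = M := by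
  by_contra hne
  obtain ⟨D, hD1, -, -, hD3, -⟩ := Cfsg.Agent.Cit.Comp.exists_diag hM h.tt hne
  exact not_le h hD3 fun x hx => mem_centralizer_singleton_iff.1 (hD1 hx)

/-- an element of `C(M)` in `⟨t, z⟩` -/
theorem two_of_four [Finite X] (h : HypB z t a₁ a₂ Q₁ Q₂) {M : Subgroup X} (hM : IsComponent M) {y : X}
    (hy : ∀ x ∈ M, y * x = x * y) (hF : T4 z t y) : y = 1 ∨ y = z := by
  rcases hF with e | e | e | e
  · exact Or.inl e
  · exact Or.inr e
  · exfalso
    apply not_le h hM.2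
    intro x hx
    rw [← e]; exact (hy x hx).symm
  · exfalso
    apply not_le h hM.2
    intro x hx
    have e' : t = y * z := by rw [e, mul_assoc, h.zz, mul_one]
    rw [e']
    calc x * (y * z) = (x * y) * z := (mul_assoc _ _ _).symm
      _ = y * (x * z) := by rw [← hy x hx, mul_assoc]
      _ = y * z * x := by rw [h.zc x, mul_assoc]

/-- the elements of `C(M) ∩ C(t)` -/
theorem cent [Finite X] (h : HypB z t a₁ a₂ Q₁ Q₂) {M : Subgroup X} (hM : IsComponent M) (h1 : Q₁ ≤ M) (h2 : Q₂ ≤ M)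
    {y : X} (hy : ∀ x ∈ M, y * x = x * y) (hyt : y * t = t * y) :
    (y = 1 ∨ y = z) ∨ (y * y = z ∧ Bt t Q₁ Q₂ y ∧ ¬ T4 z t y) := by
  have hB : Bt t Q₁ Q₂ y := ⟨hyt, fun q hq => hy q (h1 hq), fun q hq => hy q (h2 hq)⟩
  by_cases hF : T4 z t y
  · exact Or.inl (two_of_four h hM hy hF)
  right
  refine ⟨?_, hB, hF⟩
  have hyy : ∀ x ∈ M, (y * y) * x = x * (y * y) := fun x hx => by
    rw [mul_assoc, hy x hx, ← mul_assoc, hy x hx, mul_assoc]
  rcases two_of_four h hM hyy (h.Bsq y hB) with e | e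
  · exact absurd hy (h.refl y ⟨hB, e, hF⟩ M hM (Or.inl h1))
  · exact e

/-- `M` is normal -/
theorem normal [Finite X] (_h : HypB z t a₁ a₂ Q₁ Q₂) {M : Subgroup X} (hM : IsComponent M) (h1 : Q₁ ≤ M) (h2 : Q₂ ≤ M)
    (grow : ∀ L : Subgroup X, IsComponent L → (∀ m ∈ L, ∀ x ∈ Q₁, m * x = x * m) →
      (∀ m ∈ L, ∀ x ∈ Q₂, m * x = x * m) → ∃ L' : Subgroup X, IsComponent L' ∧ Nat.card L < Nat.card L') : M.Normal := by
  have key : ∀ n : ℕ, ∀ L : Subgroup X, IsComponent L → L ≠ M → Nat.card X ≤ Nat.card L + n →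
      Nat.card L < Nat.card M := by
    intro n
    induction n with
    | zero =>
      intro L hL hne hc
      obtain ⟨L', -, hlt⟩ := grow L hL
        (fun m hm x hx => Cfsg.Agent.Cit.Comp.comm_of_ne hL hM hne hm (h1 hx))
        (fun m hm x hx => Cfsg.Agent.Cit.Comp.comm_of_ne hL hM hne hm (h2 hx))
      have := card_le_card_group L'
      omega
    | succ n ih =>
      intro L hL hne hc
      obtain ⟨L', hL', hlt⟩ := grow L hL
        (fun m hm x hx => Cfsg.Agent.Cit.Comp.comm_of_ne hL hM hne hm (h1 hx))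
        (fun m hm x hx => Cfsg.Agent.Cit.Comp.comm_of_ne hL hM hne hm (h2 hx))
      by_cases he : L' = M
      · rw [← he]; exact hlt
      · exact hlt.trans (ih L' hL' he (by omega))
  have hcj : ∀ g : X, cj g M = M := by
    intro g
    by_contra hne
    have h3 := key (Nat.card X) (cj g M) (Cfsg.Agent.Cit.Comp.isComponent_cj hM g) hne (by omega)
    have h4 : Nat.card (cj g M) = Nat.card M := Nat.card_congr (M.equivMapOfInjective (MulAut.conj g).toMonoidHom
      (MulAut.conj g).injective).toEquiv.symm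
    omega
  refine ⟨fun m hm g => ?_⟩
  have h5 := conj_mem_cj (g := g) hm
  rwa [hcj g] at h5

/-- the dihedral case -/
structure DE (z t : X) (Q₁ Q₂ M : Subgroup X) (m c x : X) : Prop where
  mM : m ∈ M
  mm : m * m = z
  Bm : Bt t Q₁ Q₂ m
  nm : ¬ T4 z t m
  cM : ∀ y ∈ M, c * y = y * c
  xM : ∀ y ∈ M, x * y = y * x
  cc : c * c = z
  xx : x * x = 1
  cx : c * x * c⁻¹ = x * z
  tmc : t = m * c
  /-- the elements of `C(M)` -/
  el : ∀ f : X, (∀ y ∈ M, f * y = y * f) →
    f = 1 ∨ f = z ∨ f = c ∨ f = c * z ∨ f = x ∨ f = x * z ∨ f = c * x ∨ f = c * x * z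

/-- the elements of `⟨c⟩`, `c² = z` -/
theorem mem_zp {c f : X} (cc : c * c = z) (zz : z * z = 1) (hf : f ∈ zpowers c) : f = 1 ∨ f = z ∨ f = c ∨ f = c * z := by
  obtain ⟨k, rfl⟩ := mem_zpowers_iff.1 hf
  have h4 : c ^ (4 : ℤ) = 1 := by
    rw [show (4 : ℤ) = 2 * 2 from rfl, zpow_mul, zpow_ofNat, zpow_ofNat, pow_two c, cc, pow_two, zz]
  have h6 : c ^ k = c ^ (k % 4) := by
    conv_lhs => rw [← Int.emod_add_mul_ediv k 4]
    rw [zpow_add, zpow_mul, h4, one_zpow, mul_one]
  rw [h6]
  have h7 : k % 4 = 0 ∨ k % 4 = 1 ∨ k % 4 = 2 ∨ k % 4 = 3 := by omega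
  rcases h7 with h | h | h | h
  · left; rw [h, zpow_zero]
  · right; right; left; rw [h, zpow_one]
  · right; left; rw [h, zpow_ofNat, pow_two, cc]
  · right; right; right
    rw [h, zpow_ofNat, pow_succ', pow_two, cc]

/-- a homomorphism to `{±1}` -/
theorem no_lam (h : HypB z t a₁ a₂ Q₁ Q₂) (lam : X →* ℤˣ) : lam t ≠ -1 := by
  intro hl
  have h1 : commutator X ≤ lam.ker := Abelianization.commutator_subset_ker lam
  have h2 : lam t = 1 := h1 h.com
  rw [h2] at hl
  exact absurd hl (by decide)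

/-- the element `c` of `C(M)`: `t = m c`, `C_{C(M)}(c) = ⟨c⟩` -/
theorem split [Finite X] (h : HypB z t a₁ a₂ Q₁ Q₂) {M : Subgroup X} (hM : IsComponent M) (h1 : Q₁ ≤ M) (h2 : Q₂ ≤ M)
    (htM : t ∈ M ⊔ centralizer (M : Set X)) :
    (t ∈ M ∧ ∃ c, (c = z ∨ c * c = z) ∧ ∀ f : X, (∀ y ∈ M, f * y = y * f) → f ∈ zpowers c) ∨
    ∃ m c, m ∈ M ∧ m * m = z ∧ Bt t Q₁ Q₂ m ∧ ¬ T4 z t m ∧ (∀ y ∈ M, c * y = y * c) ∧ c * c = z ∧ t = m * c ∧
      ∀ f : X, (∀ y ∈ M, f * y = y * f) → f * c = c * f → f ∈ zpowers c := by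
  have hMY : ∀ x ∈ M, ∀ y ∈ centralizer (M : Set X), x * y = y * x := fun x hx y hy =>
    mem_centralizer_iff.1 hy x hx
  obtain ⟨m, hm, c, hc, hmc⟩ := Cfsg.Agent.Cit.Comp.mem_sup_comm hMY htM
  have mc : Commute m c := hMY m hm c hc
  have hcM : ∀ y ∈ M, c * y = y * c := fun y hy => (hMY y hy c hc).symm
  have hm' : m = t * c⁻¹ := by rw [← hmc, mul_inv_cancel_right]
  have hmt : m * t = t * m := by rw [← hmc, mul_assoc, mc.eq]
  have hct : c * t = t * c := by
    rw [← hmc]
    calc c * (m * c) = (c * m) * c := (mul_assoc _ _ _).symm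
      _ = m * c * c := by rw [mc.eq]
  have key : ∀ r ∈ M, r * t = t * r → m * r = r * m := by
    intro r hr hrt
    have h2 : Commute r c := hMY r hr c hc
    have h3 : Commute r t := hrt
    have h4 : Commute r m := by rw [hm']; exact h3.mul_right h2.inv_right
    exact h4.symm.eq
  have hBm : Bt t Q₁ Q₂ m := ⟨hmt, fun q hq => key q (h1 hq) (h.s₁.ct q hq), fun q hq => key q (h2 hq) (h.s₂.ct q hq)⟩
  have hzM : z ∈ M := h1 h.s₁.zQ
  -- the elements of `C(M) ∩ C(t)` with square `z`
  have uniq : ∀ y y' : X, (∀ x ∈ M, y * x = x * y) → (∀ x ∈ M, y' * x = x * y') → Bt t Q₁ Q₂ y → Bt t Q₁ Q₂ y' →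
      y * y = z → y' * y' = z → y' ∈ zpowers y := by
    intro y y' hy hy' hB hB' hyy hyy'
    have h3 := h.Bu y y' hB hB' hyy hyy'
    have h4 : ∀ x ∈ M, (y⁻¹ * y') * x = x * (y⁻¹ * y') := by
      intro x hx
      have c1 : Commute y x := hy x hx
      have c2 : Commute y' x := hy' x hx
      exact (c1.inv_left.mul_left c2).eq
    have hyz : z ∈ zpowers y := by rw [← hyy]; exact mul_mem (mem_zpowers y) (mem_zpowers y)
    have e : y' = y * (y⁻¹ * y') := by group
    rw [e]
    refine mul_mem (mem_zpowers y) ?_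
    rcases two_of_four h hM h4 h3 with h5 | h5
    · rw [h5]; exact one_mem _
    · rw [h5]; exact hyz
  by_cases hF : T4 z t m
  · -- `t ∈ M`
    left
    have htM' : t ∈ M := by
      rcases hF with e | e | e | e
      · exfalso
        apply not_le h hM.2
        intro x hx
        rw [← hmc, e, one_mul]; exact (hcM x hx).symm
      · exfalso
        apply not_le h hM.2
        intro x hx
        have c1 : Commute x c := (hcM x hx).symm
        have c2 : Commute x z := h.zc x
        rw [← hmc, e]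
        exact (c2.mul_right c1).eq
      · rw [← e]; exact hm
      · have : t = m * z := by rw [e, mul_assoc, h.zz, mul_one]
        rw [this]; exact M.mul_mem hm hzM
    refine ⟨htM', ?_⟩
    have hY : ∀ f : X, (∀ y ∈ M, f * y = y * f) → (f = 1 ∨ f = z) ∨ (f * f = z ∧ Bt t Q₁ Q₂ f ∧ ¬ T4 z t f) :=
      fun f hf => cent h hM h1 h2 hf (hf t htM')
    by_cases hex : ∃ c, (∀ y ∈ M, c * y = y * c) ∧ c * c = z ∧ Bt t Q₁ Q₂ c
    · obtain ⟨c, hc1, hc2, hc3⟩ := hex
      refine ⟨c, Or.inr hc2, fun f hf => ?_⟩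
      have hzc : z ∈ zpowers c := by rw [← hc2]; exact mul_mem (mem_zpowers c) (mem_zpowers c)
      rcases hY f hf with (e | e) | ⟨e, hB, -⟩
      · rw [e]; exact one_mem _
      · rw [e]; exact hzc
      · exact uniq c f hc1 hf hc3 hB hc2 e
    · refine ⟨z, Or.inl rfl, fun f hf => ?_⟩
      rcases hY f hf with (e | e) | ⟨e, hB, -⟩
      · rw [e]; exact one_mem _
      · rw [e]; exact mem_zpowers z
      · exact absurd ⟨f, hf, e, hB⟩ hex
  · right
    -- `m² ∈ ⟨z⟩`
    have hcc' : c * c = (m * m)⁻¹ := by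
      have h3 : (m * c) * (m * c) = 1 := by rw [hmc, h.tt]
      have h4 : (m * m) * (c * c) = 1 := by
        rw [← h3]
        calc m * m * (c * c) = m * (m * c) * c := by group
          _ = m * (c * m) * c := by rw [mc.eq]
          _ = m * c * (m * c) := by group
      exact eq_inv_of_mul_eq_one_right h4
    have hmmM : ∀ x ∈ M, (m * m) * x = x * (m * m) := by
      intro x hx
      have h3 : m * m = (c * c)⁻¹ := by rw [hcc', inv_inv]
      have c1 : Commute c x := hcM x hx
      rw [h3]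
      exact ((c1.mul_left c1).inv_left).eq
    have hBc : Bt t Q₁ Q₂ c := ⟨hct, fun q hq => hcM q (h1 hq), fun q hq => hcM q (h2 hq)⟩
    have hmm : m * m = z := by
      rcases two_of_four h hM hmmM (h.Bsq m hBm) with e | e
      · exfalso
        -- `c` is a reflection
        have hc1 : c * c = 1 := by rw [hcc', e, inv_one]
        refine h.refl c ⟨hBc, hc1, fun h5 => hF ?_⟩ M hM (Or.inl h1) hcM
        have hci : c⁻¹ = c := inv_eq_of_mul_eq_one_right hc1
        have hm2 : m = t * c := by rw [hm', hci]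
        rcases h5 with e | e | e | e
        · right; right; left; rw [hm2, e, mul_one]
        · right; right; right; rw [hm2, e]
        · left; rw [hm2, e, h.tt]
        · right; left; rw [hm2, e, ← mul_assoc, h.tt, one_mul]
      · exact e
    have hcc : c * c = z := by rw [hcc', hmm, inv_eq_of_mul_eq_one_right h.zz]
    refine ⟨m, c, hm, hmm, hBm, hF, hcM, hcc, hmc.symm, fun f hf hfc => ?_⟩
    have hzc : z ∈ zpowers c := by rw [← hcc]; exact mul_mem (mem_zpowers c) (mem_zpowers c)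
    have hft : f * t = t * f := by
      have c1 : Commute f m := hf m hm
      have c2 : Commute f c := hfc
      rw [← hmc]
      exact (c1.mul_right c2).eq
    rcases cent h hM h1 h2 hf hft with (e | e) | ⟨e, hB, -⟩
    · rw [e]; exact one_mem _
    · rw [e]; exact hzc
    · exact uniq c f hcM hf hBc hB hcc e

/-- a cyclic group has at most one involution -/
theorem inv_unique {v x y : X} (hx : x ∈ zpowers v) (hy : y ∈ zpowers v) (xx : x * x = 1) (yy : y * y = 1)
    (x1 : x ≠ 1) (y1 : y ≠ 1) : x = y := by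
  obtain ⟨i, rfl⟩ := mem_zpowers_iff.1 hx
  obtain ⟨j, rfl⟩ := mem_zpowers_iff.1 hy
  have hd : ∀ k : ℤ, v ^ k = 1 ↔ (orderOf v : ℤ) ∣ k := fun k => orderOf_dvd_iff_zpow_eq_one.symm
  rw [← zpow_add, hd] at xx yy
  rw [Ne, hd] at x1 y1
  obtain ⟨a, ha⟩ := xx
  obtain ⟨b, hb⟩ := yy
  have hao : ¬ Even a := by
    rintro ⟨e, he⟩
    apply x1
    refine ⟨e, ?_⟩
    rw [he, mul_add] at ha
    omega
  have hbo : ¬ Even b := by
    rintro ⟨e, he⟩
    apply y1
    refine ⟨e, ?_⟩
    rw [he, mul_add] at hb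
    omega
  rw [Int.not_even_iff_odd] at hao hbo
  obtain ⟨e, he⟩ := (hao.sub_odd hbo)
  have h1 : v ^ (i - j) = 1 := by
    rw [hd]
    refine ⟨e, ?_⟩
    have h2 : (orderOf v : ℤ) * (a - b) = (orderOf v : ℤ) * e + (orderOf v : ℤ) * e := by rw [he, mul_add]
    rw [mul_sub, ← ha, ← hb] at h2
    omega
  rw [zpow_sub, mul_inv_eq_one] at h1
  exact h1

/-- a component with an element `c`, `c² = z`, `C(c) = ⟨c⟩`: `z` is its only involution -/
theorem comp_unique {C : Type*} [Group C] [Finite C] {c z : C} (h : Self c z) {N : Subgroup C} (hN : IsComponent N) :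
    ∀ x ∈ N, x * x = 1 → x = 1 ∨ x = z := by
  have : Fact (Nat.Prime 2) := ⟨Nat.prime_two⟩
  have hcp : IsPGroup 2 (zpowers c) := by
    refine IsPGroup.of_card (n := 2) ?_
    rw [Nat.card_zpowers, h.ord]
    norm_num
  obtain ⟨T, hT⟩ := hcp.exists_le_sylow
  have hcT : c ∈ (T : Subgroup C) := hT (mem_zpowers c)
  have hzT : z ∈ (T : Subgroup C) := by rw [← h.cc]; exact mul_mem hcT hcT
  obtain ⟨Q, hQe⟩ := Cfsg.Agent.S0542.result 2 N hN.1 T
  set W : Subgroup C := (T : Subgroup C) ⊓ N with hW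
  have hQW : (Q : Subgroup N) = W.subgroupOf N := by rw [hQe, hW, inf_subgroupOf_right]
  -- it is enough to find a cyclic subgroup which contains `z`
  have key : ∀ v : C, z ∈ zpowers v → W ≤ zpowers v ∨
      (∃ E : Subgroup C, E ≤ W ∧ E ≤ zpowers v ∧ E.relIndex W = 2) → ∀ x ∈ N, x * x = 1 → x = 1 ∨ x = z := by
    intro v hzv hcase u hu huu
    have hconj : ∃ g : N, (g : C) * u * (g : C)⁻¹ ∈ zpowers v := by
      rcases hcase with hW' | ⟨E, hEW, hEv, hEi⟩
      · have hup : IsPGroup 2 (zpowers (⟨u, hu⟩ : N)) := by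
          exact isPGroup_zp (y := (⟨u, hu⟩ : N)) (Subtype.ext huu)
        obtain ⟨P, hP⟩ := hup.exists_le_sylow
        obtain ⟨g, hg⟩ := MulAction.exists_smul_eq N P Q
        refine ⟨g, hW' ?_⟩
        have h1 : g * ⟨u, hu⟩ * g⁻¹ ∈ (Q : Subgroup N) := by
          rw [← hg]
          exact Subgroup.smul_mem_pointwise_smul _ (MulAut.conj g) _ (hP (mem_zpowers _))
        rw [hQW] at h1
        exact h1
      · obtain ⟨g, hg⟩ := CaseM.exists_conj_of_perfect hN.2.1 Q (E.subgroupOf N)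
          (by rw [hQW]; exact comap_mono hEW)
          (by rw [hQW, relIndex_subgroupOf inf_le_right, hEi]) ⟨u, hu⟩ (Subtype.ext huu)
        exact ⟨g, hEv hg⟩
    obtain ⟨g, hg⟩ := hconj
    by_cases hu1 : u = 1
    · exact Or.inl hu1
    right
    have h2 : (g : C) * u * (g : C)⁻¹ = z := by
      refine inv_unique hg hzv ?_ h.zz (fun e => hu1 (conj_eq_one_iff.1 e)) h.z1
      calc (g : C) * u * (g : C)⁻¹ * ((g : C) * u * (g : C)⁻¹) = g * (u * u) * (g : C)⁻¹ := by group
        _ = 1 := by rw [huu, mul_one, mul_inv_cancel]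
    have h3 : u = (g : C)⁻¹ * (g * u * (g : C)⁻¹) * g := by group
    rw [h3, h2, h.zc (g : C)⁻¹, inv_mul_cancel_right]
  rcases h.max_class T.2 hcT with e | ⟨w, hwT, hw4, hidx, hcen⟩
  · refine key c (by rw [← h.cc]; exact mul_mem (mem_zpowers c) (mem_zpowers c)) (Or.inl ?_)
    rw [← e]; exact inf_le_left
  · have hAA : ∀ x ∈ zpowers w, ∀ y ∈ zpowers w, x * y = y * x := by
      intro x hx y hy
      obtain ⟨i, rfl⟩ := mem_zpowers_iff.1 hx
      obtain ⟨j, rfl⟩ := mem_zpowers_iff.1 hy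
      rw [← zpow_add, ← zpow_add, add_comm]
    have hzw : z ∈ zpowers w := by
      by_contra hzA
      have h1 : w = 1 ∨ w = z := by
        refine hcen w hwT fun x hx => ?_
        by_cases hxA : x ∈ zpowers w
        · exact hAA w (mem_zpowers w) x hxA
        · have h1 := hAA w (mem_zpowers w) _ (hidx z hzT x hx hzA hxA)
          calc w * x = (w * z) * (z⁻¹ * x) := by group
            _ = z * (w * (z⁻¹ * x)) := by rw [h.zc w, mul_assoc]
            _ = z * ((z⁻¹ * x) * w) := by rw [h1]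
            _ = x * w := by group
      rcases h1 with e | e
      · rw [e, orderOf_one] at hw4; omega
      · have h1 : orderOf w ∣ 2 := orderOf_dvd_of_pow_eq_one (by rw [pow_two, e, h.zz])
        have := Nat.le_of_dvd (by norm_num) h1
        omega
    refine key w hzw ?_
    by_cases hWw : W ≤ zpowers w
    · exact Or.inl hWw
    · right
      obtain ⟨y, hyW, hyw⟩ := SetLike.not_le_iff_exists.1 hWw
      refine ⟨W ⊓ zpowers w, inf_le_left, inf_le_right, ?_⟩
      have h1 : ((W ⊓ zpowers w).subgroupOf W).index = 2 := by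
        rw [index_eq_two_iff]
        refine ⟨⟨y, hyW⟩, fun x => ?_⟩
        have hyn : y ∉ W ⊓ zpowers w := fun h2 => hyw h2.2
        by_cases hxB : (x : C) ∈ W ⊓ zpowers w
        · right
          refine ⟨hxB, ?_⟩
          intro h2
          have h3 : (x : C) * y ∈ W ⊓ zpowers w := h2
          exact hyn ((mul_mem_cancel_left hxB).1 h3)
        · left
          refine ⟨?_, hxB⟩
          show (x : C) * y ∈ W ⊓ zpowers w
          have hxw : (x : C)⁻¹ ∉ zpowers w := fun h3 => hxB ⟨x.2, by simpa using (zpowers w).inv_mem h3⟩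
          have h2 := hidx (x : C)⁻¹ ((T : Subgroup C).inv_mem x.2.1) y hyW.1 hxw hyw
          rw [inv_inv] at h2
          exact ⟨W.mul_mem x.2 hyW, h2⟩
      exact h1

/-- **the case `R ≤ M`** -/
theorem main [Finite X] (h : HypB z t a₁ a₂ Q₁ Q₂) {M : Subgroup X} (hM : IsComponent M) (h1 : Q₁ ≤ M) (h2 : Q₂ ≤ M)
    (hMn : M.Normal) (htM : t ∈ M ⊔ centralizer (M : Set X)) :
    CA z ∨ (∃ c, (c = z ∨ c * c = z) ∧ ∀ f : X, (∀ y ∈ M, f * y = y * f) → f ∈ zpowers c) ∨
    (∃ Q : Subgroup X, Q.Normal ∧ z ∈ Q ∧ Nat.card Q = 8 ∧ Nonempty (Q ≃* QuaternionGroup 2) ∧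
      (∀ q ∈ Q, ∀ y ∈ M, q * y = y * q) ∧
      ∀ f : X, (∀ y ∈ M, f * y = y * f) → (∀ q ∈ Q, f * q = q * f) → f ∈ Q) ∨
    (∃ m c x, DE z t Q₁ Q₂ M m c x) := by
  have : Fact (Nat.Prime 2) := ⟨Nat.prime_two⟩
  rcases split h hM h1 h2 htM with ⟨-, c, hc, hf⟩ | ⟨m, c, hm, hmm, hBm, hnm, hcM, hcc, htmc, hself⟩
  · exact Or.inr (Or.inl ⟨c, hc, hf⟩)
  have hzM : z ∈ M := h1 h.s₁.zQ
  set Y : Subgroup X := centralizer (M : Set X) with hY
  have hYm : ∀ f : X, f ∈ Y ↔ ∀ y ∈ M, f * y = y * f := by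
    intro f
    rw [hY, mem_centralizer_iff]
    exact ⟨fun h3 y hy => (h3 y hy).symm, fun h3 y hy => (h3 y hy).symm⟩
  have hYn : Y.Normal := by
    refine ⟨fun f hf g => ?_⟩
    rw [hYm] at hf ⊢
    intro y hy
    have h3 : g⁻¹ * y * g ∈ M := by
      have := hMn.conj_mem y hy g⁻¹
      rwa [inv_inv] at this
    have h4 := hf _ h3
    calc g * f * g⁻¹ * y = g * (f * (g⁻¹ * y * g)) * g⁻¹ := by group
      _ = g * ((g⁻¹ * y * g) * f) * g⁻¹ := by rw [h4]
      _ = y * (g * f * g⁻¹) := by group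
  have hYs : Y.IsSubnormal := hYn.isSubnormal
  have hcY : c ∈ Y := (hYm c).2 hcM
  have hzY : z ∈ Y := (hYm z).2 fun y _ => (h.zc y).symm
  have hS : Self (⟨c, hcY⟩ : Y) ⟨z, hzY⟩ :=
    { cc := Subtype.ext hcc
      zz := Subtype.ext h.zz
      z1 := fun e => h.z1 (congrArg Subtype.val e)
      zc := fun x => Subtype.ext (h.zc x)
      self := fun x hx => by
        have h3 := hself x ((hYm x).1 x.2) (congrArg Subtype.val hx)
        obtain ⟨k, hk⟩ := mem_zpowers_iff.1 h3
        exact mem_zpowers_iff.2 ⟨k, Subtype.ext (by rw [← hk]; rfl)⟩ }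
  by_cases hlay : layer Y = ⊥
  swap
  · -- a component of `Y`
    left
    obtain ⟨N, hN⟩ : ∃ N : Subgroup Y, IsComponent N := by
      by_contra hex
      push Not at hex
      apply hlay
      rw [eq_bot_iff, layer_le_iff]
      exact fun K hK => absurd hK (hex K)
    have hN' := isComponent_map_subtype hYs hN
    have hzN := h.zM _ hN'
    obtain ⟨z', hz', hzz'⟩ := hzN
    have hzN : (⟨z, hzY⟩ : Y) ∈ N := by
      have : z' = ⟨z, hzY⟩ := Subtype.ext hzz'
      rwa [this] at hz'
    refine ⟨_, hN', ⟨_, hzN, rfl⟩, ?_⟩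
    rintro _ ⟨x, hx, rfl⟩ hxx
    rcases comp_unique hS hN x hx (Subtype.ext hxx) with e | e
    · left; rw [e]; rfl
    · right; rw [e]; rfl
  right
  have hcore : pPrimeCore 2 Y = ⊥ := by
    have h3 := Cfsg.Agent.SignalizersComponents.CompBasic.map_subtype_pPrimeCore_of_subnormal 2 hYs
    rw [h.O, inf_bot_eq, map_eq_bot_iff_of_injective _ Y.subtype_injective] at h3
    exact h3
  set F : Subgroup Y := pCore 2 Y with hF
  have hFchar : F.Characteristic := Cfsg.Agent.Lib.Cores.pCore_characteristic 2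
  have hFα : ∀ α : MulAut Y, ∀ x ∈ F, α x ∈ F := by
    intro α x hx
    have h3 := (characteristic_iff_map_le.1 hFchar) α
    exact h3 ⟨x, hx, rfl⟩
  -- automorphisms of `Y` induced by `X`
  let cjY : X → MulAut Y := fun g => MulAut.conjNormal g
  have hcjY : ∀ (g : X) (y : Y), ((cjY g y : Y) : X) = g * y * g⁻¹ := fun g y => MulAut.conjNormal_apply g y
  have hR : Rad (⟨c, hcY⟩ : Y) ⟨z, hzY⟩ F :=
    { toSelf := hS
      char := hFα
      pF := Cfsg.Agent.Lib.Cores.pCore_isPGroup 2
      cF := (Cfsg.Agent.SignalizersComponents.PConstrained.centralizer_pCore_le_iff_layer_eq_bot 2 hcore).2 hlay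
      max := fun hp => by
        rw [hF, Cfsg.Agent.Lib.Cores.pCore_eq_top_iff]
        exact hp
      elem := fun hel x hx => by
        have hn : (F.map Y.subtype).Normal := by
          refine ⟨?_⟩
          rintro _ ⟨y, hy, rfl⟩ g
          exact ⟨cjY g y, hFα _ y hy, hcjY g y⟩
        rcases h.elem _ hn (by
            rintro _ ⟨y, hy, rfl⟩
            exact congrArg Subtype.val (hel y hy)) x ⟨x, hx, rfl⟩ with e | e
        · left; exact Subtype.ext e
        · right; exact Subtype.ext e }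
  rcases hR.main with hcyc | ⟨hzF, hF8, ⟨eF⟩⟩ | ⟨h8, x, hxx, hxc, hel⟩ | ⟨u, huu, hcu, hu⟩
  · -- cyclic
    left
    refine ⟨c, Or.inr hcc, fun f hf => ?_⟩
    obtain ⟨k, hk⟩ := mem_zpowers_iff.1 (hcyc ⟨f, (hYm f).2 hf⟩)
    exact mem_zpowers_iff.2 ⟨k, congrArg Subtype.val hk⟩
  · -- quaternion
    right; left
    refine ⟨F.map Y.subtype, ⟨?_⟩, ⟨_, hzF, rfl⟩, ?_, ⟨?_⟩, ?_, ?_⟩
    · rintro _ ⟨y, hy, rfl⟩ g
      exact ⟨cjY g y, hFα _ y hy, hcjY g y⟩
    · rw [← hF8]
      exact Nat.card_congr (F.equivMapOfInjective _ Y.subtype_injective).toEquiv.symm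
    · exact (F.equivMapOfInjective _ Y.subtype_injective).symm.trans eF
    · rintro _ ⟨q, hq, rfl⟩ y hy
      exact (hYm _).1 q.2 y hy
    · intro f hf hfQ
      refine ⟨⟨f, (hYm f).2 hf⟩, hR.cF ?_, rfl⟩
      rw [mem_centralizer_iff]
      intro q hq
      exact Subtype.ext (hfQ q ⟨q, hq, rfl⟩).symm
  · -- dihedral
    right; right
    have hxM : ∀ y ∈ M, (x : X) * y = y * x := (hYm _).1 x.2
    have hxc' : (x : X) * c * (x : X)⁻¹ = c⁻¹ := congrArg Subtype.val hxc
    have hxx' : (x : X) * x = 1 := congrArg Subtype.val hxx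
    have hci : c⁻¹ = c * z := by
      apply inv_eq_of_mul_eq_one_right
      rw [← mul_assoc, hcc, h.zz]
    have hxi : (x : X)⁻¹ = x := inv_eq_of_mul_eq_one_right hxx'
    have hcx : c * x * c⁻¹ = x * z := by
      have h3 : (x : X) * c = c * z * x := by rw [← hci, ← hxc', inv_mul_cancel_right]
      have h4 : c * x = x * z * c := by
        calc c * x = c * z * (z * x) := by
              calc c * x = c * (z * z) * x := by rw [h.zz, mul_one]
                _ = c * z * (z * x) := by group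
          _ = c * z * (x * z) := by rw [← h.zc]
          _ = (c * z * x) * z := by group
          _ = x * c * z := by rw [← h3]
          _ = x * (c * z) := by group
          _ = x * (z * c) := by rw [h.zc c]
          _ = x * z * c := by group
      rw [h4, mul_inv_cancel_right]
    refine ⟨m, c, x, ⟨hm, hmm, hBm, hnm, hcM, hxM, hcc, hxx', hcx, htmc, fun f hf => ?_⟩⟩
    have key : ∀ g : Y, g ∈ zpowers (⟨c, hcY⟩ : Y) → (g : X) = 1 ∨ (g : X) = z ∨ (g : X) = c ∨ (g : X) = c * z := by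
      intro g hg
      obtain ⟨k, hk⟩ := mem_zpowers_iff.1 hg
      exact mem_zp hcc h.zz (mem_zpowers_iff.2 ⟨k, congrArg Subtype.val hk⟩)
    rcases hel ⟨f, (hYm f).2 hf⟩ with h3 | h3
    · rcases key _ h3 with e | e | e | e
      · exact Or.inl e
      · exact Or.inr (Or.inl e)
      · exact Or.inr (Or.inr (Or.inl e))
      · exact Or.inr (Or.inr (Or.inr (Or.inl e)))
    · have hfx : f = x * (x * f) := by rw [← mul_assoc, hxx', one_mul]
      have hxcz : (x : X) * c = c * x * z := by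
        have h4 : c * x = x * z * c := by rw [← hcx, inv_mul_cancel_right]
        rw [h4]
        calc (x : X) * c = x * (z * z) * c := by rw [h.zz, mul_one]
          _ = x * z * (z * c) := by group
          _ = x * z * (c * z) := by rw [← h.zc c]
          _ = x * z * c * z := by group
      have hkey : ((x : X) * f = 1 ∨ (x : X) * f = z ∨ (x : X) * f = c ∨ (x : X) * f = c * z) := key _ h3
      rcases hkey with e | e | e | e
      · right; right; right; right; left
        rw [hfx, e, mul_one]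
      · right; right; right; right; right; left
        rw [hfx, e]
      · right; right; right; right; right; right; right
        rw [hfx, e, hxcz]
      · right; right; right; right; right; right; left
        rw [hfx, e, ← mul_assoc, hxcz, mul_assoc, h.zz, mul_one]
  · -- a sign
    exfalso
    have hui : ∀ w : Y, w = u ∨ w = u⁻¹ → (w : X) = u ∨ (w : X) = u * z := by
      intro w hw
      rcases hw with e | e
      · left; rw [e]
      · right
        rw [e]
        have h3 : (u : X) * u = z := congrArg Subtype.val huu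
        show (u : X)⁻¹ = u * z
        apply inv_eq_of_mul_eq_one_right
        rw [← mul_assoc, h3, h.zz]
    obtain ⟨lam, hlam⟩ := exists_lam (t := t) (c := (u : X)) h.zc h.zz h.z1
      (fun g => by
        have h3 := hui _ (hu (cjY g))
        rwa [hcjY] at h3)
      (by
        have h3 : c * (u : X) * c⁻¹ = (u : X)⁻¹ := congrArg Subtype.val hcu
        have h4 : (u : X) * u = z := congrArg Subtype.val huu
        have hmu : m * (c * (u : X) * c⁻¹) = (c * (u : X) * c⁻¹) * m := by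
          have h5 : c * (u : X) * c⁻¹ ∈ Y := mul_mem (mul_mem hcY u.2) (inv_mem hcY)
          exact ((hYm _).1 h5 m hm).symm
        have h6 : t * (u : X) * t⁻¹ = c * (u : X) * c⁻¹ := by
          rw [htmc]
          calc m * c * (u : X) * (m * c)⁻¹ = m * (c * (u : X) * c⁻¹) * m⁻¹ := by group
            _ = c * (u : X) * c⁻¹ := by rw [hmu, mul_inv_cancel_right]
        rw [h6, h3]
        apply inv_eq_of_mul_eq_one_right
        rw [← mul_assoc, h4, h.zz])
    exact no_lam h lam hlam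

end Cfsg.Agent.OddHalf.D6.QThree.NIB.Dir
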