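import Cfsg.Agent.OddHalf.D6.QThree.NIB.Two
import Cfsg.Agent.OddHalf.D6.QThree.NIB.Dir
import Cfsg.Agent.OddHalf.CaseM.RankOne

/-!
# ODD half, D6, `K = L₄(3)`, the case `T < S`: NI (beta), `B` without elements of square `z` (helper890, text of
helper76, bb #17200)

`HypB` with `El`: no element of `B` has square `z`, and `|B : ⟨t, z⟩| ≤ 2`.

* `case3`: two distinct components containing `Q₁`, `Q₂` resp.: some component has `z` as its only involution;
* `one`: a component `M` containing `Q₁` and `Q₂`: some component has `z` as its only involution, or `M` is normal and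
  `t ∉ M C(M)`, or `M` is normal and `C(M) = ⟨z⟩`.
-/

set_option autoImplicit false

namespace Cfsg.Agent.OddHalf.D6.QThree.NIB.BetaE

open Subgroup Cfsg
open Cfsg.Agent.SignalizersComponents.Components
open Cfsg.Agent.Cit (cj mem_cj conj_mem_cj)
open Cfsg.Agent.OddHalf.D6.QThree.NISide
open Cfsg.Agent.OddHalf.D6.QThree.NI.Hyp (CA comm_layer)
open Cfsg.Agent.OddHalf.D6.QThree.NIB.Two

variable {X : Type*} [Group X]

/-- no element of `B` has square `z`, `|B : ⟨t, z⟩| ≤ 2` -/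
structure El (z t : X) (Q₁ Q₂ : Subgroup X) : Prop where
  sq : ∀ b, Bt t Q₁ Q₂ b → b * b ≠ z
  two : ∀ b c, Bt t Q₁ Q₂ b → Bt t Q₁ Q₂ c → ¬ T4 z t b → ¬ T4 z t c → T4 z t (b⁻¹ * c)

/-- some `p ∈ C(t)` does not normalise `Q₁`, and `[p, v]` is not `b`, `bz` for `v ∈ C(b) ∩ C(Q₁ Q₂)` -/
def SwQ (z t : X) (Q₁ Q₂ : Subgroup X) (b : X) : Prop :=
  ∃ p, p * t = t * p ∧ (∃ q ∈ Q₁, p * q * p⁻¹ ∉ Q₁) ∧
    ∀ v, v * b = b * v → (∀ q ∈ Q₁, v * q = q * v) → (∀ q ∈ Q₂, v * q = q * v) →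
      p * v * p⁻¹ * v⁻¹ ≠ b ∧ p * v * p⁻¹ * v⁻¹ ≠ b * z

/-- the two cases for every reflection -/
def RefE (z t : X) (Q₁ Q₂ : Subgroup X) : Prop :=
  ∀ b, Refl z t Q₁ Q₂ b → SwQ z t Q₁ Q₂ b ∨ Diag z t Q₁ Q₂ b

variable {z t a₁ a₂ : X} {Q₁ Q₂ : Subgroup X}

/-- an element of `C(t)` which does not normalise `Q₁` swaps `Q₁` and `Q₂` -/
theorem swap_of (h : HypB z t a₁ a₂ Q₁ Q₂) {p : X} (hpt : p * t = t * p) (hp : ∃ q ∈ Q₁, p * q * p⁻¹ ∉ Q₁) :
    (∀ x ∈ Q₁, p * x * p⁻¹ ∈ Q₂) ∧ ∀ x ∈ Q₂, p * x * p⁻¹ ∈ Q₁ := by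
  have hf₁ := h.s₁.finite
  have hf₂ := h.s₂.finite
  have hpz : p * z * p⁻¹ = z := by rw [h.zc p, mul_inv_cancel_right]
  -- images of the elements of `Q₁`, `Q₂`
  have key : ∀ x : X, x ∈ Q₁ ∨ x ∈ Q₂ → p * x * p⁻¹ ∈ Q₁ ∨ p * x * p⁻¹ ∈ Q₂ := by
    intro x hx
    by_cases x1 : x = 1
    · left
      rw [x1, mul_one, mul_inv_cancel]; exact Q₁.one_mem
    by_cases xz : x = z
    · left
      rw [xz, hpz]; exact h.s₁.zQ
    have hxx : x * x = z := by
      rcases hx with hx | hx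
      · exact h.s₁.sq x hx x1 xz
      · exact h.s₂.sq x hx x1 xz
    obtain ⟨x', hx', y', hy', e⟩ : ∃ x' ∈ Q₁, ∃ y' ∈ Q₂, p * x * p⁻¹ = x' * y' := by
      rcases hx with hx | hx
      · obtain ⟨x', hx', y', hy', e⟩ := h.nor p hpt x hx 1 Q₂.one_mem
        rw [mul_one] at e
        exact ⟨x', hx', y', hy', e⟩
      · obtain ⟨x', hx', y', hy', e⟩ := h.nor p hpt 1 Q₁.one_mem x hx
        rw [one_mul] at e
        exact ⟨x', hx', y', hy', e⟩
    have e2 : (x' * x') * (y' * y') = z := by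
      have e3 : p * x * p⁻¹ * (p * x * p⁻¹) = z := by
        calc p * x * p⁻¹ * (p * x * p⁻¹) = p * (x * x) * p⁻¹ := by group
          _ = z := by rw [hxx, hpz]
      rw [e] at e3
      rw [← e3]
      calc (x' * x') * (y' * y') = x' * (x' * y') * y' := by group
        _ = x' * (y' * x') * y' := by rw [h.comm x' hx' y' hy']
        _ = x' * y' * (x' * y') := by group
    rw [e]
    by_cases hx1 : x' = 1
    · right; rw [hx1, one_mul]; exact hy'
    by_cases hxz : x' = z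
    · right; rw [hxz]; exact Q₂.mul_mem h.s₂.zQ hy'
    by_cases hy1 : y' = 1
    · left; rw [hy1, mul_one]; exact hx'
    by_cases hyz : y' = z
    · left; rw [hyz]; exact Q₁.mul_mem hx' h.s₁.zQ
    exfalso
    rw [h.s₁.sq x' hx' hx1 hxz, h.s₂.sq y' hy' hy1 hyz, h.zz] at e2
    exact h.z1 e2.symm
  have hc : ∀ x y : X, p * (x * y) * p⁻¹ = p * x * p⁻¹ * (p * y * p⁻¹) := fun x y => by group
  obtain ⟨q, hq, hqn⟩ := hp
  have hq2 : p * q * p⁻¹ ∈ Q₂ := (key q (Or.inl hq)).resolve_left hqn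
  have h1 : ∀ x ∈ Q₁, p * x * p⁻¹ ∈ Q₂ := by
    intro x hx
    rcases key x (Or.inl hx) with h3 | h3
    · rcases key (q * x) (Or.inl (Q₁.mul_mem hq hx)) with h4 | h4
      · exfalso
        rw [hc] at h4
        exact hqn ((Q₁.mul_mem_cancel_right h3).1 h4)
      · rw [hc] at h4
        exact (Q₂.mul_mem_cancel_left hq2).1 h4
    · exact h3
  refine ⟨h1, ?_⟩
  -- `p Q₁ p⁻¹ = Q₂`
  have hmap : Q₁.map (MulAut.conj p).toMonoidHom = Q₂ := by
    apply Subgroup.eq_of_le_of_card_ge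
    · rintro _ ⟨x, hx, rfl⟩
      exact h1 x hx
    · rw [h.s₂.card, ← h.s₁.card]
      exact (Nat.card_congr (Q₁.equivMapOfInjective _ (MulAut.conj p).injective).toEquiv).le
  have hback : ∀ y, p * y * p⁻¹ ∈ Q₂ → y ∈ Q₁ := by
    intro y hy
    rw [← hmap] at hy
    obtain ⟨x, hx, e⟩ := hy
    have e' : p * x * p⁻¹ = p * y * p⁻¹ := e
    have e2 : x = y := mul_left_cancel (mul_right_cancel e')
    rw [← e2]; exact hx
  -- some element of `Q₂` is not in `Q₁`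
  obtain ⟨y₀, hy₀, hn₀⟩ : ∃ y ∈ Q₂, y ∉ Q₁ := by
    by_contra hcon
    push Not at hcon
    apply h.s₂.not_comm
    intro x hx y hy
    exact h.comm x (hcon x hx) y hy
  have h2 : p * y₀ * p⁻¹ ∈ Q₁ := (key y₀ (Or.inr hy₀)).resolve_right fun h3 => hn₀ (hback _ h3)
  intro y hy
  rcases key y (Or.inr hy) with h3 | h3
  · exact h3
  · have h4 : y ∈ Q₁ := hback y h3
    have h5 : y₀ * y ∉ Q₁ := fun h6 => hn₀ ((Q₁.mul_mem_cancel_right h4).1 h6)
    rcases key (y₀ * y) (Or.inr (Q₂.mul_mem hy₀ hy)) with h6 | h6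
    · rw [hc] at h6
      exact (Q₁.mul_mem_cancel_left h2).1 h6
    · exact absurd (hback _ h6) h5

/-- **(6.3)**: two components -/
theorem case3 [Finite X] {M₁ M₂ : Subgroup X} (p : Pr Q₁ Q₂ M₁ M₂) (h : HypB z t a₁ a₂ Q₁ Q₂) (hE : El z t Q₁ Q₂)
    (hR : RefE z t Q₁ Q₂) : CA z := by
  have hN₁ : ∀ b ∈ M₁, Bt t Q₁ Q₂ b → b * b ≠ z := fun b _ hb => hE.sq b hb
  have hN₂ : ∀ b ∈ M₂, Bt t Q₁ Q₂ b → b * b ≠ z := fun b _ hb => hE.sq b hb
  have hz₁ : z ∈ M₁ := p.zM h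
  have hz₂ : z ∈ M₂ := p.symm.zM (symmB h)
  rcases exists_v h p.c₁ p.q₁ (fun m hm y hy => p.comm m hm y (p.q₂ hy)) (fun b hb hB hbb => p.inv₁ h hb hB hbb)
    with ⟨v₁, h1, h1q, h1t⟩ | ⟨W, hWp, hQW, hWM, ⟨S, hS⟩, hWB⟩
  swap
  · refine ⟨M₁, p.c₁, hz₁, p.rank_one h hWp hQW hS hWM fun w hw hwq => ?_⟩
    rcases p.cases₁ h (hWM hw) (hWB w hw hwq) with e | e | e
    · exact Or.inl e
    · exact Or.inr e
    · exact absurd e (hN₁ w (hWM hw) (hWB w hw hwq))
  rcases exists_v (symmB h) p.c₂ p.q₂ (fun m hm y hy => (p.comm y (p.q₁ hy) m hm).symm)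
    (fun b hb hB hbb => p.symm.inv₁ (symmB h) hb hB hbb)
    with ⟨v₂, h2, h2q, h2t⟩ | ⟨W, hWp, hQW, hWM, ⟨S, hS⟩, hWB⟩
  swap
  · refine ⟨M₂, p.c₂, hz₂, p.symm.rank_one (symmB h) hWp hQW hS hWM fun w hw hwq => ?_⟩
    rcases p.symm.cases₁ (symmB h) (hWM hw) (hWB w hw hwq) with e | e | e
    · exact Or.inl e
    · exact Or.inr e
    · exact absurd e (hN₂ w (hWM hw) (bt_symm (hWB w hw hwq)))
  exfalso
  have hN₂' : ∀ b ∈ M₂, Bt t Q₂ Q₁ b → b * b ≠ z := fun b hb hB => hN₂ b hb (bt_symm hB)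
  have s1 := p.sq_cases h hN₁ h1 h1q h1t
  have s2 := p.symm.sq_cases (symmB h) hN₂' h2 h2q h2t
  have s12 := p.sq_eq h hN₁ hN₂ h1 h1q h1t h2 h2q h2t
  have hyB := p.mul_bt h h1 h1q h1t h2 h2q h2t
  have c12 : Commute v₁ v₂ := p.comm v₁ h1 v₂ h2
  have hv12 : v₁ ∉ M₂ := fun hv => Pr.not_comm_t h h1t (p.mid_comm h h1 hv (by
    rcases s1 with e | e
    · exact Or.inl e
    · exact Or.inr (Or.inl e)))
  have hT := p.mul_not_T4 h h1 h1t h2 hv12
  have hyy : v₁ * v₂ * (v₁ * v₂) = 1 := by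
    have e : v₁ * v₂ * (v₁ * v₂) = (v₁ * v₁) * (v₂ * v₂) := by
      calc v₁ * v₂ * (v₁ * v₂) = v₁ * (v₂ * v₁) * v₂ := by group
        _ = v₁ * (v₁ * v₂) * v₂ := by rw [c12.eq]
        _ = (v₁ * v₁) * (v₂ * v₂) := by group
    rw [e, ← s12]
    rcases s1 with e | e
    · rw [e, one_mul]
    · rw [e, h.zz]
  have hn₁ := p.exists_not_comm' h h1 h1t h2 s1
  have hn₂ : ∃ m ∈ M₂, m * (v₁ * v₂) ≠ v₁ * v₂ * m := by
    have h3 := p.symm.exists_not_comm' (symmB h) h2 h2t h1 s2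
    rwa [← c12.eq] at h3
  rcases hR _ ⟨hyB, hyy, hT⟩ with ⟨s, hst, hs, hsv⟩ | ⟨z₁, hz1, hz1z, hz11, hd₁, hd₂⟩
  · -- the swap argument
    have hfin := h.s₁.finite
    obtain ⟨hs₁, hs₂⟩ := swap_of h hst hs
    have hmap : Q₁.map (MulAut.conj s).toMonoidHom = Q₂ := by
      have := h.s₂.finite
      apply Subgroup.eq_of_le_of_card_ge
      · rintro _ ⟨x, hx, rfl⟩
        exact hs₁ x hx
      · rw [h.s₂.card, ← h.s₁.card]
        exact (Nat.card_congr (Q₁.equivMapOfInjective _ (MulAut.conj s).injective).toEquiv).le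
    have hmap' : Q₂.map (MulAut.conj s).toMonoidHom = Q₁ := by
      have := h.s₂.finite
      apply Subgroup.eq_of_le_of_card_ge
      · rintro _ ⟨x, hx, rfl⟩
        exact hs₂ x hx
      · rw [h.s₁.card, ← h.s₂.card]
        exact (Nat.card_congr (Q₂.equivMapOfInjective _ (MulAut.conj s).injective).toEquiv).le
    have hcj : cj s M₁ = M₂ := by
      apply p.uniq₂ h (Cfsg.Agent.Cit.Comp.isComponent_cj p.c₁ s)
      rw [← hmap]
      rintro _ ⟨x, hx, rfl⟩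
      exact conj_mem_cj (p.q₁ hx)
    obtain ⟨hb, hbz⟩ := hsv v₁ ((Commute.refl v₁).mul_right c12).eq h1q (fun q hq => p.comm v₁ h1 q (p.q₂ hq))
    set u := s * v₁ * s⁻¹ with hu
    have huM : u ∈ M₂ := by rw [← hcj]; exact conj_mem_cj h1
    have cu : Commute v₁ u := p.comm v₁ h1 u huM
    have c2q : ∀ q ∈ Q₂, v₁ * q = q * v₁ := fun q hq => p.comm v₁ h1 q (p.q₂ hq)
    -- `w = u v₁⁻¹ ∈ B`
    have hut : t * u * t⁻¹ = u * z := by
      have c : Commute s t := hst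
      calc t * u * t⁻¹ = (t * s) * v₁ * (t * s)⁻¹ := by rw [hu]; group
        _ = (s * t) * v₁ * (s * t)⁻¹ := by rw [c.eq]
        _ = s * (t * v₁ * t⁻¹) * s⁻¹ := by group
        _ = s * v₁ * (z * s⁻¹) := by rw [h1t]; group
        _ = s * v₁ * (s⁻¹ * z) := by rw [h.zc s⁻¹]
        _ = u * z := by rw [hu]; group
    have huq : ∀ Q Q' : Subgroup X, Q.map (MulAut.conj s).toMonoidHom = Q' → (∀ q ∈ Q, v₁ * q = q * v₁) →
        ∀ q ∈ Q', u * q = q * u := by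
      intro Q Q' hQ hc q hq
      rw [← hQ] at hq
      obtain ⟨x, hx, rfl⟩ := hq
      show s * v₁ * s⁻¹ * (s * x * s⁻¹) = s * x * s⁻¹ * (s * v₁ * s⁻¹)
      calc s * v₁ * s⁻¹ * (s * x * s⁻¹) = s * (v₁ * x) * s⁻¹ := by group
        _ = s * (x * v₁) * s⁻¹ := by rw [hc x hx]
        _ = s * x * s⁻¹ * (s * v₁ * s⁻¹) := by group
    have hwB : Bt t Q₁ Q₂ (u * v₁⁻¹) := by
      refine ⟨?_, fun q hq => ?_, fun q hq => ?_⟩
      · have e : t * (u * v₁⁻¹) * t⁻¹ = u * v₁⁻¹ := by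
          calc t * (u * v₁⁻¹) * t⁻¹ = (t * u * t⁻¹) * (t * v₁ * t⁻¹)⁻¹ := by group
            _ = u * z * (v₁ * z)⁻¹ := by rw [hut, h1t]
            _ = u * v₁⁻¹ := by group
        rw [mul_inv_eq_iff_eq_mul] at e
        exact e.symm
      · have c1 : Commute u q := huq Q₂ Q₁ hmap' c2q q hq
        have c2 : Commute v₁ q := h1q q hq
        exact (c1.mul_left c2.inv_left).eq
      · have c1 : Commute u q := huq Q₁ Q₂ hmap h1q q hq
        have c2 : Commute v₁ q := c2q q hq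
        exact (c1.mul_left c2.inv_left).eq
    -- `t` is not a product of elements commuting with `v₁`
    have hnt : ∀ e : X, Commute v₁ e → e ≠ t := by
      intro e ce he
      apply Pr.not_comm_t h h1t
      rw [← he]
      exact ce.eq
    have cw : Commute v₁ (u * v₁⁻¹) := cu.mul_right (Commute.refl v₁).inv_right
    have cz : Commute v₁ z := h.zc v₁
    have ht' : ∀ e : X, e = t * z → t = e * z := fun e he => by rw [he, mul_assoc, h.zz, mul_one]
    by_cases hw4 : T4 z t (u * v₁⁻¹)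
    · rcases hw4 with e | e | e | e
      · apply hv12
        rw [← mul_inv_eq_one.1 e]; exact huM
      · apply hv12
        have e1 : v₁ = z⁻¹ * u := by rw [← e]; group
        rw [e1]; exact M₂.mul_mem (M₂.inv_mem hz₂) huM
      · exact hnt _ cw e
      · exact hnt _ (cw.mul_right cz) (ht' _ e).symm
    · have cb : Commute v₁ (v₁ * v₂)⁻¹ := ((Commute.refl v₁).mul_right c12).inv_right
      have hw : u * v₁⁻¹ = v₁ * v₂ * ((v₁ * v₂)⁻¹ * (u * v₁⁻¹)) := by group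
      rcases hE.two _ _ hyB hwB hT hw4 with e | e | e | e
      · rw [e, mul_one] at hw
        exact hb hw
      · rw [e] at hw
        exact hbz hw
      · exact hnt _ (cb.mul_right cw) e
      · exact hnt _ ((cb.mul_right cw).mul_right cz) (ht' _ e).symm
  · have hm₁ := p.diag_mem h1 h2 hn₁ hn₂ hd₁
    have hm₂ : z₁ ∈ M₂ := by
      rw [c12.eq] at hn₁ hn₂ hd₂
      exact p.symm.diag_mem h2 h1 hn₂ hn₁ hd₂
    rcases A_inv h (component_le_layer p.c₁ hm₁) (comm_layer p.c₁ p.c₂ p.ne hm₁ hm₂) hz11 with e | e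
    · exact hz1 e
    · exact hz1z e

/-- **(5)**: a component containing `Q₁` and `Q₂` -/
theorem one [Finite X] (h : HypB z t a₁ a₂ Q₁ Q₂) (hE : El z t Q₁ Q₂) {M : Subgroup X} (hM : IsComponent M)
    (h1 : Q₁ ≤ M) (h2 : Q₂ ≤ M) : CA z ∨ (M.Normal ∧ (t ∉ M ⊔ centralizer (M : Set X) ∨
      ∀ f : X, (∀ y ∈ M, f * y = y * f) → f = 1 ∨ f = z)) := by
  by_cases hex : ∃ L : Subgroup X, IsComponent L ∧ L ≠ M
  · left
    obtain ⟨L, hL, hne⟩ := hex
    have hzL := h.zM L hL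
    have hc := CaseM.unique_involution h.zz h.z1 h.tt h.t1 h.tz h.zc hL (by
        have : orderOf (⟨z, hzL⟩ : L) = 2 := by
          apply orderOf_eq_prime
          · rw [pow_two]; exact Subtype.ext h.zz
          · exact fun e => h.z1 (congrArg Subtype.val e)
        rw [← this]
        exact orderOf_dvd_natCard _)
      (fun x hx => by
        have h3 := conj_mem_cj (g := t) hx
        rwa [Dir.cj_t h hL] at h3)
      (fun x hx hxt => by
        rcases Dir.cent h hM h1 h2 (fun m hm => Cfsg.Agent.Cit.Comp.comm_of_ne hL hM hne hx hm) hxt with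
          (e | e) | ⟨e, hB, -⟩
        · exact Or.inl e
        · exact Or.inr (Or.inl e)
        · exact absurd e (hE.sq x hB))
    exact ⟨L, hL, hc.1, hc.2⟩
  · right
    push Not at hex
    have hMn : M.Normal := by
      refine ⟨fun m hm g => ?_⟩
      have h3 := conj_mem_cj (g := g) hm
      rwa [hex _ (Cfsg.Agent.Cit.Comp.isComponent_cj hM g)] at h3
    refine ⟨hMn, ?_⟩
    by_cases htM : t ∈ M ⊔ centralizer (M : Set X)
    · right
      rcases Dir.split h hM h1 h2 htM with ⟨htM', -⟩ | ⟨m, c, -, hmm, hBm, -⟩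
      · intro f hf
        rcases Dir.cent h hM h1 h2 hf (hf t htM') with e | ⟨e, hB, -⟩
        · exact e
        · exact absurd e (hE.sq f hB)
      · exact absurd hmm (hE.sq m hBm)
    · exact Or.inl htM

end Cfsg.Agent.OddHalf.D6.QThree.NIB.BetaE
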