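import Cfsg.Agent.OddHalf.D6.QThree.TransferMu

/-!
# ODD half, D6, `U₄(3)` with an outer part, NI with `B`: the case `C_H(M) = D₈` (helper801's #14694 (5.3))

`H = C_G(z)`, `F = ⟨c, x⟩` a dihedral group of order eight with centre `⟨z⟩`, normal in `H`. If the involutions of
the centre of a Sylow 2-subgroup of `C_H(x)` are `z, x, xz` and no element of `C_G(x)` moves `z` to `zx`, then the
transfer of the sign of `H` on the four noncentral involutions of `F` is `-1` at `x`.
-/

set_option autoImplicit false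

namespace Cfsg.Agent.OddHalf.D6.QThree.NIB.DEight

open MulAction Subgroup

variable {G : Type*} [Group G]

/-! ### Transfer of a sign at an involution with one fixed point -/

/-- `x` an involution of `C(z)`, `D` a 2-group in `C(x) ∩ C(z)` which fixes no conjugate of `z` in `C(x)` but `z` -/
theorem false_of_fixed [Finite G] (hG : ∀ H : Subgroup G, H.index ≠ 2) {z x : G} (xx : x * x = 1)
    (H : Subgroup G) (hH : ∀ y, y ∈ H ↔ y * z = z * y) (φ : H →* ℤˣ) (hx : x ∈ H) (hφ : φ ⟨x, hx⟩ = -1)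
    (D : Subgroup G) (hD : IsPGroup 2 D) (hDx : ∀ d ∈ D, d * x = x * d) (hDz : ∀ d ∈ D, d * z = z * d)
    (hu : ∀ g : G, (∀ d ∈ D, d * (g * z * g⁻¹) = g * z * g⁻¹ * d) → x * (g * z * g⁻¹) = g * z * g⁻¹ * x →
      g * z * g⁻¹ = z) : False := by
  classical
  have hmem : ∀ g y : G, g⁻¹ * y * g ∈ H ↔ y * (g * z * g⁻¹) = g * z * g⁻¹ * y := by
    intro g y
    rw [hH]
    constructor
    · intro h
      calc y * (g * z * g⁻¹) = g * (g⁻¹ * y * g * z) * g⁻¹ := by group
        _ = g * (z * (g⁻¹ * y * g)) * g⁻¹ := by rw [h]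
        _ = g * z * g⁻¹ * y := by group
    · intro h
      calc g⁻¹ * y * g * z = g⁻¹ * (y * (g * z * g⁻¹)) * g := by group
        _ = g⁻¹ * (g * z * g⁻¹ * y) * g := by rw [h]
        _ = z * (g⁻¹ * y * g) := by group
  have hmem' : ∀ g y : G, y • (g : G ⧸ H) = g ↔ y * (g * z * g⁻¹) = g * z * g⁻¹ * y := by
    intro g y
    rw [← hmem]
    show ((y * g : G) : G ⧸ H) = (g : G ⧸ H) ↔ _
    rw [QuotientGroup.eq]
    constructor
    · intro h
      have h1 := H.inv_mem h
      have e : ((y * g)⁻¹ * g)⁻¹ = g⁻¹ * y * g := by group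
      rwa [e] at h1
    · intro h
      have h1 := H.inv_mem h
      have e : (g⁻¹ * y * g)⁻¹ = (y * g)⁻¹ * g := by group
      rwa [e] at h1
  obtain ⟨f, hf, s, hs, htr⟩ := TransferMu.transfer_eq_prod_fixed H φ x (by
    intro g k hk hko h
    have h1 : orderOf x ∣ 2 := orderOf_dvd_of_pow_eq_one (by rw [pow_two, xx])
    have h2 : orderOf x ∣ k := by
      have h3 : k ∣ 2 := hko.trans h1
      have h4 : k ≤ 2 := Nat.le_of_dvd (by norm_num) h3
      have h5 : k = 2 := by omega
      rw [h5]; exact h1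
    have h3 : g⁻¹ * x ^ k * g = 1 := by
      rw [orderOf_dvd_iff_pow_eq_one.1 h2]; group
    have h4 : (⟨g⁻¹ * x ^ k * g, h⟩ : H) = 1 := Subtype.ext h3
    rw [h4, map_one]) D hD hDx
  have hs1 : s = {((1 : G) : G ⧸ H)} := by
    ext q
    rw [hs, Finset.mem_singleton]
    constructor
    · rintro ⟨h1, h2⟩
      obtain ⟨g, rfl⟩ := QuotientGroup.mk_surjective q
      have h3 := hu g (fun d hd => (hmem' g d).1 (h2 d hd)) ((hmem' g x).1 h1)
      have h4 : g ∈ H := by
        rw [hH]
        calc g * z = g * z * g⁻¹ * g := by group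
          _ = z * g := by rw [h3]
      symm
      rw [QuotientGroup.eq, inv_one, one_mul]
      exact h4
    · rintro rfl
      refine ⟨(hmem' 1 x).2 ?_, fun d hd => (hmem' 1 d).2 ?_⟩
      · rw [one_mul, inv_one, mul_one]; exact (hH x).1 hx
      · rw [one_mul, inv_one, mul_one]; exact hDz d hd
  have h1 : MonoidHom.transfer φ x = -1 := by
    rw [htr, hs1, Finset.prod_singleton]
    have h2 : (1 : G)⁻¹ * x * 1 ∈ H := by rw [inv_one, one_mul, mul_one]; exact hx
    have e : (⟨(1 : G)⁻¹ * x * 1, h2⟩ : H) = ⟨x, hx⟩ := Subtype.ext (by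
      show (1 : G)⁻¹ * x * 1 = x
      group)
    rw [hf 1 h2, e]
    exact hφ
  set τ : G →* ℤˣ := MonoidHom.transfer φ with hτ
  apply hG τ.ker
  rw [Subgroup.index_ker]
  have h2 : τ.range = ⊤ := by
    rw [eq_top_iff]
    intro u _
    rcases Int.units_eq_one_or u with rfl | rfl
    · exact one_mem _
    · exact ⟨x, h1⟩
  rw [h2]
  have h3 : Nat.card (⊤ : Subgroup ℤˣ) = Nat.card ℤˣ := Subgroup.card_top
  rw [h3, Nat.card_eq_fintype_card]
  rfl

/-! ### The sign on the noncentral involutions of `D₈` -/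

/-- the data: `F = ⟨c, x⟩ = D₈` normal in `C(z)` -/
structure Di (z c x : G) (F : Subgroup G) : Prop where
  zz : z * z = 1
  z1 : z ≠ 1
  xx : x * x = 1
  x1 : x ≠ 1
  xz : x ≠ z
  cc : c * c = z
  cx : c * x * c⁻¹ = x * z
  xF : x ∈ F
  cF : c ∈ F
  /-- the eight elements -/
  el : ∀ f ∈ F, f = 1 ∨ f = z ∨ f = c ∨ f = c * z ∨ f = x ∨ f = x * z ∨ f = c * x ∨ f = c * x * z
  /-- `F` is normal in `C(z)` -/
  nor : ∀ h, h * z = z * h → ∀ f ∈ F, h * f * h⁻¹ ∈ F
  Fz : ∀ f ∈ F, f * z = z * f

namespace Di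

variable {z c x : G} {F : Subgroup G}

theorem zinv (d : Di z c x F) : z⁻¹ = z := inv_eq_of_mul_eq_one_right d.zz

theorem zF (d : Di z c x F) : z ∈ F := by rw [← d.cc]; exact F.mul_mem d.cF d.cF

theorem xzc (d : Di z c x F) : x * z = z * x := d.Fz x d.xF

theorem czc (d : Di z c x F) : c * z = z * c := d.Fz c d.cF

theorem cx' (d : Di z c x F) : c * x = x * z * c := by
  have := d.cx
  rwa [mul_inv_eq_iff_eq_mul] at this

/-- `x c x = c z` -/
theorem xcx (d : Di z c x F) : x * c * x = c * z := by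
  calc x * c * x = x * (c * x) := by group
    _ = x * (x * z * c) := by rw [d.cx']
    _ = (x * x) * (z * c) := by group
    _ = c * z := by rw [d.xx, one_mul, d.czc]

/-- the noncentral involutions -/
theorem inv_cases (d : Di z c x F) {f : G} (hf : f ∈ F) (hff : f * f = 1) (h1 : f ≠ 1) (hz : f ≠ z) :
    f = x ∨ f = x * z ∨ f = c * x ∨ f = c * x * z := by
  rcases d.el f hf with h | h | h | h | h | h | h | h
  · exact (h1 h).elim
  · exact (hz h).elim
  · exfalso
    rw [h, d.cc] at hff
    exact d.z1 hff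
  · exfalso
    rw [h] at hff
    have e : c * z * (c * z) = z := by
      calc c * z * (c * z) = c * (z * c) * z := by group
        _ = c * (c * z) * z := by rw [d.czc]
        _ = (c * c) * (z * z) := by group
        _ = z := by rw [d.cc, d.zz, mul_one]
    rw [e] at hff
    exact d.z1 hff
  · exact Or.inl h
  · exact Or.inr (Or.inl h)
  · exact Or.inr (Or.inr (Or.inl h))
  · exact Or.inr (Or.inr (Or.inr h))

theorem cxcx (d : Di z c x F) : c * x * (c * x) = 1 := by
  calc c * x * (c * x) = c * (x * c * x) := by group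
    _ = c * (c * z) := by rw [d.xcx]
    _ = (c * c) * z := by group
    _ = 1 := by rw [d.cc, d.zz]

theorem cx_ne_one (d : Di z c x F) : c * x ≠ 1 := by
  intro h
  have h1 : c = x := by
    calc c = c * x * x := by rw [mul_assoc, d.xx, mul_one]
      _ = x := by rw [h, one_mul]
  have h2 := d.cc
  rw [h1, d.xx] at h2
  exact d.z1 h2.symm

theorem cx_ne_z (d : Di z c x F) : c * x ≠ z := by
  intro h
  have h1 : c = z * x := by
    calc c = c * x * x := by rw [mul_assoc, d.xx, mul_one]
      _ = z * x := by rw [h]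
  have h2 := d.cc
  rw [h1] at h2
  apply d.z1
  rw [← h2]
  calc z * x * (z * x) = z * (x * z) * x := by group
    _ = z * (z * x) * x := by rw [d.xzc]
    _ = (z * z) * (x * x) := by group
    _ = 1 := by rw [d.zz, d.xx, one_mul]

/-- there is a sign -/
theorem exists_sign (d : Di z c x F) [Finite G] :
    ∃ φ : centralizer ({z} : Set G) →* ℤˣ, ∀ hx : x ∈ centralizer ({z} : Set G), φ ⟨x, hx⟩ = -1 := by
  classical
  let Δ : Type _ := {f : G // f ∈ F ∧ f * f = 1 ∧ f ≠ 1 ∧ f ≠ z}
  have hfin : Fintype Δ := Fintype.ofFinite _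
  have hact : ∀ (h : centralizer ({z} : Set G)) (f : Δ), (h : G) * f * (h : G)⁻¹ ∈ F ∧
      ((h : G) * f * (h : G)⁻¹) * ((h : G) * f * (h : G)⁻¹) = 1 ∧ (h : G) * f * (h : G)⁻¹ ≠ 1 ∧
      (h : G) * f * (h : G)⁻¹ ≠ z := by
    rintro ⟨h, hh⟩ ⟨f, hf1, hf2, hf3, hf4⟩
    have hz := mem_centralizer_singleton_iff.1 hh
    refine ⟨d.nor h hz f hf1, ?_, ?_, ?_⟩
    · show h * f * h⁻¹ * (h * f * h⁻¹) = 1
      calc h * f * h⁻¹ * (h * f * h⁻¹) = h * (f * f) * h⁻¹ := by group
        _ = 1 := by rw [hf2]; group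
    · show h * f * h⁻¹ ≠ 1
      intro e
      exact hf3 (conj_eq_one_iff.1 e)
    · show h * f * h⁻¹ ≠ z
      intro e
      apply hf4
      calc f = h⁻¹ * (h * f * h⁻¹) * h := by group
        _ = h⁻¹ * (z * h) := by rw [e]; group
        _ = h⁻¹ * (h * z) := by rw [hz]
        _ = z := by group
  let ρ : centralizer ({z} : Set G) →* Equiv.Perm Δ :=
    { toFun := fun h =>
        { toFun := fun f => ⟨(h : G) * f * (h : G)⁻¹, hact h f⟩
          invFun := fun f => ⟨((h⁻¹ : centralizer ({z} : Set G)) : G) * f * ((h⁻¹ : centralizer ({z} : Set G)) : G)⁻¹,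
            hact h⁻¹ f⟩
          left_inv := fun f => Subtype.ext (by
            show (h : G)⁻¹ * ((h : G) * f * (h : G)⁻¹) * (h : G)⁻¹⁻¹ = f
            group)
          right_inv := fun f => Subtype.ext (by
            show (h : G) * ((h : G)⁻¹ * f * (h : G)⁻¹⁻¹) * (h : G)⁻¹ = f
            group) }
      map_one' := Equiv.ext fun f => Subtype.ext (by
        show (1 : G) * f * (1 : G)⁻¹ = f
        group)
      map_mul' := fun a b => Equiv.ext fun f => Subtype.ext (by
        show ((a : G) * b) * f * ((a : G) * b)⁻¹ = (a : G) * ((b : G) * f * (b : G)⁻¹) * (a : G)⁻¹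
        group) }
  refine ⟨Equiv.Perm.sign.comp ρ, fun hx => ?_⟩
  have hcx : c * x ∈ F := F.mul_mem d.cF d.xF
  have hcxz : c * x * z ∈ F := F.mul_mem hcx d.zF
  have hcxc : c * x * z = z * (c * x) := d.Fz _ hcx
  set p : Δ := ⟨c * x, hcx, d.cxcx, d.cx_ne_one, d.cx_ne_z⟩ with hp
  have h2 : c * x * z * (c * x * z) = 1 := by
    calc c * x * z * (c * x * z) = c * x * (z * (c * x)) * z := by group
      _ = c * x * (c * x * z) * z := by rw [← hcxc]
      _ = (c * x * (c * x)) * (z * z) := by group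
      _ = 1 := by rw [d.cxcx, d.zz, one_mul]
  set q : Δ := ⟨c * x * z, hcxz, h2, (fun e => d.cx_ne_z (by
      have : c * x = z⁻¹ := mul_eq_one_iff_eq_inv.1 e
      rw [this, d.zinv])), (fun e => d.cx_ne_one (mul_eq_right.1 e))⟩ with hq
  have hpq : p ≠ q := by
    intro e
    have h3 : c * x = c * x * z := congrArg Subtype.val e
    exact d.z1 (mul_eq_left.1 h3.symm)
  show Equiv.Perm.sign (ρ ⟨x, hx⟩) = -1
  have hxi : x⁻¹ = x := inv_eq_of_mul_eq_one_right d.xx
  have e1 : ρ ⟨x, hx⟩ = Equiv.swap p q := by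
    apply Equiv.ext
    rintro ⟨f, hf1, hf2, hf3, hf4⟩
    apply Subtype.ext
    show x * f * x⁻¹ = _
    rw [hxi]
    rcases d.inv_cases hf1 hf2 hf3 hf4 with h | h | h | h
    · subst h
      rw [Equiv.swap_apply_of_ne_of_ne]
      · show f * f * f = f
        rw [d.xx, one_mul]
      · intro e
        have h3 : f = c * f := congrArg Subtype.val e
        have h4 : c = 1 := mul_eq_right.1 h3.symm
        have h5 := d.cc
        rw [h4, one_mul] at h5
        exact d.z1 h5.symm
      · intro e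
        have h3 : f = c * f * z := congrArg Subtype.val e
        have h4 : c * z = 1 := by
          rw [mul_assoc, d.xzc, ← mul_assoc] at h3
          exact mul_eq_right.1 h3.symm
        have h5 : c = z := by
          have h6 : c = z⁻¹ := mul_eq_one_iff_eq_inv.1 h4
          rw [h6, d.zinv]
        have h7 := d.cc
        rw [h5, d.zz] at h7
        exact d.z1 h7.symm
    · rw [Equiv.swap_apply_of_ne_of_ne]
      · show x * f * x = f
        rw [h]
        calc x * (x * z) * x = (x * x) * (z * x) := by group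
          _ = x * z := by rw [d.xx, one_mul, d.xzc]
      · intro e
        have h3 : f = c * x := congrArg Subtype.val e
        rw [h, d.xzc] at h3
        have h4 : z = c := mul_right_cancel h3
        have h7 := d.cc
        rw [← h4, d.zz] at h7
        exact d.z1 h7.symm
      · intro e
        have h3 : f = c * x * z := congrArg Subtype.val e
        rw [h] at h3
        have h4 : x = c * x := mul_right_cancel h3
        have h5 : c = 1 := mul_eq_right.1 h4.symm
        have h7 := d.cc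
        rw [h5, one_mul] at h7
        exact d.z1 h7.symm
    · have e2 : (⟨f, hf1, hf2, hf3, hf4⟩ : Δ) = p := Subtype.ext h
      rw [e2, Equiv.swap_apply_left]
      show x * f * x = c * x * z
      rw [h]
      calc x * (c * x) * x = (x * c * x) * x := by group
        _ = c * z * x := by rw [d.xcx]
        _ = c * x * z := by rw [mul_assoc, ← d.xzc, ← mul_assoc]
    · have e2 : (⟨f, hf1, hf2, hf3, hf4⟩ : Δ) = q := Subtype.ext h
      rw [e2, Equiv.swap_apply_right]
      show x * f * x = c * x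
      rw [h]
      calc x * (c * x * z) * x = (x * c * x) * (z * x) := by group
        _ = c * z * (z * x) := by rw [d.xcx]
        _ = c * (z * z) * x := by group
        _ = c * x := by rw [d.zz, mul_one]
  rw [e1, Equiv.Perm.sign_swap hpq]

/-- `Z(S₁)` for `S₁ ∋ m`, `R ≤ S₁`, given the elements which centralise `c`, `x`, `m`, `R` -/
theorem central (d : Di z c x F) {m y : G} {R : Subgroup G}
    (hB : ∀ y : G, y * z = z * y → y * x = x * y → y * c = c * y → y * m = m * y → (∀ r ∈ R, y * r = r * y) →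
      y = 1 ∨ y = z ∨ y = m ∨ y = m * z)
    (hyz : y * z = z * y) (hyx : y * x = x * y) (hym : y * m = m * y) (hyR : ∀ r ∈ R, y * r = r * y)
    (hxm : x * m = m * x) (hxR : ∀ r ∈ R, x * r = r * x) (hmm : m * m = z) (hyy : y * y = 1) :
    y = 1 ∨ y = z ∨ y = x ∨ y = x * z := by
  have hcy : y * c * y⁻¹ ∈ F := d.nor y hyz c d.cF
  have hsq : (y * c * y⁻¹) * (y * c * y⁻¹) = z := by
    calc (y * c * y⁻¹) * (y * c * y⁻¹) = y * (c * c) * y⁻¹ := by group
      _ = z := by rw [d.cc, hyz, mul_inv_cancel_right]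
  have hzz1 : ∀ u : G, u * u = 1 → u * u = z → False := fun u h1 h2 => d.z1 (by rw [← h2, h1])
  -- `y` maps `c` to `c` or `cz`
  have hc : y * c * y⁻¹ = c ∨ y * c * y⁻¹ = c * z := by
    by_cases h1 : y * c * y⁻¹ = 1
    · exfalso; apply hzz1 _ _ hsq; rw [h1, one_mul]
    by_cases h2 : y * c * y⁻¹ = z
    · exfalso; apply hzz1 _ _ hsq; rw [h2, d.zz]
    rcases d.el _ hcy with h | h | h | h | h | h | h | h
    · exact (h1 h).elim
    · exact (h2 h).elim
    · exact Or.inl h
    · exact Or.inr h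
    · exfalso; apply hzz1 _ _ hsq; rw [h, d.xx]
    · exfalso; apply hzz1 _ _ hsq; rw [h]
      calc x * z * (x * z) = x * (z * x) * z := by group
        _ = x * (x * z) * z := by rw [d.xzc]
        _ = (x * x) * (z * z) := by group
        _ = 1 := by rw [d.xx, d.zz, one_mul]
    · exfalso; apply hzz1 _ _ hsq; rw [h, d.cxcx]
    · exfalso; apply hzz1 _ _ hsq; rw [h]
      have hcxc : c * x * z = z * (c * x) := d.Fz _ (F.mul_mem d.cF d.xF)
      calc c * x * z * (c * x * z) = c * x * (z * (c * x)) * z := by group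
        _ = c * x * (c * x * z) * z := by rw [← hcxc]
        _ = (c * x * (c * x)) * (z * z) := by group
        _ = 1 := by rw [d.cxcx, d.zz, one_mul]
  have hmz : m * z = z * m := by rw [← hmm]; group
  have hfin : ∀ w : G, w * w = 1 → (w = 1 ∨ w = z ∨ w = m ∨ w = m * z) → w = 1 ∨ w = z := by
    intro w hww hw
    rcases hw with h | h | h | h
    · exact Or.inl h
    · exact Or.inr h
    · exfalso; apply hzz1 w hww; rw [h, hmm]
    · exfalso; apply hzz1 w hww; rw [h]
      calc m * z * (m * z) = m * (z * m) * z := by group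
        _ = m * (m * z) * z := by rw [hmz]
        _ = (m * m) * (z * z) := by group
        _ = z := by rw [hmm, d.zz, mul_one]
  rcases hc with hc | hc
  · have h1 : y * c = c * y := by rwa [mul_inv_eq_iff_eq_mul] at hc
    rcases hfin y hyy (hB y hyz hyx h1 hym hyR) with h | h
    · exact Or.inl h
    · exact Or.inr (Or.inl h)
  · -- `y x` commutes with `c`
    have h0 : y * c = c * z * y := by rwa [mul_inv_eq_iff_eq_mul] at hc
    have hxc : x * c = c * z * x := by
      calc x * c = x * c * (x * x) := by rw [d.xx, mul_one]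
        _ = (x * c * x) * x := by group
        _ = c * z * x := by rw [d.xcx]
    have h1 : y * x * c = c * (y * x) := by
      calc y * x * c = y * (x * c) := by group
        _ = y * (c * z * x) := by rw [hxc]
        _ = (y * c) * z * x := by group
        _ = c * z * y * z * x := by rw [h0]
        _ = c * z * (y * z) * x := by group
        _ = c * z * (z * y) * x := by rw [hyz]
        _ = c * (z * z) * (y * x) := by group
        _ = c * (y * x) := by rw [d.zz, mul_one]
    have h2 : y * x * (y * x) = 1 := by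
      calc y * x * (y * x) = y * (x * y) * x := by group
        _ = y * (y * x) * x := by rw [hyx]
        _ = (y * y) * (x * x) := by group
        _ = 1 := by rw [hyy, d.xx, one_mul]
    have h3 : y * x * z = z * (y * x) := by
      rw [mul_assoc, d.xzc, ← mul_assoc, hyz, mul_assoc]
    have h4 : y * x * x = x * (y * x) := by rw [hyx, mul_assoc, hyx]
    have h5 : y * x * m = m * (y * x) := by
      rw [mul_assoc, hxm, ← mul_assoc, hym, mul_assoc]
    have h6 : ∀ r ∈ R, y * x * r = r * (y * x) := by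
      intro r hr
      rw [mul_assoc, hxR r hr, ← mul_assoc, hyR r hr, mul_assoc]
    have h7 : ∀ w : G, y * x = w → y = w * x := by
      rintro w rfl
      rw [mul_assoc, d.xx, mul_one]
    rcases hfin _ h2 (hB _ h3 h4 h1 h5 h6) with h | h
    · right; right; left
      rw [h7 _ h, one_mul]
    · right; right; right
      rw [h7 _ h, d.xzc]

/-! ### The end of the case -/

/-- `S₁` a maximal 2-subgroup of `C(x) ∩ C(z)` containing `F'`-commuting `R`, `m` -/
theorem false [Finite G] (hG : ∀ H : Subgroup G, H.index ≠ 2) (d : Di z c x F) {m : G} {R : Subgroup G}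
    (hB : ∀ y : G, y * z = z * y → y * x = x * y → y * c = c * y → y * m = m * y → (∀ r ∈ R, y * r = r * y) →
      y = 1 ∨ y = z ∨ y = m ∨ y = m * z)
    (hmz : m * z = z * m) (hxm : x * m = m * x) (hmm : m * m = z) (hR : IsPGroup 2 R)
    (hxR : ∀ r ∈ R, x * r = r * x) (hzR : ∀ r ∈ R, z * r = r * z) (hmR : ∀ r ∈ R, m * r = r * m)
    (hF : IsPGroup 2 F)
    (hu : ∀ g : G, g * x = x * g → g * z * g⁻¹ ≠ z * x) : False := by
  classical
  have : Fact (Nat.Prime 2) := ⟨Nat.prime_two⟩
  set N : Subgroup G := centralizer ({x} : Set G) ⊓ centralizer ({z} : Set G) with hN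
  have hNm : ∀ y, y ∈ N ↔ y * x = x * y ∧ y * z = z * y := by
    intro y
    rw [hN, mem_inf, mem_centralizer_singleton_iff, mem_centralizer_singleton_iff]
  -- `S₁`
  set P0 : Subgroup G := R ⊔ zpowers m with hP0
  have hmp : IsPGroup 2 (zpowers m) := by
    apply IsPGroup.of_card (n := 2)
    rw [Nat.card_zpowers]
    have h2 : m ^ 4 = 1 := by
      rw [show (4 : ℕ) = 2 * 2 from rfl, pow_mul, pow_two m, hmm, pow_two, d.zz]
    have h3 : orderOf m ∣ 2 ^ 2 := orderOf_dvd_of_pow_eq_one h2
    have h4 : ¬ orderOf m ∣ 2 := by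
      intro h
      have h5 := orderOf_dvd_iff_pow_eq_one.1 h
      rw [pow_two, hmm] at h5
      exact d.z1 h5
    have h5 : orderOf m ≤ 4 := Nat.le_of_dvd (by norm_num) h3
    have h6 : orderOf m ≠ 0 := (orderOf_pos m).ne'
    interval_cases h : orderOf m <;> first | rfl | omega
  have hmN : zpowers m ≤ normalizer (R : Set G) := by
    rw [zpowers_le, mem_normalizer_iff]
    intro r
    have hc : ∀ u ∈ R, m * u * m⁻¹ = u := fun u hu' => by rw [hmR u hu', mul_inv_cancel_right]
    refine ⟨fun h => by rw [hc r h]; exact h, fun h => ?_⟩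
    have h1 : m⁻¹ * (m * r * m⁻¹) * m = m * r * m⁻¹ := by
      have h2 := hmR _ h
      calc m⁻¹ * (m * r * m⁻¹) * m = m⁻¹ * ((m * r * m⁻¹) * m) := by group
        _ = m⁻¹ * (m * (m * r * m⁻¹)) := by rw [h2]
        _ = m * r * m⁻¹ := by group
    have h2 : r = m * r * m⁻¹ := by
      rw [← h1]; group
    rw [h2]; exact h
  have hP0p : IsPGroup 2 P0 := IsPGroup.to_sup_of_normal_left' hR hmp hmN
  have hP0N : P0 ≤ N := by
    rw [hP0, sup_le_iff, zpowers_le]
    refine ⟨fun r hr => (hNm r).2 ⟨(hxR r hr).symm, (hzR r hr).symm⟩, (hNm m).2 ⟨hxm.symm, hmz⟩⟩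
  obtain ⟨S, hS⟩ := (hP0p.comap_subtype : IsPGroup 2 (P0.subgroupOf N)).exists_le_sylow
  set S1 : Subgroup G := (S : Subgroup N).map N.subtype with hS1
  have hS1N : S1 ≤ N := map_subtype_le _
  have hS1p : IsPGroup 2 S1 := S.isPGroup'.map _
  have hP0S : P0 ≤ S1 := by
    intro y hy
    exact ⟨⟨y, hP0N hy⟩, hS (mem_subgroupOf.2 hy), rfl⟩
  have hmS : m ∈ S1 := hP0S ((le_sup_right : zpowers m ≤ P0) (mem_zpowers m))
  have hRS : ∀ r ∈ R, r ∈ S1 := fun r hr => hP0S ((le_sup_left : R ≤ P0) hr)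
  have hzS : z ∈ S1 := by rw [← hmm]; exact S1.mul_mem hmS hmS
  have hmax : ∀ P : Subgroup G, IsPGroup 2 P → P ≤ N → S1 ≤ P → P ≤ S1 := by
    intro P hP hPN hSP y hy
    have h1 : (S : Subgroup N) ≤ P.subgroupOf N := by
      intro w hw
      exact mem_subgroupOf.2 (hSP ⟨w, hw, rfl⟩)
    have h2 := S.is_maximal' (Q := P.subgroupOf N) (hP.comap_subtype) h1
    exact ⟨⟨y, hPN hy⟩, by rw [← h2]; exact mem_subgroupOf.2 hy, rfl⟩
  -- central involutions
  have hcen : ∀ w : G, w * w = 1 → w * x = x * w → (∀ d ∈ S1, w * d = d * w) →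
      w = 1 ∨ w = z ∨ w = x ∨ w = x * z := by
    intro w hww hwx hwS
    exact d.central hB (hwS z hzS) hwx (hwS m hmS) (fun r hr => hwS r (hRS r hr)) hxm hxR hmm hww
  have hsupp : ∀ (P : Subgroup G) (w : G), IsPGroup 2 P → w * w = 1 → (∀ y ∈ P, w * y = y * w) →
      IsPGroup 2 (P ⊔ zpowers w : Subgroup G) := by
    intro P w hP hww hwP
    have hwp : IsPGroup 2 (zpowers w) := by
      rintro ⟨y, hy⟩
      obtain ⟨k, rfl⟩ := mem_zpowers_iff.1 hy
      refine ⟨1, Subtype.ext ?_⟩
      show (w ^ k) ^ 2 ^ 1 = 1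
      rw [pow_one, pow_two, ← zpow_add, ← two_mul, zpow_mul, zpow_ofNat, pow_two, hww, one_zpow]
    refine IsPGroup.to_sup_of_normal_left' hP hwp ?_
    rw [zpowers_le, mem_normalizer_iff]
    intro y
    constructor
    · intro hy
      rw [hwP y hy, mul_inv_cancel_right]; exact hy
    · intro hy
      have h1 := hwP _ hy
      have h2 : y = w * y * w⁻¹ := by
        calc y = w⁻¹ * (w * y * w⁻¹ * w) := by group
          _ = w⁻¹ * (w * (w * y * w⁻¹)) := by rw [h1]
          _ = w * y * w⁻¹ := by group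
      rw [h2]; exact hy
  -- `S₁` is a maximal 2-subgroup of `C(x)`
  have hmax2 : ∀ P : Subgroup G, IsPGroup 2 P → P ≤ centralizer ({x} : Set G) → S1 ≤ P → P ≤ S1 := by
    intro P hP hPx hSP
    by_contra hcon
    have hlt : S1 < P := lt_of_le_not_ge hSP hcon
    have : Group.IsNilpotent P := hP.isNilpotent
    obtain ⟨g, hgP, hgS, hgN⟩ := Cfsg.Agent.Transfer.FrobeniusFusion.exists_mem_normalizer_notMem hlt
    have hgx : g * x = x * g := mem_centralizer_singleton_iff.1 (hPx hgP)
    have h1 : g * z * g⁻¹ = 1 ∨ g * z * g⁻¹ = z ∨ g * z * g⁻¹ = x ∨ g * z * g⁻¹ = x * z := by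
      have hgz : g * z * g⁻¹ ∈ S1 := (mem_normalizer_iff.1 hgN z).1 hzS
      refine hcen _ ?_ ((hNm _).1 (hS1N hgz)).1 ?_
      · calc g * z * g⁻¹ * (g * z * g⁻¹) = g * (z * z) * g⁻¹ := by group
          _ = 1 := by rw [d.zz]; group
      · intro y hy
        have h2 : g⁻¹ * y * g ∈ S1 := by
          rw [mem_normalizer_iff] at hgN
          rw [hgN]
          have e : g * (g⁻¹ * y * g) * g⁻¹ = y := by group
          rw [e]; exact hy
        have h3 := ((hNm _).1 (hS1N h2)).2
        calc g * z * g⁻¹ * y = g * (z * (g⁻¹ * y * g)) * g⁻¹ := by group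
          _ = g * (g⁻¹ * y * g * z) * g⁻¹ := by rw [h3]
          _ = y * (g * z * g⁻¹) := by group
    rcases h1 with h1 | h1 | h1 | h1
    · exact d.z1 (conj_eq_one_iff.1 h1)
    · -- `g ∈ N`
      have hgz : g * z = z * g := by rwa [mul_inv_eq_iff_eq_mul] at h1
      apply hgS
      have hle : P ⊓ N ≤ S1 := hmax (P ⊓ N) (hP.to_le inf_le_left) inf_le_right (le_inf hSP hS1N)
      exact hle ⟨hgP, (hNm g).2 ⟨hgx, hgz⟩⟩
    · apply d.xz
      have h2 : g * z = x * g := by rwa [mul_inv_eq_iff_eq_mul] at h1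
      rw [← hgx] at h2
      exact (mul_left_cancel h2).symm
    · exact hu g hgx (by rw [h1, d.xzc])
  -- `S₁` is a Sylow 2-subgroup of `C(x)`
  have hcardle : ∀ P : Subgroup G, IsPGroup 2 P → P ≤ centralizer ({x} : Set G) → Nat.card P ≤ Nat.card S1 := by
    intro P hP hPx
    obtain ⟨T, hT⟩ := (hS1p.comap_subtype : IsPGroup 2 (S1.subgroupOf (centralizer ({x} : Set G)))).exists_le_sylow
    obtain ⟨T', hT'⟩ := (hP.comap_subtype : IsPGroup 2 (P.subgroupOf (centralizer ({x} : Set G)))).exists_le_sylow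
    have hS1x : S1 ≤ centralizer ({x} : Set G) := hS1N.trans inf_le_left
    have h1 : (T : Subgroup (centralizer ({x} : Set G))).map (centralizer ({x} : Set G)).subtype ≤ S1 := by
      apply hmax2 _ (T.isPGroup'.map _) (map_subtype_le _)
      intro y hy
      exact ⟨⟨y, hS1x hy⟩, hT (mem_subgroupOf.2 hy), rfl⟩
    have h2 : Nat.card T' = Nat.card T := by
      rw [T.card_eq_multiplicity, T'.card_eq_multiplicity]
    calc Nat.card P = Nat.card (P.subgroupOf (centralizer ({x} : Set G))) :=
          (Nat.card_congr (subgroupOfEquivOfLe hPx).toEquiv).symm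
      _ ≤ Nat.card T' := Subgroup.card_le_of_le hT'
      _ = Nat.card T := h2
      _ = Nat.card ((T : Subgroup (centralizer ({x} : Set G))).map (centralizer ({x} : Set G)).subtype) :=
          (Nat.card_congr ((T : Subgroup (centralizer ({x} : Set G))).equivMapOfInjective _
            (subtype_injective _)).toEquiv)
      _ ≤ Nat.card S1 := Subgroup.card_le_of_le h1
  -- `x` is not conjugate to `z`
  have hnc : ∀ k : G, k * z * k⁻¹ ≠ x := by
    intro k hk
    set P : Subgroup G := S1 ⊔ F with hP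
    have hSF : S1 ≤ normalizer (F : Set G) := by
      intro y hy
      have hyz := ((hNm y).1 (hS1N hy)).2
      rw [mem_normalizer_iff]
      intro f
      refine ⟨fun hf => d.nor y hyz f hf, fun hf => ?_⟩
      have h1 := d.nor y⁻¹ (show Commute y z from hyz).inv_left _ hf
      have e : y⁻¹ * (y * f * y⁻¹) * y⁻¹⁻¹ = f := by group
      rwa [e] at h1
    have hPp : IsPGroup 2 P := IsPGroup.to_sup_of_normal_right' hS1p hF hSF
    have hPz : ∀ y ∈ P, y * z = z * y := by
      have h1 : P ≤ centralizer ({z} : Set G) := by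
        rw [hP, sup_le_iff]
        exact ⟨hS1N.trans inf_le_right, fun f hf => mem_centralizer_singleton_iff.2 (d.Fz f hf)⟩
      exact fun y hy => mem_centralizer_singleton_iff.1 (h1 hy)
    have h1 := hcardle (P.map (MulAut.conj k).toMonoidHom) (hPp.map _) (by
      rintro _ ⟨y, hy, rfl⟩
      rw [mem_centralizer_singleton_iff]
      show k * y * k⁻¹ * x = x * (k * y * k⁻¹)
      rw [← hk]
      calc k * y * k⁻¹ * (k * z * k⁻¹) = k * (y * z) * k⁻¹ := by group
        _ = k * (z * y) * k⁻¹ := by rw [hPz y hy]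
        _ = k * z * k⁻¹ * (k * y * k⁻¹) := by group)
    have h2 : Nat.card (P.map (MulAut.conj k).toMonoidHom) = Nat.card P :=
      (Nat.card_congr (P.equivMapOfInjective _ (MulAut.conj k).injective).toEquiv).symm
    rw [h2] at h1
    have h3 : S1 = P := Subgroup.eq_of_le_of_card_ge le_sup_left h1
    have h4 : c ∈ S1 := by rw [h3]; exact (le_sup_right : F ≤ S1 ⊔ F) d.cF
    have h5 := ((hNm c).1 (hS1N h4)).1
    have h6 := d.cx
    rw [h5, mul_inv_cancel_right] at h6
    exact d.z1 (mul_eq_left.1 h6.symm)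
  -- the sign
  obtain ⟨φ, hφ⟩ := d.exists_sign
  have hxH : x ∈ centralizer ({z} : Set G) := mem_centralizer_singleton_iff.2 d.xzc
  refine false_of_fixed hG d.xx _ (fun y => mem_centralizer_singleton_iff) φ hxH (hφ hxH) S1 hS1p (fun y hy => ((hNm y).1 (hS1N hy)).1)
    (fun y hy => ((hNm y).1 (hS1N hy)).2) ?_
  intro g hg1 hg2
  set w : G := g * z * g⁻¹ with hw
  have hww : w * w = 1 := by
    calc w * w = g * (z * z) * g⁻¹ := by rw [hw]; group
      _ = 1 := by rw [d.zz]; group
  rcases hcen w hww hg2.symm (fun y hy => (hg1 y hy).symm) with h | h | h | h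
  · exact (d.z1 (conj_eq_one_iff.1 h)).elim
  · exact h
  · exact (hnc g h).elim
  · exfalso
    apply hnc (c⁻¹ * g)
    have h1 : c⁻¹ * (x * z) * c = x := by
      rw [← d.cx]; group
    calc c⁻¹ * g * z * (c⁻¹ * g)⁻¹ = c⁻¹ * w * c := by rw [hw]; group
      _ = x := by rw [h, h1]

end Di

end Cfsg.Agent.OddHalf.D6.QThree.NIB.DEight
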