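import Mathlib.GroupTheory.SpecificGroups.Quaternion
import Mathlib.GroupTheory.Perm.Sign
import Mathlib.GroupTheory.PGroup

/-!
# A normal quaternion group `Q` of order eight and a normal subgroup `D` with `C_D(Q) ≤ Q`

`dich`: if a 3-element acts nontrivially on `Q`, then `D ≤ Q`, or some normal `J ≤ D` with only one involution is no
2-group.
-/

set_option autoImplicit false

namespace Cfsg.Agent.OddHalf.D6.QThree.NIB.QEight

open Subgroup

/-- representatives of the three subgroups of order four -/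
def P : Fin 3 → QuaternionGroup 2 := ![QuaternionGroup.a 1, QuaternionGroup.xa 0, QuaternionGroup.xa 1]

theorem dec_inv : ∀ q : QuaternionGroup 2, q * q = 1 → q = 1 ∨ q = QuaternionGroup.a 2 := by decide

theorem dec_all : ∀ q : QuaternionGroup 2, q = 1 ∨ q = QuaternionGroup.a 2 ∨
    ∃ b, q = P b ∨ q = P b * QuaternionGroup.a 2 := by decide

theorem dec_inj : ∀ a b : Fin 3, (P a = P b ∨ P a = P b * QuaternionGroup.a 2) → a = b := by decide

theorem dec_comm : ∀ a b : Fin 3, a ≠ b → P a * P b = P b * P a * QuaternionGroup.a 2 := by decide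

theorem dec_two : P 2 = P 0 * P 1 * QuaternionGroup.a 2 := by decide

theorem dec_sq : ∀ a : Fin 3, P a * P a = QuaternionGroup.a 2 := by decide

theorem perm_one : ∀ s : Equiv.Perm (Fin 3), s * s = 1 → Equiv.Perm.sign s = 1 → s = 1 := by decide

theorem perm_three : ∀ s : Equiv.Perm (Fin 3), Equiv.Perm.sign s = 1 → s ^ 3 = 1 := by decide

theorem perm_comm : ∀ r s : Equiv.Perm (Fin 3), Equiv.Perm.sign s = -1 → Equiv.Perm.sign r = 1 → r * s = s * r →
    r = 1 := by decide

variable {X : Type*} [Group X]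

/-- `Q = ⟨p₀, p₁⟩`, `p` representatives of the subgroups of order four -/
structure Rep (z : X) (Q : Subgroup X) (p : Fin 3 → X) : Prop where
  zc : ∀ x : X, x * z = z * x
  zz : z * z = 1
  z1 : z ≠ 1
  mem : ∀ a, p a ∈ Q
  all : ∀ q ∈ Q, q = 1 ∨ q = z ∨ ∃ b, q = p b ∨ q = p b * z
  inj : ∀ a b, (p a = p b ∨ p a = p b * z) → a = b
  comm : ∀ a b, a ≠ b → p a * p b = p b * p a * z
  two : p 2 = p 0 * p 1 * z
  sq : ∀ a, p a * p a = z

theorem exists_rep {z : X} {Q : Subgroup X} (zc : ∀ x : X, x * z = z * x) (zz : z * z = 1) (z1 : z ≠ 1)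
    (hz : z ∈ Q) (e : Q ≃* QuaternionGroup 2) : ∃ p, Rep z Q p := by
  have ez : e ⟨z, hz⟩ = QuaternionGroup.a 2 := by
    rcases dec_inv (e ⟨z, hz⟩) (by rw [← map_mul, show (⟨z, hz⟩ : Q) * ⟨z, hz⟩ = 1 from Subtype.ext zz, map_one]) with h | h
    · exact absurd (congrArg Subtype.val ((map_eq_one_iff e e.injective).1 h)) z1
    · exact h
  have ez' : ((e.symm (QuaternionGroup.a 2) : Q) : X) = z := by rw [← ez, e.symm_apply_apply]
  refine ⟨fun a => (e.symm (P a) : Q), zc, zz, z1, fun a => (e.symm (P a)).2, fun q hq => ?_, fun a b h => ?_,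
    fun a b h => ?_, ?_, fun a => ?_⟩
  · have hq' : q = ((e.symm (e ⟨q, hq⟩) : Q) : X) := by rw [e.symm_apply_apply]
    rcases dec_all (e ⟨q, hq⟩) with h | h | ⟨b, h | h⟩
    · left; rw [hq', h, map_one]; rfl
    · right; left; rw [hq', h, ez']
    · right; right; exact ⟨b, Or.inl (by rw [hq', h])⟩
    · right; right; exact ⟨b, Or.inr (by rw [hq', h, map_mul, Subgroup.coe_mul, ez'])⟩
  · apply dec_inj
    rcases h with h | h
    · left; exact e.symm.injective (Subtype.ext h)
    · right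
      apply e.symm.injective
      apply Subtype.ext
      rw [map_mul, Subgroup.coe_mul, ez']; exact h
  · have := congrArg (fun w => ((e.symm w : Q) : X)) (dec_comm a b h)
    simp only [map_mul, Subgroup.coe_mul, ez'] at this
    exact this
  · have := congrArg (fun w => ((e.symm w : Q) : X)) dec_two
    simp only [map_mul, Subgroup.coe_mul, ez'] at this
    exact this
  · have := congrArg (fun w => ((e.symm w : Q) : X)) (dec_sq a)
    simp only [map_mul, Subgroup.coe_mul, ez'] at this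
    exact this

namespace Rep

variable {z : X} {Q : Subgroup X} {p : Fin 3 → X}

theorem p_ne (h : Rep z Q p) (a : Fin 3) : p a ≠ 1 ∧ p a ≠ z := by
  constructor
  · intro e
    have := h.sq a
    rw [e, one_mul] at this
    exact h.z1 this.symm
  · intro e
    have := h.sq a
    rw [e, h.zz] at this
    exact h.z1 this.symm

theorem inv_eq (h : Rep z Q p) (a b : Fin 3) (hab : a ≠ b) : p a * p b * (p a)⁻¹ = p b * z := by
  rw [h.comm a b hab, mul_assoc (p b), h.zc (p a), ← mul_assoc, mul_inv_cancel_right]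

/-- conjugation permutes the three subgroups -/
theorem exists_act (h : Rep z Q p) (hQ : Q.Normal) (g : X) (a : Fin 3) :
    ∃ b, g * p a * g⁻¹ = p b ∨ g * p a * g⁻¹ = p b * z := by
  rcases h.all _ (hQ.conj_mem _ (h.mem a) g) with e | e | e
  · exact absurd (conj_eq_one_iff.1 e) (h.p_ne a).1
  · exfalso
    apply (h.p_ne a).2
    calc p a = g⁻¹ * (g * p a * g⁻¹) * g := by group
      _ = z := by rw [e, h.zc g⁻¹, inv_mul_cancel_right]
  · exact e

theorem mul_z (h : Rep z Q p) {x y : X} (e : x = y * z) : y = x * z := by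
  rw [e, mul_assoc, h.zz, mul_one]

theorem unique (h : Rep z Q p) {x : X} {a b : Fin 3} (ha : x = p a ∨ x = p a * z) (hb : x = p b ∨ x = p b * z) :
    a = b := by
  apply h.inj
  rcases ha with ha | ha <;> rcases hb with hb | hb
  · left; rw [← ha, hb]
  · right; rw [← ha, hb]
  · right; exact h.mul_z (by rw [← hb, ha])
  · left; rw [h.mul_z ha, h.mul_z hb]

/-- the action on the three subgroups -/
noncomputable def act (h : Rep z Q p) (hQ : Q.Normal) (g : X) (a : Fin 3) : Fin 3 := (h.exists_act hQ g a).choose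

theorem act_spec (h : Rep z Q p) (hQ : Q.Normal) (g : X) (a : Fin 3) :
    g * p a * g⁻¹ = p (h.act hQ g a) ∨ g * p a * g⁻¹ = p (h.act hQ g a) * z := (h.exists_act hQ g a).choose_spec

theorem act_eq (h : Rep z Q p) (hQ : Q.Normal) {g : X} {a b : Fin 3}
    (hb : g * p a * g⁻¹ = p b ∨ g * p a * g⁻¹ = p b * z) : h.act hQ g a = b := h.unique (h.act_spec hQ g a) hb

theorem act_mul (h : Rep z Q p) (hQ : Q.Normal) (g k : X) (a : Fin 3) :
    h.act hQ (g * k) a = h.act hQ g (h.act hQ k a) := by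
  apply h.act_eq
  set b := h.act hQ k a with hb
  have e0 : g * k * p a * (g * k)⁻¹ = g * (k * p a * k⁻¹) * g⁻¹ := by group
  have key : ∀ w : X, g * (w * z) * g⁻¹ = g * w * g⁻¹ * z := by
    intro w
    calc g * (w * z) * g⁻¹ = g * w * (z * g⁻¹) := by group
      _ = g * w * (g⁻¹ * z) := by rw [h.zc g⁻¹]
      _ = g * w * g⁻¹ * z := by group
  rcases h.act_spec hQ k a with e | e <;> rcases h.act_spec hQ g b with e' | e' <;> rw [e0, e]
  · left; exact e'
  · right; exact e'
  · right; rw [key, e']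
  · left; rw [key, e', mul_assoc, h.zz, mul_one]

theorem act_one (h : Rep z Q p) (hQ : Q.Normal) (a : Fin 3) : h.act hQ 1 a = a :=
  h.act_eq hQ (Or.inl (by rw [one_mul, inv_one, mul_one]))

/-- the homomorphism to the symmetric group -/
noncomputable def hom (h : Rep z Q p) (hQ : Q.Normal) : X →* Equiv.Perm (Fin 3) where
  toFun g := ⟨h.act hQ g, h.act hQ g⁻¹, fun a => by rw [← h.act_mul, inv_mul_cancel, h.act_one],
    fun a => by rw [← h.act_mul, mul_inv_cancel, h.act_one]⟩
  map_one' := Equiv.ext (h.act_one hQ)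
  map_mul' g k := Equiv.ext (h.act_mul hQ g k)

theorem hom_apply (h : Rep z Q p) (hQ : Q.Normal) (g : X) (a : Fin 3) : h.hom hQ g a = h.act hQ g a := rfl

theorem hom_Q (h : Rep z Q p) (hQ : Q.Normal) {q : X} (hq : q ∈ Q) : h.hom hQ q = 1 := by
  have hp : ∀ b, h.hom hQ (p b) = 1 := by
    intro b
    refine Equiv.ext fun a => ?_
    rw [hom_apply, Equiv.Perm.one_apply]
    apply h.act_eq
    by_cases e : b = a
    · left; rw [e]; group
    · right; exact h.inv_eq b a e
  have hz : h.hom hQ z = 1 := by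
    have h1 := congrArg (h.hom hQ) (h.sq 0)
    rw [map_mul, hp, one_mul] at h1
    exact h1.symm
  rcases h.all q hq with e | e | ⟨b, e | e⟩
  · rw [e, map_one]
  · rw [e, hz]
  · rw [e, hp]
  · rw [e, map_mul, hp, hz, one_mul]

theorem of_hom (h : Rep z Q p) (hQ : Q.Normal) {g : X} (hg : h.hom hQ g = 1) (a : Fin 3) :
    g * p a * g⁻¹ = p a ∨ g * p a * g⁻¹ = p a * z := by
  have h1 := h.act_spec hQ g a
  rw [← hom_apply, hg, Equiv.Perm.one_apply] at h1
  exact h1

theorem comm_of (h : Rep z Q p) {g : X} (h0 : g * p 0 = p 0 * g) (h1 : g * p 1 = p 1 * g) : ∀ q ∈ Q, g * q = q * g := by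
  have c0 : Commute g (p 0) := h0
  have c1 : Commute g (p 1) := h1
  have cz : Commute g z := h.zc g
  have hp : ∀ b, Commute g (p b) := by
    intro b
    match b with
    | 0 => exact c0
    | 1 => exact c1
    | 2 => rw [h.two]; exact (c0.mul_right c1).mul_right cz
  intro q hq
  rcases h.all q hq with e | e | ⟨b, e | e⟩ <;> rw [e]
  · rw [one_mul, mul_one]
  · exact cz.eq
  · exact (hp b).eq
  · exact ((hp b).mul_right cz).eq

/-- an element which fixes the three subgroups induces an inner automorphism -/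
theorem exists_inner (h : Rep z Q p) (hQ : Q.Normal) {g : X} (hg : h.hom hQ g = 1) :
    ∃ q ∈ Q, ∀ x ∈ Q, (q * g) * x = x * (q * g) := by
  have key : ∀ q a, q * p a * q⁻¹ = p a * z → g * p a * g⁻¹ = p a * z → (q * g) * p a = p a * (q * g) := by
    intro q a h1 h2
    have h3 : q * g * p a * (q * g)⁻¹ = p a := by
      calc q * g * p a * (q * g)⁻¹ = q * (g * p a * g⁻¹) * q⁻¹ := by group
        _ = q * p a * (z * q⁻¹) := by rw [h2]; group
        _ = (q * p a * q⁻¹) * z := by rw [← h.zc q⁻¹]; group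
        _ = p a := by rw [h1, mul_assoc, h.zz, mul_one]
    rwa [mul_inv_eq_iff_eq_mul] at h3
  have key' : ∀ q a, q * p a * q⁻¹ = p a → g * p a * g⁻¹ = p a → (q * g) * p a = p a * (q * g) := by
    intro q a h1 h2
    have h3 : q * g * p a * (q * g)⁻¹ = p a := by
      calc q * g * p a * (q * g)⁻¹ = q * (g * p a * g⁻¹) * q⁻¹ := by group
        _ = p a := by rw [h2, h1]
    rwa [mul_inv_eq_iff_eq_mul] at h3
  have hself : ∀ a, p a * p a * (p a)⁻¹ = p a := fun a => mul_inv_cancel_right _ _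
  have h01 := h.inv_eq 0 1 (by decide)
  have h10 := h.inv_eq 1 0 (by decide)
  have h20 := h.inv_eq 2 0 (by decide)
  have h21 := h.inv_eq 2 1 (by decide)
  rcases h.of_hom hQ hg 0 with e0 | e0 <;> rcases h.of_hom hQ hg 1 with e1 | e1
  · refine ⟨1, Q.one_mem, h.comm_of (key' 1 0 (by group) e0) (key' 1 1 (by group) e1)⟩
  · exact ⟨p 0, h.mem 0, h.comm_of (key' _ 0 (hself 0) e0) (key _ 1 h01 e1)⟩
  · exact ⟨p 1, h.mem 1, h.comm_of (key _ 0 h10 e0) (key' _ 1 (hself 1) e1)⟩
  · exact ⟨p 2, h.mem 2, h.comm_of (key _ 0 h20 e0) (key _ 1 h21 e1)⟩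

/-- an element of odd order which fixes the three subgroups centralises `Q` -/
theorem comm_of_odd (h : Rep z Q p) (hQ : Q.Normal) {g : X} (hg : h.hom hQ g = 1) {n : ℕ} (hn : Odd n)
    (hgn : g ^ n = 1) : ∀ q ∈ Q, g * q = q * g := by
  have key : ∀ a, g * g * p a = p a * (g * g) := by
    intro a
    have h3 : g * g * p a * (g * g)⁻¹ = p a := by
      rcases h.of_hom hQ hg a with e | e
      · calc g * g * p a * (g * g)⁻¹ = g * (g * p a * g⁻¹) * g⁻¹ := by group
          _ = p a := by rw [e, e]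
      · calc g * g * p a * (g * g)⁻¹ = g * (g * p a * g⁻¹) * g⁻¹ := by group
          _ = g * p a * (z * g⁻¹) := by rw [e]; group
          _ = (g * p a * g⁻¹) * z := by rw [← h.zc g⁻¹]; group
          _ = p a := by rw [e, mul_assoc, h.zz, mul_one]
    rwa [mul_inv_eq_iff_eq_mul] at h3
  have h2 := h.comm_of (key 0) (key 1)
  obtain ⟨k, hk⟩ := hn
  have h3 : g = (g * g) ^ (k + 1) := by
    rw [← pow_two, ← pow_mul]
    have : 2 * (k + 1) = n + 1 := by omega
    rw [this, pow_succ, hgn, one_mul]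
  intro q hq
  have c : Commute (g * g) q := h2 q hq
  rw [h3]
  exact (c.pow_left (k + 1)).eq

end Rep

/-- **the dichotomy** -/
theorem dich {z : X} {Q D : Subgroup X} {p : Fin 3 → X} (h : Rep z Q p) (hQ : Q.Normal) (hD : D.Normal) (hQD : Q ≤ D)
    (hC : ∀ d ∈ D, (∀ q ∈ Q, d * q = q * d) → d ∈ Q) {c : X} {k : ℕ} (hc : c ^ 3 ^ k = 1)
    (hcQ : ∃ q ∈ Q, c * q ≠ q * c) :
    D ≤ Q ∨ ∃ J : Subgroup X, J.Normal ∧ Q ≤ J ∧ J ≤ D ∧ ¬ IsPGroup 2 J ∧ ∀ u ∈ J, u * u = 1 → u = 1 ∨ u = z := by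
  set f : X →* ℤˣ := Equiv.Perm.sign.comp (h.hom hQ) with hf
  have hfa : ∀ x, f x = Equiv.Perm.sign (h.hom hQ x) := fun x => rfl
  have hone : ∀ d ∈ D, h.hom hQ d = 1 → d ∈ Q := by
    intro d hd hd1
    obtain ⟨q, hq, hqd⟩ := h.exists_inner hQ hd1
    have h1 := hC (q * d) (D.mul_mem (hQD hq) hd) hqd
    exact (Q.mul_mem_cancel_left hq).1 h1
  set J : Subgroup X := D ⊓ f.ker with hJ
  have hJn : J.Normal := by rw [hJ]; infer_instance
  have hQJ : Q ≤ J := by
    intro q hq
    refine ⟨hQD hq, ?_⟩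
    show f q = 1
    rw [hfa, h.hom_Q hQ hq, map_one]
  have hJu : ∀ u ∈ J, u * u = 1 → u = 1 ∨ u = z := by
    intro u hu huu
    have h1 : h.hom hQ u = 1 := by
      apply perm_one
      · rw [← map_mul, huu, map_one]
      · exact hu.2
    rcases h.all u (hone u hu.1 h1) with e | e | ⟨b, e | e⟩
    · exact Or.inl e
    · exact Or.inr e
    · exfalso
      rw [e, h.sq] at huu
      exact h.z1 huu
    · exfalso
      apply h.z1
      rw [← huu, e]
      calc z = (p b * p b) * (z * z) := by rw [h.sq, h.zz, mul_one]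
        _ = p b * (p b * z) * z := by group
        _ = p b * (z * p b) * z := by rw [h.zc (p b)]
        _ = p b * z * (p b * z) := by group
  by_cases hJp : IsPGroup 2 J
  swap
  · exact Or.inr ⟨J, hJn, hQJ, inf_le_left, hJp, hJu⟩
  left
  have hJQ : J ≤ Q := by
    intro u hu
    apply hone u hu.1
    obtain ⟨n, hn⟩ := hJp ⟨u, hu⟩
    have hn' : u ^ 2 ^ n = 1 := congrArg Subtype.val hn
    have h1 : (h.hom hQ u) ^ 3 = 1 := perm_three _ hu.2
    have h2 : (h.hom hQ u) ^ 2 ^ n = 1 := by rw [← map_pow, hn', map_one]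
    have h3 := orderOf_dvd_of_pow_eq_one h1
    have h4 := orderOf_dvd_of_pow_eq_one h2
    have h5 : orderOf (h.hom hQ u) ∣ 1 := by
      have : Nat.Coprime 3 (2 ^ n) := Nat.Coprime.pow_right n (by norm_num)
      rw [← this.gcd_eq_one]
      exact Nat.dvd_gcd h3 h4
    exact orderOf_eq_one_iff.1 (Nat.dvd_one.1 h5)
  by_contra hDQ
  obtain ⟨d, hd, hdQ⟩ := SetLike.not_le_iff_exists.1 hDQ
  have hfd : f d = -1 := by
    rcases Int.units_eq_one_or (f d) with e | e
    · exact absurd (hJQ ⟨hd, e⟩) hdQ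
    · exact e
  have hd' : c * d * c⁻¹ ∈ D := hD.conj_mem d hd c
  have hfd' : f (c * d * c⁻¹) = -1 := by
    rw [map_mul, map_mul, mul_comm (f c), mul_assoc, ← map_mul, mul_inv_cancel, map_one, mul_one, hfd]
  have h1 : c * d * c⁻¹ * d⁻¹ ∈ Q := by
    apply hJQ
    refine ⟨D.mul_mem hd' (D.inv_mem hd), ?_⟩
    show f _ = 1
    rw [map_mul, hfd', map_inv, hfd]
    decide
  have h2 := h.hom_Q hQ h1
  have h3 : h.hom hQ c * h.hom hQ d = h.hom hQ d * h.hom hQ c := by
    rw [map_mul, map_mul, map_mul, map_inv, map_inv, mul_inv_eq_one, mul_inv_eq_iff_eq_mul] at h2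
    exact h2
  have hodd : Odd (3 ^ k) := Odd.pow (by decide)
  have h4 : Equiv.Perm.sign (h.hom hQ c) = 1 := by
    rcases Int.units_eq_one_or (Equiv.Perm.sign (h.hom hQ c)) with e | e
    · exact e
    · exfalso
      have h5 : (Equiv.Perm.sign (h.hom hQ c)) ^ 3 ^ k = 1 := by rw [← map_pow, ← map_pow, hc, map_one, map_one]
      rw [e, hodd.neg_one_pow] at h5
      exact absurd h5 (by decide)
  have h5 := perm_comm _ _ (by rw [← hfa]; exact hfd) h4 h3
  obtain ⟨q, hq, hcq⟩ := hcQ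
  exact hcq (h.comm_of_odd hQ h5 hodd hc q hq)

end Cfsg.Agent.OddHalf.D6.QThree.NIB.QEight
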