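import Cfsg.Agent.OddHalf.D6.QThree.NIB.DirG
import Cfsg.Agent.OddHalf.D6.QThree.NIB.QEight
import Cfsg.Agent.OddHalf.CaseC.EndComp
import Cfsg.Agent.OddHalf.Front.FE
import Cfsg.Agent.OddHalf.Quat.Tau0
import Cfsg.Agent.OddHalf.Quat.Classical
import Cfsg.Agent.OddHalf.Main
import Cfsg.Agent.S1306

/-!
# ODD half, D6, `q = 3`, NI with `B`: the end of the case `R ≤ M` (text of helper801, bb #14694, (5))

`false_of`: no component of `C_G(z)` contains `Q₁` and `Q₂`. Hypotheses: `Intr2`, `IntrSign`, and `hcy` (a standard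
subgroup `K` with `m_2(C(K)) ≤ 1` has cyclic Sylow 2-subgroups of `C(K)`: `OddHalf.Cyc.cyc`, or node Q).
-/

set_option autoImplicit false

namespace Cfsg.Agent.OddHalf.D6.QThree.NIB.DirEnd

open Subgroup Cfsg
open Cfsg.Agent.OddHalf Cfsg.Agent.OddHalf.Iface
open Cfsg.Agent.OddHalf.CaseM (rank_two compOf_map)
open Cfsg.Agent.SignalizersComponents.Components
open Cfsg.Agent.OddHalf.D6.QThree.NIB.Dir

universe u

variable {G : Type u} [Group G]

/-- a subgroup with one involution has rank one -/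
theorem rank_one {J : Subgroup G} {z : G} (hz : orderOf z = 2) (hJ : ∀ u ∈ J, u * u = 1 → u = 1 ∨ u = z) :
    PRankLE 2 1 ↥J := by
  intro E _ hE
  have h1 : E.map J.subtype ≤ zpowers z := by
    rintro _ ⟨x, hx, rfl⟩
    have h2 : (x : G) * x = 1 := by
      have := congrArg Subtype.val (hE x hx)
      rw [pow_two] at this
      exact this
    show (x : G) ∈ zpowers z
    rcases hJ x x.2 h2 with e | e
    · rw [e]; exact one_mem _
    · rw [e]; exact mem_zpowers z
  have h2 : Finite (zpowers z) := by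
    apply Nat.finite_of_card_ne_zero
    rw [Nat.card_zpowers, hz]; norm_num
  have h3 : Nat.card (E.map J.subtype) ≤ Nat.card (zpowers z) :=
    Nat.card_le_card_of_injective (inclusion h1) (inclusion_injective h1)
  rw [Nat.card_zpowers, hz, ← Nat.card_congr (E.equivMapOfInjective _ J.subtype_injective).toEquiv] at h3
  exact h3

/-- a 2-group `C(K)` with cyclic Sylow 2-subgroups is abelian -/
theorem comm_of_cyc {K : Subgroup G} (h : Cyc K) (hp : IsPGroup 2 ↥(centralizer (K : Set G))) {x y : G}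
    (hx : x ∈ centralizer (K : Set G)) (hy : y ∈ centralizer (K : Set G)) : x * y = y * x := by
  obtain ⟨R, hR⟩ := (hp.to_subgroup ⊤).exists_le_sylow
  have hcR : IsCyclic ↥(R : Subgroup ↥(centralizer (K : Set G))) := h R
  have hcm := hcR.isMulCommutative
  have h1 := hcm.is_comm.comm (⟨⟨x, hx⟩, hR (mem_top _)⟩ : ↥(R : Subgroup ↥(centralizer (K : Set G))))
    ⟨⟨y, hy⟩, hR (mem_top _)⟩
  exact congrArg (fun w : ↥(R : Subgroup ↥(centralizer (K : Set G))) => ((w : ↥(centralizer (K : Set G))) : G)) h1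

/-- no component with `z` as its only involution -/
theorem no_CA (hGW : SylowSp4.Hyps.GW.{u}) (C : Ctx G) {z : G} (hz : orderOf z = 2)
    {z' : ↥(centralizer ({z} : Set G))} (hz' : (z' : G) = z) (h : NI.Hyp.CA z') : False := by
  obtain ⟨M, hM, hzM, hu⟩ := h
  refine rank_two C hGW hz (compOf_map hM) ⟨z', hzM, hz'⟩ (rank_one hz ?_)
  rintro _ ⟨u, hu', rfl⟩ huu
  rcases hu u hu' (Subtype.ext huu) with e | e
  · left; rw [e]; rfl
  · right; rw [e]; exact hz'

/-- `C(M)` does not contain a normal `Q₈` with `C_{C(M)}(Q₈) ≤ Q₈` -/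
theorem no_Q8 (hGW : SylowSp4.Hyps.GW.{u}) (C : Ctx G)
    (hcy : ∀ K : Subgroup G, Std0 G K → PRankLE 2 1 ↥(centralizer (K : Set G)) → Cyc K)
    {z : G} (hz : orderOf z = 2) {z' : ↥(centralizer ({z} : Set G))} (hz' : (z' : G) = z)
    {M : Subgroup ↥(centralizer ({z} : Set G))} (hM : IsComponent M) (hMn : M.Normal) (hzM : z' ∈ M)
    {Q : Subgroup ↥(centralizer ({z} : Set G))} (hQ : Q.Normal) (hzQ : z' ∈ Q) (e : Q ≃* QuaternionGroup 2)
    (hQM : ∀ q ∈ Q, ∀ y ∈ M, q * y = y * q)
    (hC : ∀ f : ↥(centralizer ({z} : Set G)), (∀ y ∈ M, f * y = y * f) → (∀ q ∈ Q, f * q = q * f) → f ∈ Q) :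
    False := by
  have hfin := C.fin
  have hsimp := C.simple
  have hcard : Nat.card Q = 8 := by
    rw [Nat.card_congr e.toEquiv, Nat.card_eq_fintype_card, QuaternionGroup.card]
  have hQp : IsPGroup 2 Q := IsPGroup.of_card (n := 3) (by rw [hcard]; norm_num)
  have b : Quat.Base0 z (Q.map (centralizer ({z} : Set G)).subtype) := by
    refine ⟨hz, ⟨z', hzQ, hz'⟩, hQp.map _, ⟨0, ⟨?_⟩⟩, map_subtype_le _, ?_⟩
    · exact (Q.equivMapOfInjective _ (centralizer ({z} : Set G)).subtype_injective).symm.trans e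
    · intro g hg
      rw [mem_normalizer_iff]
      intro x
      constructor
      · rintro ⟨q, hq, rfl⟩
        exact ⟨⟨g, hg⟩ * q * ⟨g, hg⟩⁻¹, hQ.conj_mem q hq _, rfl⟩
      · rintro ⟨q, hq, hqx⟩
        refine ⟨⟨g, hg⟩⁻¹ * q * ⟨g, hg⟩⁻¹⁻¹, hQ.conj_mem q hq _, ?_⟩
        show g⁻¹ * (q : G) * g⁻¹⁻¹ = x
        have hqx' : (q : G) = g * x * g⁻¹ := hqx
        rw [hqx']; group
  obtain ⟨c, hc, ⟨k, hck⟩, _, ⟨q', hq', rfl⟩, hcq⟩ := b.exists_three C.na
  have zc : ∀ x : ↥(centralizer ({z} : Set G)), x * z' = z' * x := fun x => by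
    apply Subtype.ext
    show (x : G) * z' = z' * x
    have : ∀ w : G, w = z → (x : G) * w = w * x := by
      rintro w rfl
      exact mem_centralizer_singleton_iff.1 x.2
    exact this _ hz'
  have z1 : z' ≠ 1 := by
    intro e1
    have h1 : z = 1 := by rw [← hz', e1]; rfl
    rw [h1, orderOf_one] at hz
    omega
  have zz : z' * z' = 1 := by
    apply Subtype.ext
    show (z' : G) * z' = 1
    rw [hz', ← pow_two, ← hz, pow_orderOf_eq_one]
  obtain ⟨p, hp⟩ := QEight.exists_rep zc zz z1 hzQ e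
  have hDm : ∀ f, f ∈ centralizer (M : Set ↥(centralizer ({z} : Set G))) ↔ ∀ y ∈ M, f * y = y * f := by
    intro f
    rw [mem_centralizer_iff]
    exact ⟨fun h3 y hy => (h3 y hy).symm, fun h3 y hy => (h3 y hy).symm⟩
  have hDn : (centralizer (M : Set ↥(centralizer ({z} : Set G)))).Normal := by
    refine ⟨fun f hf g => ?_⟩
    rw [hDm] at hf ⊢
    intro y hy
    have h3 : g⁻¹ * y * g ∈ M := by
      have := hMn.conj_mem y hy g⁻¹
      rwa [inv_inv] at this
    have h4 := hf _ h3
    calc g * f * g⁻¹ * y = g * (f * (g⁻¹ * y * g)) * g⁻¹ := by group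
      _ = g * ((g⁻¹ * y * g) * f) * g⁻¹ := by rw [h4]
      _ = y * (g * f * g⁻¹) := by group
  rcases QEight.dich hp hQ hDn (fun q hq => (hDm q).2 (hQM q hq)) (fun d hd hdq => hC d ((hDm d).1 hd) hdq)
    (c := ⟨c, hc⟩) (k := k) (Subtype.ext hck) ⟨q', hq', fun e1 => hcq (congrArg Subtype.val e1)⟩ with
    hDQ | ⟨J, hJn, hQJ, -, hJp, hJu⟩
  swap
  · -- `J` has one involution
    apply hJp
    have hsub : (J.map (centralizer ({z} : Set G)).subtype).subgroupOf (centralizer ({z} : Set G)) = J :=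
      comap_map_eq_self_of_injective (centralizer ({z} : Set G)).subtype_injective J
    have h1 : IsPGroup 2 (J.map (centralizer ({z} : Set G)).subtype) :=
      Quat.isPGroup_of_classical hGW hz ⟨z', hQJ hzQ, hz'⟩ (map_subtype_le _)
        (by rw [hsub]; exact hJn.isSubnormal) (C.bal z hz) (rank_one hz (by
          rintro _ ⟨u, hu, rfl⟩ huu
          rcases hJu u hu (Subtype.ext huu) with e1 | e1
          · left; rw [e1]; rfl
          · right; rw [e1]; exact hz')) (fun L hL => C.classical z L hz hL)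
    exact h1.of_equiv (J.equivMapOfInjective _ (centralizer ({z} : Set G)).subtype_injective).symm
  · -- `C_G(M) = Q`
    have hcomp := compOf_map hM
    have hCG : ∀ x ∈ centralizer ((M.map (centralizer ({z} : Set G)).subtype : Subgroup G) : Set G),
        ∃ f ∈ Q, (f : G) = x := by
      intro x hx
      have hxz : x * z = z * x := (mem_centralizer_iff.1 hx z ⟨z', hzM, hz'⟩).symm
      refine ⟨⟨x, mem_centralizer_singleton_iff.2 hxz⟩, hDQ ((hDm _).2 fun y hy => Subtype.ext ?_), rfl⟩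
      exact (mem_centralizer_iff.1 hx y ⟨y, hy, rfl⟩).symm
    have hCG' : ∀ f ∈ Q, (f : G) ∈ centralizer ((M.map (centralizer ({z} : Set G)).subtype : Subgroup G) : Set G) := by
      intro f hf
      rw [mem_centralizer_iff]
      rintro _ ⟨y, hy, rfl⟩
      exact (congrArg Subtype.val (hQM f hf y hy)).symm
    have hpg : ∀ K : Subgroup G, (∀ x ∈ K, ∃ f ∈ Q, (f : G) = x) → IsPGroup 2 K := by
      rintro K hK ⟨x, hx⟩
      obtain ⟨f, hf, rfl⟩ := hK x hx
      obtain ⟨n, hn⟩ := hQp ⟨f, hf⟩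
      exact ⟨n, Subtype.ext (congrArg (fun w : ↥Q => ((w : ↥(centralizer ({z} : Set G))) : G)) hn)⟩
    have huniq : ∀ u ∈ centralizer ((M.map (centralizer ({z} : Set G)).subtype : Subgroup G) : Set G),
        u * u = 1 → u = 1 ∨ u = z := by
      intro u hu huu
      obtain ⟨f, hf, rfl⟩ := hCG u hu
      have hff : f * f = 1 := Subtype.ext huu
      rcases hp.all f hf with e1 | e1 | ⟨a, e1 | e1⟩
      · left; rw [e1]; rfl
      · right; rw [e1]; exact hz'
      · exfalso
        rw [e1, hp.sq] at hff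
        exact z1 hff
      · exfalso
        apply z1
        rw [← hff, e1]
        calc z' = (p a * p a) * (z' * z') := by rw [hp.sq, zz, mul_one]
          _ = p a * (p a * z') * z' := by group
          _ = p a * (z' * p a) * z' := by rw [zc (p a)]
          _ = p a * z' * (p a * z') := by group
    have hst : IsStandardSubgroup (M.map (centralizer ({z} : Set G)).subtype) := by
      refine Cfsg.Agent.S1306.result z hz _ hcomp.1 hcomp.2 ?_ ?_
      · intro y hy hyM
        have h1 : y = z := by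
          rcases huniq y hyM (by rw [← pow_two, ← hy, pow_orderOf_eq_one]) with e1 | e1
          · exfalso
            rw [e1, orderOf_one] at hy
            omega
          · exact e1
        rw [h1]
        exact hcomp
      · intro g _ hcomm
        have h1 : (M.map (centralizer ({z} : Set G)).subtype).map (MulAut.conj g).toMonoidHom ≤
            centralizer ((M.map (centralizer ({z} : Set G)).subtype : Subgroup G) : Set G) := by
          rw [← commutator_eq_bot_iff_le_centralizer, commutator_comm]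
          exact hcomm
        have h2 : IsPGroup 2 ((M.map (centralizer ({z} : Set G)).subtype).map (MulAut.conj g).toMonoidHom) :=
          hpg _ fun x hx => hCG x (h1 hx)
        have h3 : IsPGroup 2 M := (h2.of_equiv ((M.map (centralizer ({z} : Set G)).subtype).equivMapOfInjective
          (MulAut.conj g).toMonoidHom (MulAut.conj g).injective).symm).of_equiv
          (M.equivMapOfInjective _ (centralizer ({z} : Set G)).subtype_injective).symm
        have : Fact (Nat.Prime 2) := ⟨Nat.prime_two⟩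
        have hnil : Group.IsNilpotent M := h3.isNilpotent
        exact quasisimple_not_isSolvable hM.2 inferInstance
    have hcyc := hcy _ (Main.std0_of_standard hGW C hst) (rank_one hz huniq)
    have hCp : IsPGroup 2 ↥(centralizer ((M.map (centralizer ({z} : Set G)).subtype : Subgroup G) : Set G)) :=
      hpg _ hCG
    have key : ∀ x ∈ Q, ∀ y ∈ Q, x * y = y * x := fun x hx y hy =>
      Subtype.ext (comm_of_cyc hcyc hCp (hCG' x hx) (hCG' y hy))
    have h1 := key _ (hp.mem 0) _ (hp.mem 1)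
    rw [hp.comm 0 1 (by decide)] at h1
    exact z1 (mul_eq_left.1 h1)

/-- **the case `R ≤ M`** -/
theorem false_of (hGW : SylowSp4.Hyps.GW.{u}) (I : Intr2.{u}) (hS : CaseM.IntrSign.{u}) (C : Ctx G)
    (hcy : ∀ K : Subgroup G, Std0 G K → PRankLE 2 1 ↥(centralizer (K : Set G)) → Cyc K)
    {z : G} (hz : orderOf z = 2) {z' t' a₁ a₂ : ↥(centralizer ({z} : Set G))} (hz' : (z' : G) = z)
    {Q₁ Q₂ : Subgroup ↥(centralizer ({z} : Set G))} (h : HypB z' t' a₁ a₂ Q₁ Q₂)
    (hf : ∃ q₁ ∈ Q₁, ∃ q₂ ∈ Q₂, q₁ * q₁ = z' ∧ q₂ * q₂ = z' ∧ ∃ g : G, g * z * g⁻¹ = (q₁ : G) * q₂)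
    {M : Subgroup ↥(centralizer ({z} : Set G))} (hM : IsComponent M) (h1 : Q₁ ≤ M) (h2 : Q₂ ≤ M) : False := by
  have hfin := C.fin
  obtain ⟨q₁, hq₁, q₂, hq₂, hqq₁, hqq₂, g, hg⟩ := hf
  have hMn : M.Normal := normal h hM h1 h2 (DirG.grow C.bal hz hz' h hq₁ hq₂ hqq₁ hqq₂ hg)
  have hzM : z' ∈ M := h1 h.s₁.zQ
  have hzM' : (⟨z, mem_centralizer_singleton_iff.2 rfl⟩ : ↥(centralizer ({z} : Set G))) ∈ M := by
    have : (⟨z, mem_centralizer_singleton_iff.2 rfl⟩ : ↥(centralizer ({z} : Set G))) = z' := Subtype.ext hz'.symm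
    rwa [this]
  by_cases htM : t' ∈ M ⊔ centralizer (M : Set ↥(centralizer ({z} : Set G)))
  swap
  · exact CaseC.EndComp.false_of_out_sign C hGW hS hz hM hMn hzM' h.tt (no_lam h) htM
  rcases main h hM h1 h2 hMn htM with hca | ⟨c, -, hc⟩ | ⟨Q, hQn, hzQ, -, ⟨e⟩, hQM, hQC⟩ | ⟨m, c, x, d⟩
  · exact no_CA hGW C hz hz' hca
  · refine CaseC.EndComp.false_of_cent I C hz hM hzM' (y := c) fun f hf => ?_
    rw [mem_centralizer_iff] at hf
    exact hc f fun y hy => (hf y hy).symm
  · exact no_Q8 hGW C hcy hz hz' hM hMn hzM hQn hzQ e hQM hQC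
  · exact DirG.no_DE (Front.FE.index_ne_two C) hz' h hM h1 h2 hMn d

end Cfsg.Agent.OddHalf.D6.QThree.NIB.DirEnd
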