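import Cfsg.Agent.OddHalf.D6.QThree.NIB.Dir
import Cfsg.Agent.OddHalf.D6.QThree.NIB.DEight
import Cfsg.Agent.OddHalf.D3.Plug

/-!
# ODD half, D6, `q = 3`, NI with `B`: the case `R ≤ M`, in `G` (text of helper801, bb #14694, (5.1), (5.2), (5.3))

`X = C_G(z)`. `grow` (L-balance): a component of `X` centralised by `Q₁`, `Q₂` is smaller than some component of `X`, if
an involution `q₁ q₂` of `R` is conjugate to `z`. `no_DE`: the case `C(M) = D₈` does not occur.
-/

set_option autoImplicit false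

namespace Cfsg.Agent.OddHalf.D6.QThree.NIB.DirG

open Subgroup Cfsg
open Cfsg.Agent.OddHalf
open Cfsg.Agent.SignalizersComponents.Components
open Cfsg.Agent.OddHalf.D6.QThree.NISide
open Cfsg.Agent.OddHalf.D6.QThree.NIB.Dir

section X

theorem pow4 {X : Type*} [Group X] (f : X) : f ^ 4 = (f * f) * (f * f) := by
  rw [← pow_two, ← pow_two, ← pow_mul]

variable {X : Type*} [Group X] {z t a₁ a₂ : X} {Q₁ Q₂ : Subgroup X}

/-- the two factors meet in `⟨z⟩` -/
theorem prod_ne (h : HypB z t a₁ a₂ Q₁ Q₂) {x y : X} (hx : x ∈ Q₁) (hy : y ∈ Q₂) (hxx : x * x = z)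
    (e : x * y = 1 ∨ x * y = z) : False := by
  have hx2 : x ∈ Q₂ := by
    rcases e with e | e
    · rw [eq_inv_of_mul_eq_one_left e]; exact Q₂.inv_mem hy
    · have : x = z * y⁻¹ := by rw [← e, mul_inv_cancel_right]
      rw [this]; exact Q₂.mul_mem h.s₂.zQ (Q₂.inv_mem hy)
  have hx1 : x ≠ 1 := by
    rintro rfl
    rw [one_mul] at hxx; exact h.z1 hxx.symm
  have hxz : x ≠ z := by
    rintro rfl
    rw [h.zz] at hxx; exact h.z1 hxx.symm
  exact h.s₁.act x hx hx1 hxz (h.comm _ (h.s₁.aQ x hx) x hx2).symm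

/-- the elements of `B` which centralise `D₈` -/
theorem hB_of (h : HypB z t a₁ a₂ Q₁ Q₂) {M : Subgroup X} {m c x y : X} (d : DE z t Q₁ Q₂ M m c x)
    (hyx : y * x = x * y) (hyc : y * c = c * y) (hym : y * m = m * y) (hy₁ : ∀ q ∈ Q₁, y * q = q * y)
    (hy₂ : ∀ q ∈ Q₂, y * q = q * y) : y = 1 ∨ y = z ∨ y = m ∨ y = m * z := by
  have cyx : Commute y x := hyx
  have cyc : Commute y c := hyc
  have cym : Commute y m := hym
  have cmx : Commute m x := (d.xM m d.mM).symm
  have hyt : y * t = t * y := by rw [d.tmc]; exact (cym.mul_right cyc).eq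
  have htx : ¬ t * x = x * t := by
    intro e
    have h1 : t * x * t⁻¹ = x := by rw [e, mul_inv_cancel_right]
    have h2 : t * x * t⁻¹ = x * z := by
      rw [d.tmc]
      calc m * c * x * (m * c)⁻¹ = m * (c * x * c⁻¹) * m⁻¹ := by group
        _ = m * x * z * m⁻¹ := by rw [d.cx]; group
        _ = x * m * z * m⁻¹ := by rw [cmx.eq]
        _ = x * (z * m) * m⁻¹ := by rw [← h.zc m]; group
        _ = x * z := by group
    rw [h1] at h2
    exact h.z1 (mul_eq_left.1 h2.symm)
  have hBy : Bt t Q₁ Q₂ y := ⟨hyt, hy₁, hy₂⟩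
  -- elements of `⟨t, z⟩` commuting with `x`
  have key : ∀ w : X, T4 z t w → w * x = x * w → w = 1 ∨ w = z := by
    intro w hw hwx
    rcases hw with e | e | e | e
    · exact Or.inl e
    · exact Or.inr e
    · exfalso; apply htx; rw [← e]; exact hwx
    · exfalso; apply htx
      have e1 : t = w * z := by rw [e, mul_assoc, h.zz, mul_one]
      have c1 : Commute w x := hwx
      have c2 : Commute z x := (h.zc x).symm
      rw [e1]; exact (c1.mul_left c2).eq
  have hmy : ∀ w, m⁻¹ * y = w → y = m * w := fun w e => by rw [← e, mul_inv_cancel_left]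
  by_cases hF : T4 z t y
  · rcases key y hF hyx with e | e
    · exact Or.inl e
    · exact Or.inr (Or.inl e)
  rcases key _ (h.Bsq y hBy) (cyx.mul_left cyx).eq with e | e
  · exfalso
    apply hF
    have hBw : Bt t Q₁ Q₂ (m * y) := by
      refine ⟨?_, fun q hq => ?_, fun q hq => ?_⟩
      · exact ((show Commute m t from d.Bm.1).mul_left (show Commute y t from hyt)).eq
      · exact ((show Commute m q from d.Bm.2.1 q hq).mul_left (show Commute y q from hy₁ q hq)).eq
      · exact ((show Commute m q from d.Bm.2.2 q hq).mul_left (show Commute y q from hy₂ q hq)).eq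
    have hww : m * y * (m * y) = z := by
      calc m * y * (m * y) = m * (y * m) * y := by group
        _ = m * (m * y) * y := by rw [hym]
        _ = (m * m) * (y * y) := by group
        _ = z := by rw [e, d.mm, mul_one]
    have := h.Bu m (m * y) d.Bm hBw d.mm hww
    rwa [inv_mul_cancel_left] at this
  · have h1 := h.Bu m y d.Bm hBy d.mm e
    rcases key _ h1 (cmx.inv_left.mul_left cyx).eq with e' | e'
    · right; right; left; rw [hmy _ e', mul_one]
    · right; right; right; exact hmy _ e'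

/-- `C(M)` is a 2-group -/
theorem sq_of (h : HypB z t a₁ a₂ Q₁ Q₂) {M : Subgroup X} {m c x : X} (d : DE z t Q₁ Q₂ M m c x) {f : X}
    (hf : ∀ y ∈ M, f * y = y * f) : f ^ 4 = 1 := by
  have key : f * f = 1 ∨ f * f = z := by
    have hz : ∀ a : X, a * z * (a * z) = a * a := by
      intro a
      calc a * z * (a * z) = a * (z * a) * z := by group
        _ = a * (a * z) * z := by rw [h.zc a]
        _ = a * a * (z * z) := by group
        _ = a * a := by rw [h.zz, mul_one]
    have hcx : c * x * (c * x) = 1 := by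
      calc c * x * (c * x) = (c * x * c⁻¹) * (c * c) * x := by group
        _ = x * z * z * x := by rw [d.cx, d.cc]
        _ = x * (z * z) * x := by group
        _ = 1 := by rw [h.zz, mul_one, d.xx]
    rcases d.el f hf with e | e | e | e | e | e | e | e <;> rw [e]
    · left; rw [one_mul]
    · left; exact h.zz
    · right; exact d.cc
    · right; rw [hz]; exact d.cc
    · left; exact d.xx
    · left; rw [hz]; exact d.xx
    · left; exact hcx
    · left; rw [hz]; exact hcx
  rw [pow4]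
  rcases key with e | e <;> rw [e]
  · rw [one_mul]
  · exact h.zz

end X

universe u

variable {G : Type u} [Group G]

/-- a component of `X` which centralises `Q₁ Q₂` is smaller than some other component -/
theorem grow [Finite G] (hb : D3.Plug.Bal G) {z : G} (hz : orderOf z = 2)
    {z' t' a₁ a₂ : ↥(centralizer ({z} : Set G))} (hz' : (z' : G) = z)
    {Q₁ Q₂ : Subgroup ↥(centralizer ({z} : Set G))} (h : HypB z' t' a₁ a₂ Q₁ Q₂)
    {q₁ q₂ : ↥(centralizer ({z} : Set G))} (hq₁ : q₁ ∈ Q₁) (hq₂ : q₂ ∈ Q₂) (hqq₁ : q₁ * q₁ = z')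
    (hqq₂ : q₂ * q₂ = z') {g : G} (hg : g * z * g⁻¹ = (q₁ : G) * q₂)
    (L : Subgroup ↥(centralizer ({z} : Set G))) (hL : IsComponent L)
    (hL₁ : ∀ m ∈ L, ∀ x ∈ Q₁, m * x = x * m) (hL₂ : ∀ m ∈ L, ∀ x ∈ Q₂, m * x = x * m) :
    ∃ L' : Subgroup ↥(centralizer ({z} : Set G)), IsComponent L' ∧ Nat.card L < Nat.card L' := by
  set y : (centralizer ({z} : Set G)) := q₁ * q₂ with hy
  have hyy : y * y = 1 := by
    calc y * y = q₁ * (q₂ * q₁) * q₂ := by rw [hy]; group
      _ = q₁ * (q₁ * q₂) * q₂ := by rw [← h.comm q₁ hq₁ q₂ hq₂]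
      _ = (q₁ * q₁) * (q₂ * q₂) := by group
      _ = 1 := by rw [hqq₁, hqq₂, h.zz]
  have hy1 : y ≠ 1 := fun e => prod_ne h hq₁ hq₂ hqq₁ (Or.inl e)
  have hyz : y ≠ z' := fun e => prod_ne h hq₁ hq₂ hqq₁ (Or.inr e)
  have hyo : orderOf (y : G) = 2 := by
    rw [Subgroup.orderOf_coe]
    exact orderOf_eq_prime (by rw [pow_two, hyy]) hy1
  have hyL : ∀ m ∈ L, m * y = y * m := by
    intro m hm
    have c1 : Commute m q₁ := hL₁ m hm q₁ hq₁
    have c2 : Commute m q₂ := hL₂ m hm q₂ hq₂
    exact (c1.mul_right c2).eq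
  have hyL' : (y : G) ∈ centralizer ((L.map (centralizer ({z} : Set G)).subtype : Subgroup G) : Set G) := by
    rw [mem_centralizer_iff]
    rintro _ ⟨m, hm, rfl⟩
    exact congrArg Subtype.val (hyL m hm)
  have hzy : z * (y : G) = y * z := (mem_centralizer_singleton_iff.1 y.2).symm
  obtain ⟨D, hD, hcase⟩ := D3.Plug.exists_pump hb hz (D3.comp_map hL) hyo hzy hyL'
  have hD' := hD.conj g⁻¹
  have e1 : g⁻¹ * (y : G) * g⁻¹⁻¹ = z := by
    have : (y : G) = g * z * g⁻¹ := hg.symm
    rw [this]; group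
  rw [e1] at hD'
  have hyD : (y : G) ∈ D := by
    have h1 : z' ∈ (D3.cj g⁻¹ D).subgroupOf (centralizer ({z} : Set G)) := h.zM _ hD'.comp
    rw [mem_subgroupOf, hz', D3.mem_cj] at h1
    have e2 : g⁻¹⁻¹ * z * g⁻¹ = (y : G) := by rw [inv_inv, hg]; rfl
    rwa [e2] at h1
  refine ⟨(D3.cj g⁻¹ D).subgroupOf (centralizer ({z} : Set G)), hD'.comp, ?_⟩
  have hc1 : Nat.card ↥((D3.cj g⁻¹ D).subgroupOf (centralizer ({z} : Set G))) = Nat.card D := by
    rw [Nat.card_congr (Subgroup.subgroupOfEquivOfLe hD'.le).toEquiv, D3.card_cj]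
  have hc2 : Nat.card ↥(L.map (centralizer ({z} : Set G)).subtype) = Nat.card L :=
    Nat.card_congr (L.equivMapOfInjective _ (centralizer ({z} : Set G)).subtype_injective).toEquiv.symm
  rw [hc1, ← hc2]
  rcases hcase with e | hlt | ⟨h4, -, h6⟩
  · exfalso
    have hyLm : y ∈ L := by
      have h1 : (y : G) ∈ L.map (centralizer ({z} : Set G)).subtype := by rw [e]; exact hyD
      obtain ⟨y0, hy0, e0⟩ := h1
      have : y0 = y := Subtype.ext e0
      rwa [this] at hy0
    have hyl : ∀ x ∈ layer ↥(centralizer ({z} : Set G)), y * x = x * y := by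
      intro x hx
      have h1 : layer ↥(centralizer ({z} : Set G)) ≤ centralizer ({y} : Set ↥(centralizer ({z} : Set G))) := by
        rw [layer_le_iff]
        intro K hK k hk
        rw [mem_centralizer_singleton_iff]
        by_cases e : K = L
        · subst e; exact hyL k hk
        · exact Cfsg.Agent.Cit.Comp.comm_of_ne hK hL e hk hyLm
      exact (mem_centralizer_singleton_iff.1 (h1 hx)).symm
    have hLn : (layer ↥(centralizer ({z} : Set G))).Normal := layer_normal ↥(centralizer ({z} : Set G))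
    let W : Subgroup ↥(centralizer ({z} : Set G)) :=
      { carrier := {w | w ∈ layer ↥(centralizer ({z} : Set G)) ∧ (∀ x ∈ layer ↥(centralizer ({z} : Set G)), w * x = x * w) ∧ w * w = 1}
        one_mem' := ⟨one_mem _, fun x _ => by rw [one_mul, mul_one], one_mul 1⟩
        mul_mem' := by
          rintro a b ⟨ha, ha', haa⟩ ⟨hb, hb', hbb⟩
          refine ⟨mul_mem ha hb, fun x hx => ?_, ?_⟩
          · have c1 : Commute a x := ha' x hx
            have c2 : Commute b x := hb' x hx
            exact (c1.mul_left c2).eq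
          · calc a * b * (a * b) = a * (b * a) * b := by group
              _ = a * (a * b) * b := by rw [ha' b hb]
              _ = (a * a) * (b * b) := by group
              _ = 1 := by rw [haa, hbb, one_mul]
        inv_mem' := by
          rintro a ⟨ha, ha', haa⟩
          have e : a⁻¹ = a := inv_eq_of_mul_eq_one_right haa
          rw [e]
          exact ⟨ha, ha', haa⟩ }
    have hWn : W.Normal := by
      refine ⟨?_⟩
      rintro w ⟨hw, hw', hww⟩ g
      refine ⟨hLn.conj_mem w hw g, fun x hx => ?_, ?_⟩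
      · have h1 : g⁻¹ * x * g ∈ layer ↥(centralizer ({z} : Set G)) := by
          have := hLn.conj_mem x hx g⁻¹
          rwa [inv_inv] at this
        have h2 := hw' _ h1
        calc g * w * g⁻¹ * x = g * (w * (g⁻¹ * x * g)) * g⁻¹ := by group
          _ = g * ((g⁻¹ * x * g) * w) * g⁻¹ := by rw [h2]
          _ = x * (g * w * g⁻¹) := by group
      · calc g * w * g⁻¹ * (g * w * g⁻¹) = g * (w * w) * g⁻¹ := by group
          _ = 1 := by rw [hww]; group
    rcases h.elem W hWn (fun w hw => hw.2.2) y ⟨component_le_layer hL hyLm, hyl, hyy⟩ with e | e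
    · exact hy1 e
    · exact hyz e
  · exact lt_of_le_of_ne (Subgroup.card_le_of_le hlt.le)
      fun e => hlt.ne (Subgroup.eq_of_le_of_card_ge hlt.le e.ge)
  · exfalso
    obtain ⟨d, hd, hzd⟩ := h6 z ⟨z', h.zM L hL, hz'⟩
    apply h4
    have h7 : D3.Comp (y : G) (D3.cj z D) := hD.conj_of_comm hzy
    have h8 : D3.cj z D ≤ centralizer (D : Set G) := h7.comm hD h4
    have h9 : D3.cj (z * d * z⁻¹) D = D := D3.cj_eq_of_mem_centralizer (h8 (D3.conj_mem_cj hd))
    conv_lhs => rw [hzd]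
    rw [← D3.cj_cj, h9]
    exact D3.cj_eq_of_mem hd

/-- **the case `C(M) = D₈`** -/
theorem no_DE [Finite G] (hG : ∀ H : Subgroup G, H.index ≠ 2) {z : G}
    {z' t' a₁ a₂ : ↥(centralizer ({z} : Set G))} (hz' : (z' : G) = z)
    {Q₁ Q₂ : Subgroup ↥(centralizer ({z} : Set G))} (h : HypB z' t' a₁ a₂ Q₁ Q₂)
    {M : Subgroup ↥(centralizer ({z} : Set G))} (hM : IsComponent M) (h1 : Q₁ ≤ M) (h2 : Q₂ ≤ M) (hMn : M.Normal)
    {m c x : ↥(centralizer ({z} : Set G))} (d : DE z' t' Q₁ Q₂ M m c x) : False := by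
  set F' : Subgroup ↥(centralizer ({z} : Set G)) := centralizer (M : Set ↥(centralizer ({z} : Set G))) with hF'
  have hFm : ∀ f, f ∈ F' ↔ ∀ y ∈ M, f * y = y * f := by
    intro f
    rw [hF', mem_centralizer_iff]
    exact ⟨fun h3 y hy => (h3 y hy).symm, fun h3 y hy => (h3 y hy).symm⟩
  have hFn : ∀ g : ↥(centralizer ({z} : Set G)), ∀ f ∈ F', g * f * g⁻¹ ∈ F' := by
    intro g f hf
    rw [hFm] at hf ⊢
    intro y hy
    have h3 : g⁻¹ * y * g ∈ M := by
      have := hMn.conj_mem y hy g⁻¹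
      rwa [inv_inv] at this
    have h4 := hf _ h3
    calc g * f * g⁻¹ * y = g * (f * (g⁻¹ * y * g)) * g⁻¹ := by group
      _ = g * ((g⁻¹ * y * g) * f) * g⁻¹ := by rw [h4]
      _ = y * (g * f * g⁻¹) := by group
  have hFp : ∀ K : Subgroup G, (∀ k ∈ K, ∃ f ∈ F', (f : G) = k) → IsPGroup 2 K := by
    rintro K hK ⟨k, hk⟩
    obtain ⟨f, hf, rfl⟩ := hK k hk
    have h3 : (f : G) ^ 4 = 1 := congrArg Subtype.val (sq_of h d ((hFm f).1 hf))
    refine ⟨2, Subtype.ext ?_⟩
    exact h3
  have hzM : z' ∈ M := h1 h.s₁.zQ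
  have hzc : ∀ a : ↥(centralizer ({z} : Set G)), (a : G) * z = z * a := fun a => mem_centralizer_singleton_iff.1 a.2
  set F : Subgroup G := F'.map (centralizer ({z} : Set G)).subtype with hF
  have hzz : z * z = 1 := by
    have := congrArg Subtype.val h.zz
    rw [← hz']; exact this
  have hz1 : z ≠ 1 := fun e => h.z1 (Subtype.ext (hz'.trans e))
  have hxx : (x : G) * x = 1 := congrArg Subtype.val d.xx
  have hcc : (c : G) * c = z := (congrArg Subtype.val d.cc).trans hz'
  have hcx : (c : G) * x * (c : G)⁻¹ = x * z :=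
    (congrArg Subtype.val d.cx).trans (congrArg (fun w : G => (x : G) * w) hz')
  have hmm : (m : G) * m = z := (congrArg Subtype.val d.mm).trans hz'
  have D : DEight.Di z (c : G) x F :=
    { zz := hzz
      z1 := hz1
      xx := hxx
      x1 := by
        intro e
        rw [e, mul_one, mul_inv_cancel, one_mul] at hcx
        exact hz1 hcx.symm
      xz := by
        intro e
        rw [e, hzz, mul_inv_eq_one] at hcx
        apply hz1
        have : (c : G) * z = c * 1 := by rw [hcx, mul_one]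
        exact mul_left_cancel this
      cc := hcc
      cx := hcx
      xF := ⟨x, (hFm x).2 d.xM, rfl⟩
      cF := ⟨c, (hFm c).2 d.cM, rfl⟩
      el := by
        rintro _ ⟨f, hf, rfl⟩
        have := d.el f ((hFm f).1 hf)
        simp only [Subtype.ext_iff, Subgroup.coe_mul, Subgroup.coe_one, hz'] at this
        exact this
      nor := by
        rintro g hg _ ⟨f, hf, rfl⟩
        exact ⟨⟨g, mem_centralizer_singleton_iff.2 hg⟩ * f * ⟨g, mem_centralizer_singleton_iff.2 hg⟩⁻¹, hFn _ f hf, rfl⟩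
      Fz := by
        rintro _ ⟨f, -, rfl⟩
        exact hzc f }
  set R : Subgroup G := (Q₁ ⊔ Q₂).map (centralizer ({z} : Set G)).subtype with hR
  have hRm : ∀ r ∈ R, ∃ q ∈ Q₁, ∃ q' ∈ Q₂, r = (q : G) * q' := by
    rintro _ ⟨r, hr, rfl⟩
    obtain ⟨a, ha, b, hb, e⟩ := Cfsg.Agent.Cit.Comp.mem_sup_comm h.comm hr
    exact ⟨a, ha, b, hb, by rw [← e]; rfl⟩
  have hQR : ∀ q ∈ Q₁, (q : G) ∈ R := fun q hq => ⟨q, mem_sup_left hq, rfl⟩
  have hQR' : ∀ q ∈ Q₂, (q : G) ∈ R := fun q hq => ⟨q, mem_sup_right hq, rfl⟩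
  have hRc : ∀ y : ↥(centralizer ({z} : Set G)), (∀ q ∈ Q₁, y * q = q * y) → (∀ q ∈ Q₂, y * q = q * y) → ∀ r ∈ R, (y : G) * r = r * y := by
    intro y hy hy' r hr
    obtain ⟨q, hq, q', hq', rfl⟩ := hRm r hr
    have c1 : Commute (y : G) q := congrArg Subtype.val (hy q hq)
    have c2 : Commute (y : G) q' := congrArg Subtype.val (hy' q' hq')
    exact (c1.mul_right c2).eq
  have hRp : IsPGroup 2 R := by
    rintro ⟨r, hr⟩
    obtain ⟨q, hq, q', hq', e⟩ := hRm r hr
    have hq4 : ∀ {a : ↥(centralizer ({z} : Set G))} {Q E : Subgroup ↥(centralizer ({z} : Set G))} {v : ↥(centralizer ({z} : Set G))}, Side z' t' v Q E → a ∈ Q → a ^ 4 = 1 := by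
      intro a Q E v s ha
      rw [pow4]
      by_cases ha1 : a = 1
      · rw [ha1, one_mul, one_mul]
      by_cases haz : a = z'
      · rw [haz, h.zz, one_mul]
      · rw [s.sq a ha ha1 haz, h.zz]
    have c1 : Commute (q : G) q' := congrArg Subtype.val (h.comm q hq q' hq')
    have h3 : (q : G) ^ 4 = 1 := congrArg Subtype.val (hq4 h.s₁ hq)
    have h4 : (q' : G) ^ 4 = 1 := congrArg Subtype.val (hq4 h.s₂ hq')
    refine ⟨2, Subtype.ext ?_⟩
    show r ^ 2 ^ 2 = 1
    rw [e, show (2 : ℕ) ^ 2 = 4 from rfl, c1.mul_pow, h3, h4, one_mul]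
  refine D.false hG (m := (m : G)) (R := R) ?_ (hzc m) (congrArg Subtype.val (d.xM m d.mM)) hmm hRp
    (hRc x (fun q hq => d.xM q (h1 hq)) fun q hq => d.xM q (h2 hq))
    (fun r hr => by
      have := hRc z' (fun q _ => (h.zc q).symm) (fun q _ => (h.zc q).symm) r hr
      rwa [hz'] at this)
    (hRc m d.Bm.2.1 d.Bm.2.2) (hFp F (by
      rintro _ ⟨f, hf, rfl⟩
      exact ⟨f, hf, rfl⟩)) ?_
  · intro y hyz hyx hyc hym hyR
    set y' : ↥(centralizer ({z} : Set G)) := ⟨y, mem_centralizer_singleton_iff.2 hyz⟩ with hy'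
    have := hB_of h d (y := y') (Subtype.ext hyx) (Subtype.ext hyc) (Subtype.ext hym)
      (fun q hq => Subtype.ext (hyR q (hQR q hq))) (fun q hq => Subtype.ext (hyR q (hQR' q hq)))
    simp only [Subtype.ext_iff, Subgroup.coe_mul, Subgroup.coe_one, hz', hy'] at this
    exact this
  · -- `z^g ≠ z x`
    intro g hgx hgz
    set MG : Subgroup G := M.map (centralizer ({z} : Set G)).subtype with hMG
    have hMGle : MG ≤ (centralizer ({z} : Set G)) := map_subtype_le M
    have hMGq : IsQuasisimple MG := isQuasisimple_of_mulEquiv (M.equivMapOfInjective _ (centralizer ({z} : Set G)).subtype_injective) hM.2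
    set U : Subgroup G := centralizer ({(x : G)} : Set G) ⊓ (centralizer ({z} : Set G)) with hU
    have hUm : ∀ u, u ∈ U ↔ u * x = x * u ∧ u * z = z * u := by
      intro u
      rw [hU, mem_inf, mem_centralizer_singleton_iff, mem_centralizer_singleton_iff]
    have hgz' : g⁻¹ * z * g = z * x := by
      have h3 : g * (z * x) * g⁻¹ = z := by
        calc g * (z * x) * g⁻¹ = (g * z * g⁻¹) * (g * x * g⁻¹) := by group
          _ = z * x * x := by rw [hgz, hgx, mul_inv_cancel_right]
          _ = z := by rw [mul_assoc, hxx, mul_one]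
      calc g⁻¹ * z * g = g⁻¹ * (g * (z * x) * g⁻¹) * g := by rw [h3]
        _ = z * x := by group
    have hgx' : g⁻¹ * x * g = x := by
      rw [mul_assoc, ← hgx, inv_mul_cancel_left]
    have hUn : ∀ u ∈ U, g⁻¹ * u * g ∈ U := by
      intro u hu
      rw [hUm] at hu ⊢
      have c1 : Commute u (x : G) := hu.1
      have c2 : Commute u z := hu.2
      refine ⟨?_, ?_⟩
      · calc g⁻¹ * u * g * x = g⁻¹ * u * (g * x) := by group
          _ = g⁻¹ * (u * x) * g := by rw [hgx]; group
          _ = g⁻¹ * (x * u) * g := by rw [c1.eq]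
          _ = (g⁻¹ * x * g) * (g⁻¹ * u * g) := by group
          _ = x * (g⁻¹ * u * g) := by rw [hgx']
      · have h3 : g⁻¹ * (z * x) * g = z := by
          calc g⁻¹ * (z * x) * g = (g⁻¹ * z * g) * (g⁻¹ * x * g) := by group
            _ = z * x * x := by rw [hgz', hgx']
            _ = z := by rw [mul_assoc, hxx, mul_one]
        calc g⁻¹ * u * g * z = g⁻¹ * u * g * (g⁻¹ * (z * x) * g) := by rw [h3]
          _ = g⁻¹ * (u * (z * x)) * g := by group
          _ = g⁻¹ * ((z * x) * u) * g := by rw [(c2.mul_right c1).eq]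
          _ = (g⁻¹ * (z * x) * g) * (g⁻¹ * u * g) := by group
          _ = z * (g⁻¹ * u * g) := by rw [h3]
    have hUn' : ∀ u ∈ U, g * u * g⁻¹ ∈ U := by
      intro u hu
      rw [hUm] at hu ⊢
      have c1 : Commute u (x : G) := hu.1
      have c2 : Commute u z := hu.2
      have h4 : g * x * g⁻¹ = x := by rw [hgx, mul_inv_cancel_right]
      refine ⟨?_, ?_⟩
      · calc g * u * g⁻¹ * x = g * u * g⁻¹ * (g * x * g⁻¹) := by rw [h4]
          _ = g * (u * x) * g⁻¹ := by group
          _ = g * (x * u) * g⁻¹ := by rw [c1.eq]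
          _ = (g * x * g⁻¹) * (g * u * g⁻¹) := by group
          _ = x * (g * u * g⁻¹) := by rw [h4]
      · have h3 : g * (z * x) * g⁻¹ = z := by
          calc g * (z * x) * g⁻¹ = (g * z * g⁻¹) * (g * x * g⁻¹) := by group
            _ = z * x * x := by rw [hgz, h4]
            _ = z := by rw [mul_assoc, hxx, mul_one]
        calc g * u * g⁻¹ * z = g * u * g⁻¹ * (g * (z * x) * g⁻¹) := by rw [h3]
          _ = g * (u * (z * x)) * g⁻¹ := by group
          _ = g * ((z * x) * u) * g⁻¹ := by rw [(c2.mul_right c1).eq]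
          _ = (g * (z * x) * g⁻¹) * (g * u * g⁻¹) := by group
          _ = z * (g * u * g⁻¹) := by rw [h3]
    have hMU : MG ≤ U := by
      rintro _ ⟨a, ha, rfl⟩
      rw [hUm]
      exact ⟨(congrArg Subtype.val (d.xM a ha)).symm, hzc a⟩
    have hMn : ∀ u ∈ U, ∀ a ∈ MG, u * a * u⁻¹ ∈ MG := by
      rintro u hu _ ⟨a, ha, rfl⟩
      exact ⟨⟨u, hu.2⟩ * a * ⟨u, hu.2⟩⁻¹, hMn.conj_mem a ha _, rfl⟩
    set N : Subgroup G := D3.cj g MG with hN
    have hNU : N ≤ U := by
      rintro _ ⟨a, ha, rfl⟩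
      exact hUn' a (hMU ha)
    have hNn : ∀ u ∈ U, ∀ a ∈ N, u * a * u⁻¹ ∈ N := by
      rintro u hu _ ⟨a, ha, rfl⟩
      refine ⟨(g⁻¹ * u * g) * a * (g⁻¹ * u * g)⁻¹, hMn _ (hUn u hu) a ha, ?_⟩
      show g * (g⁻¹ * u * g * a * (g⁻¹ * u * g)⁻¹) * g⁻¹ = u * (g * a * g⁻¹) * u⁻¹
      group
    have hNq : IsQuasisimple N :=
      isQuasisimple_of_mulEquiv (MG.equivMapOfInjective (MulAut.conj g).toMonoidHom (MulAut.conj g).injective) hMGq
    have comp : ∀ K : Subgroup G, K ≤ U → IsQuasisimple K → (∀ u ∈ U, ∀ a ∈ K, u * a * u⁻¹ ∈ K) →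
        IsComponent (K.subgroupOf U) := by
      intro K hKU hKq hKn
      have hn : (K.subgroupOf U).Normal := by
        refine ⟨fun a ha u => ?_⟩
        rw [mem_subgroupOf] at ha ⊢
        exact hKn u u.2 a ha
      exact ⟨hn.isSubnormal, (isQuasisimple_congr (Subgroup.subgroupOfEquivOfLe hKU)).2 hKq⟩
    have hNM : N = MG := by
      by_contra hne
      have hne' : N.subgroupOf U ≠ MG.subgroupOf U := by
        intro e
        apply hne
        have := congrArg (Subgroup.map U.subtype) e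
        rwa [Subgroup.map_subgroupOf_eq_of_le hNU, Subgroup.map_subgroupOf_eq_of_le hMU] at this
      have hcomm := fun (a : ↥U) (ha : (a : G) ∈ N) (b : ↥U) (hb : (b : G) ∈ MG) =>
        Cfsg.Agent.Cit.Comp.comm_of_ne (comp N hNU hNq hNn) (comp MG hMU hMGq hMn) hne' (mem_subgroupOf.2 ha)
          (mem_subgroupOf.2 hb)
      have hNp : IsPGroup 2 N := by
        apply hFp
        intro a ha
        have haH : a ∈ (centralizer ({z} : Set G)) := (hNU ha).2
        refine ⟨⟨a, haH⟩, (hFm _).2 fun b hb => Subtype.ext ?_, rfl⟩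
        have h9 : a * (b : G) = b * a :=
          congrArg Subtype.val (hcomm ⟨a, hNU ha⟩ ha ⟨b, hMU ⟨b, hb, rfl⟩⟩ ⟨b, hb, rfl⟩)
        exact h9
      have : Fact (Nat.Prime 2) := ⟨Nat.prime_two⟩
      have hnil : Group.IsNilpotent N := hNp.isNilpotent
      exact quasisimple_not_isSolvable hNq inferInstance
    have h3 : z * x ∈ MG := by
      rw [← hNM, ← hgz]
      exact D3.conj_mem_cj ⟨z', hzM, hz'⟩
    have h4 : (x : G) ∈ MG := by
      have := MG.mul_mem (⟨z', hzM, hz'⟩ : z ∈ MG) h3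
      rwa [← mul_assoc, hzz, one_mul] at this
    obtain ⟨x0, hx0, e0⟩ := h4
    have e1 : x0 = x := Subtype.ext e0
    rw [e1] at hx0
    have h5 := d.cM x hx0
    have h6 := d.cx
    rw [h5, mul_inv_cancel_right] at h6
    exact h.z1 (mul_eq_left.1 h6.symm)

end Cfsg.Agent.OddHalf.D6.QThree.NIB.DirG
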