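import Cfsg.Agent.OddHalf.D6.QThree.NIB.Alpha
import Cfsg.Agent.OddHalf.D6.QThree.NIB.Two
import Cfsg.Agent.OddHalf.D6.QThree.NIB.DirEnd
import Cfsg.Agent.OddHalf.CaseM.End

/-!
# ODD half, D6, `q = 3`, NI with `B`: the assembly (helper135)

`false_of`: `HypB` with (F) and the trichotomy for the reflections is impossible, if no component contains both `Q₁`
and `Q₂` (helper911's `DirG`).
-/

set_option autoImplicit false

namespace Cfsg.Agent.OddHalf.D6.QThree.NIB.End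

open Subgroup Cfsg
open Cfsg.Agent.OddHalf Cfsg.Agent.OddHalf.Iface
open Cfsg.Agent.OddHalf.CaseM (rank_two compOf_map)
open Cfsg.Agent.Cit (cj mem_cj conj_mem_cj)
open Cfsg.Agent.OddHalf.D6.QThree.NISide
open Cfsg.Agent.OddHalf.D6.QThree.NI.Hyp (CA)

/-- the conjugation by `p` maps `Q₁` onto `Q₂` -/
theorem le_cj {X : Type*} [Group X] {z t a₁ a₂ p : X} {Q₁ Q₂ M : Subgroup X} (s₁ : Side z t a₁ Q₁ Q₂)
    (s₂ : Side z t a₂ Q₂ Q₁) (hp : ∀ x ∈ Q₁, p * x * p⁻¹ ∈ Q₂) (hM : Q₁ ≤ M) : Q₂ ≤ cj p M := by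
  have := s₂.finite
  have h1 : Q₁.map (MulAut.conj p).toMonoidHom = Q₂ := by
    apply Subgroup.eq_of_le_of_card_ge
    · rintro _ ⟨x, hx, rfl⟩
      exact hp x hx
    · rw [s₂.card, ← s₁.card]
      exact (Nat.card_congr (Q₁.equivMapOfInjective _ (MulAut.conj p).injective).toEquiv).le
  rw [← h1]
  rintro _ ⟨x, hx, rfl⟩
  exact conj_mem_cj (hM hx)

universe u

variable {G : Type u} [Group G]

/-- a component with `z` as its only involution -/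
theorem false_of_CA (hGW : SylowSp4.Hyps.GW.{u}) (C : Ctx G) {z : G} (hz : orderOf z = 2)
    {z' : ↥(centralizer ({z} : Set G))} (hz' : (z' : G) = z) (h : CA z') : False := by
  obtain ⟨M₁, hM₁, hzM₁, huniq⟩ := h
  have hcomp := compOf_map hM₁
  refine rank_two C hGW hz hcomp ⟨_, hzM₁, hz'⟩ ?_
  intro E _ hE
  have hEz : ∀ x ∈ E, x = 1 ∨ ((x : ↥(M₁.map (centralizer ({z} : Set G)).subtype)) : G) = z := by
    intro x hx
    obtain ⟨y, hy, hyx⟩ := x.2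
    have h1 : ((x : ↥(M₁.map (centralizer ({z} : Set G)).subtype)) : G) *
        ((x : ↥(M₁.map (centralizer ({z} : Set G)).subtype)) : G) = 1 := by
      have := congrArg Subtype.val (hE x hx)
      rw [pow_two] at this
      exact this
    have hyx' : (y : G) = ((x : ↥(M₁.map (centralizer ({z} : Set G)).subtype)) : G) := hyx
    rcases huniq y hy (Subtype.ext (by
      show (y : G) * y = 1
      rw [hyx']; exact h1)) with e | e
    · left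
      apply Subtype.ext
      rw [← hyx', e]; rfl
    · right
      rw [← hyx', e, hz']
  have hle : E ≤ zpowers (⟨z, ⟨z', hzM₁, hz'⟩⟩ : ↥(M₁.map (centralizer ({z} : Set G)).subtype)) := by
    intro x hx
    rcases hEz x hx with e | e
    · rw [e]; exact one_mem _
    · have : x = ⟨z, ⟨z', hzM₁, hz'⟩⟩ := Subtype.ext e
      rw [this]; exact mem_zpowers _
  have hfin := C.fin
  have hcard := Subgroup.card_le_of_le hle
  rw [Nat.card_zpowers] at hcard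
  have ho : orderOf (⟨z, ⟨z', hzM₁, hz'⟩⟩ : ↥(M₁.map (centralizer ({z} : Set G)).subtype)) = 2 := by
    rw [← Subgroup.orderOf_coe]; exact hz
  rw [ho] at hcard
  exact hcard

/-- **NI with `B`**: the assembly -/
theorem false_of (hGW : SylowSp4.Hyps.GW.{u}) (C : Ctx G) {z : G} (hz : orderOf z = 2)
    {z' t' a₁ a₂ : ↥(centralizer ({z} : Set G))} (hz' : (z' : G) = z)
    {Q₁ Q₂ : Subgroup ↥(centralizer ({z} : Set G))} (h : HypB z' t' a₁ a₂ Q₁ Q₂) (hF : FusT z' t' Q₁ Q₂)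
    (hR : Two.RefTri z' t' Q₁ Q₂)
    (hd : ∀ M : Subgroup ↥(centralizer ({z} : Set G)), IsComponent M → Q₁ ≤ M → Q₂ ≤ M → False) : False := by
  have hfin := C.fin
  obtain ⟨p, hpt, hp₁, hp₂⟩ := h.swap
  -- components `M₁ ≥ Q₁`, `M₂ ≥ Q₂`
  obtain ⟨M₁, M₂, hM₁, hM₂, h1, h2⟩ : ∃ M₁ M₂ : Subgroup ↥(centralizer ({z} : Set G)), IsComponent M₁ ∧
      IsComponent M₂ ∧ Q₁ ≤ M₁ ∧ Q₂ ≤ M₂ := by
    obtain ⟨M, hM, hQ | hQ⟩ := h.exists_comp
    · exact ⟨M, cj p M, hM, Cfsg.Agent.Cit.Comp.isComponent_cj hM p, hQ, le_cj h.s₁ h.s₂ hp₁ hQ⟩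
    · exact ⟨cj p M, M, Cfsg.Agent.Cit.Comp.isComponent_cj hM p, hM, le_cj h.s₂ h.s₁ hp₂ hQ, hQ⟩
  by_cases hne : M₁ = M₂
  · subst hne
    exact hd M₁ hM₁ h1 h2
  · exact false_of_CA hGW C hz hz' (Two.Pr.main ⟨hM₁, hM₂, hne, h1, h2⟩ h hF hR)

/-- **NI with `B`** -/
theorem noComp (hGW : SylowSp4.Hyps.GW.{u}) (I : Intr2.{u}) (hS : CaseM.IntrSign.{u}) (C : Ctx G)
    (hcy : ∀ K : Subgroup G, Std0 G K → PRankLE 2 1 ↥(centralizer (K : Set G)) → Cyc K)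
    {z : G} (hz : orderOf z = 2) {z' t' a₁ a₂ : ↥(centralizer ({z} : Set G))} (hz' : (z' : G) = z)
    {Q₁ Q₂ : Subgroup ↥(centralizer ({z} : Set G))} (h : HypB z' t' a₁ a₂ Q₁ Q₂)
    (hf : ∃ q₁ ∈ Q₁, ∃ q₂ ∈ Q₂, q₁ * q₁ = z' ∧ q₂ * q₂ = z' ∧ ∃ g : G, g * z * g⁻¹ = (q₁ : G) * q₂)
    (hF : FusT z' t' Q₁ Q₂) (hR : Two.RefTri z' t' Q₁ Q₂) : False :=
  false_of hGW C hz hz' h hF hR fun _ hM h1 h2 => DirEnd.false_of hGW I hS C hcy hz hz' h hf hM h1 h2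

end Cfsg.Agent.OddHalf.D6.QThree.NIB.End
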