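import Cfsg.Agent.OddHalf.D6.QThree.NIB.FusB
import Cfsg.Agent.OddHalf.D6.QThree.NIFacts
import Cfsg.Agent.OddHalf.D6.QThree.U43AutKF

/-!
# ODD half, D6, NI with `B`: the fact (K3) on `U₄(3)` (helper801)

`KFK z R`: one class of involutions; `z ∈ O₂(C(u))` iff `u ∈ O₂(C(z))`. `kfk_pr`: `U₄(3)`; `KFK.map`: transport;
`KFK.kf`: `FusB.KF` for `K ≤ G`.
-/

set_option autoImplicit false
set_option linter.unusedSectionVars false
set_option linter.unusedTactic false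
set_option linter.unreachableTactic false

namespace Cfsg.Agent.OddHalf.D6.QThree.NIB.KFOf

open Cfsg
open Cfsg.Agent.OddHalf.D6.QThree.NIFacts

/-- the facts on `K` -/
structure KFK {K : Type*} [Group K] (z : K) (R : Subgroup K) : Prop where
  one : ∀ u : K, u * u = 1 → u ≠ 1 → ∃ k, k * u * k⁻¹ = z
  back : ∀ u ∈ R, u * u = 1 → u ≠ 1 → u ≠ z → ∀ k, k * u * k⁻¹ = z → k * z * k⁻¹ ∈ R
  ex : ∃ u ∈ R, u * u = 1 ∧ u ≠ 1 ∧ u ≠ z

/-! ### transitivity on the involutions of `R - ⟨z⟩` -/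

section model

open Cfsg.Agent.LargeExtra.W2.PlusHom (M mi mj mk ml)
open Cfsg.Agent.LargeExtra.Models Cfsg.Agent.LargeExtra.Pres Cfsg.Agent.LargeExtra.Model
open Cfsg.Agent.OddHalf.D6.QThree.PlusOf

theorem trans_model : ∀ m : M, m * m = 1 → m ≠ 1 → m ≠ zz →
    ∃ n : M, m = n * (mi * mk) * n⁻¹ ∨ m = n * ea (mi * mk) * n⁻¹ ∨ m = n * ea (ea (mi * mk)) * n⁻¹ ∨
      m = n * eb (mi * mk) * n⁻¹ ∨ m = n * ea (eb (mi * mk)) * n⁻¹ ∨ m = n * ea (ea (eb (mi * mk))) * n⁻¹ ∨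
      m = n * eb (eb (mi * mk)) * n⁻¹ ∨ m = n * ea (eb (eb (mi * mk))) * n⁻¹ ∨
      m = n * ea (ea (eb (eb (mi * mk)))) * n⁻¹ := by decide +kernel

theorem trans_model' (m : M) (h1 : m * m = 1) (h2 : m ≠ 1) (h3 : m ≠ zz) :
    ∃ (n : M) (α β : ℕ), m = n * (ea^[α] (eb^[β] (mi * mk))) * n⁻¹ := by
  obtain ⟨n, h | h | h | h | h | h | h | h | h⟩ := trans_model m h1 h2 h3
  exacts [⟨n, 0, 0, h⟩, ⟨n, 1, 0, h⟩, ⟨n, 2, 0, h⟩, ⟨n, 0, 1, h⟩, ⟨n, 1, 1, h⟩, ⟨n, 2, 1, h⟩, ⟨n, 0, 2, h⟩,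
    ⟨n, 1, 2, h⟩, ⟨n, 2, 2, h⟩]

variable {G : Type*} [Group G] {z i j k l a b : G}

theorem iter_a (f : Frame z i j k l a b) (α : ℕ) (m : M) :
    a ^ α * hom f.toQRel m * (a ^ α)⁻¹ = hom f.toQRel (ea^[α] m) := by
  induction α with
  | zero => rw [pow_zero, one_mul, inv_one, mul_one]; rfl
  | succ α ih =>
    rw [Function.iterate_succ_apply', ← f.conj_a, ← ih, pow_succ']
    group

theorem iter_b (f : Frame z i j k l a b) (β : ℕ) (m : M) :
    b ^ β * hom f.toQRel m * (b ^ β)⁻¹ = hom f.toQRel (eb^[β] m) := by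
  induction β with
  | zero => rw [pow_zero, one_mul, inv_one, mul_one]; rfl
  | succ β ih =>
    rw [Function.iterate_succ_apply', ← f.conj_b, ← ih, pow_succ']
    group

/-- `⟨R, a, b⟩` is transitive on the involutions of `R - ⟨z⟩` -/
theorem trans (f : Frame z i j k l a b) {u : G} (hu : u ∈ Subgroup.closure {i, j, k, l}) (uu : u * u = 1)
    (u1 : u ≠ 1) (uz : u ≠ z) : ∃ p, p * z = z * p ∧ p * (i * k) * p⁻¹ = u := by
  have haz : Commute a z := mul_inv_eq_iff_eq_mul.1 f.act_a.z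
  have hbz : Commute b z := mul_inv_eq_iff_eq_mul.1 f.act_b.z
  rw [← hom_range f.toQRel] at hu
  obtain ⟨m, rfl⟩ := hu
  have hz : hom f.toQRel zz = z := hom_zz _
  obtain ⟨n, α, β, e⟩ := trans_model' m (by
    apply hom_injective f.toQRel
    rw [map_mul, uu, map_one]) (fun h => u1 (by rw [h, map_one])) (fun h => uz (by rw [h, hz]))
  have hn : Commute (hom f.toQRel n) z := by
    have h1 : n * zz = zz * n := zz_comm n
    have h2 : hom f.toQRel n * hom f.toQRel zz = hom f.toQRel zz * hom f.toQRel n := by rw [← map_mul, h1, map_mul]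
    rwa [hz] at h2
  refine ⟨hom f.toQRel n * a ^ α * b ^ β, ((hn.mul_left (haz.pow_left α)).mul_left (hbz.pow_left β)).eq, ?_⟩
  have h2 : i * k = hom f.toQRel (mi * mk) := by rw [map_mul, hom_i, hom_k]
  calc hom f.toQRel n * a ^ α * b ^ β * (i * k) * (hom f.toQRel n * a ^ α * b ^ β)⁻¹
      = hom f.toQRel n * (a ^ α * (b ^ β * (i * k) * (b ^ β)⁻¹) * (a ^ α)⁻¹) * (hom f.toQRel n)⁻¹ := by group
    _ = hom f.toQRel m := by
      rw [h2, iter_b f, iter_a f, e, map_mul, map_mul, map_inv]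

/-- the involution `ik` -/
theorem ik (f : Frame z i j k l a b) : (i * k) * (i * k) = 1 ∧ i * k ≠ 1 ∧ i * k ≠ z := by
  have h1 : (mi * mk : M) * (mi * mk) = 1 := by decide +kernel
  have h2 : (mi * mk : M) ≠ 1 := by decide +kernel
  have h3 : (mi * mk : M) ≠ zz := by decide +kernel
  have h4 : i * k = hom f.toQRel (mi * mk) := by rw [map_mul, hom_i, hom_k]
  rw [h4]
  refine ⟨by rw [← map_mul, h1, map_one], fun e => h2 ?_, fun e => h3 ?_⟩
  · apply hom_injective f.toQRel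
    rw [e, map_one]
  · apply hom_injective f.toQRel
    rw [e, hom_zz]

end model

/-! ### `KFK` from one pair -/

theorem kfk_of {K : Type*} [Group K] {z i j k l a b : K} {R : Subgroup K} (hb : Facts.Base z R)
    (f : Frame z i j k l a b) (gR : R = Subgroup.closure {i, j, k, l})
    (one : ∀ u : K, u * u = 1 → u ≠ 1 → ∃ k, k * u * k⁻¹ = z) {u₀ k₀ : K} (hu : u₀ ∈ R) (uu : u₀ * u₀ = 1)
    (u1 : u₀ ≠ 1) (uz : u₀ ≠ z) (h1 : k₀ * u₀ * k₀⁻¹ = z) (h2 : k₀ * z * k₀⁻¹ ∈ R) : KFK z R where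
  one := one
  ex := ⟨u₀, hu, uu, u1, uz⟩
  back := by
    intro u hu' uu' u1' uz' k hk
    subst gR
    obtain ⟨p, hp, e⟩ := trans f hu uu u1 uz
    obtain ⟨p', hp', e'⟩ := trans f hu' uu' u1' uz'
    have h3 : u = (p' * p⁻¹) * u₀ * (p' * p⁻¹)⁻¹ := by rw [← e', ← e]; group
    have hc : Commute (k * (p' * p⁻¹) * k₀⁻¹) z := by
      show k * (p' * p⁻¹) * k₀⁻¹ * z = z * (k * (p' * p⁻¹) * k₀⁻¹)
      have h4 : k₀⁻¹ * z = u₀ * k₀⁻¹ := by rw [← h1]; group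
      calc k * (p' * p⁻¹) * k₀⁻¹ * z = k * (p' * p⁻¹) * (k₀⁻¹ * z) := by group
        _ = k * ((p' * p⁻¹) * u₀ * (p' * p⁻¹)⁻¹) * k⁻¹ * (k * (p' * p⁻¹) * k₀⁻¹) := by rw [h4]; group
        _ = z * (k * (p' * p⁻¹) * k₀⁻¹) := by rw [← h3, hk]
    have h5 := hb.nR _ hc.eq _ h2
    have cp : Commute p z := hp
    have cp' : Commute p' z := hp'
    have h6 : (p' * p⁻¹) * z * (p' * p⁻¹)⁻¹ = z := by
      rw [(cp'.mul_left cp.inv_left).eq]; group
    have h7 : k * (p' * p⁻¹) * k₀⁻¹ * (k₀ * z * k₀⁻¹) * (k * (p' * p⁻¹) * k₀⁻¹)⁻¹ = k * z * k⁻¹ := by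
      calc k * (p' * p⁻¹) * k₀⁻¹ * (k₀ * z * k₀⁻¹) * (k * (p' * p⁻¹) * k₀⁻¹)⁻¹ =
          k * ((p' * p⁻¹) * z * (p' * p⁻¹)⁻¹) * k⁻¹ := by group
        _ = k * z * k⁻¹ := by rw [h6]
    rwa [h7] at h5

/-- transport -/
theorem KFK.map {K L : Type*} [Group K] [Group L] {z : K} {R : Subgroup K} (h : KFK z R) (e : K ≃* L) :
    KFK (e z) (R.map e.toMonoidHom) where
  one := by
    intro u uu u1
    obtain ⟨u, rfl⟩ := e.surjective u
    obtain ⟨k, hk⟩ := h.one u (e.injective (by rw [map_mul, uu, map_one])) (fun h1 => u1 (by rw [h1, map_one]))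
    exact ⟨e k, by rw [← map_inv, ← map_mul, ← map_mul, hk]⟩
  back := by
    rintro _ ⟨u, hu, rfl⟩ uu u1 uz k hk
    obtain ⟨k, rfl⟩ := e.surjective k
    have e1 : e.toMonoidHom u = e u := rfl
    rw [e1] at uu u1 uz hk
    refine ⟨k * z * k⁻¹, h.back u hu (e.injective (by rw [map_mul, uu, map_one])) (fun h1 => u1 (by rw [h1, map_one]))
      (fun h1 => uz (by rw [h1])) k (e.injective (by rw [map_mul, map_mul, map_inv, hk])), ?_⟩
    show e (k * z * k⁻¹) = e k * e z * (e k)⁻¹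
    rw [map_mul, map_mul, map_inv]
  ex := by
    obtain ⟨u, hu, uu, u1, uz⟩ := h.ex
    refine ⟨e u, ⟨u, hu, rfl⟩, by rw [← map_mul, uu, map_one], fun h1 => u1 (e.injective (by rw [h1, map_one])),
      fun h1 => uz (e.injective h1)⟩

/-- `FusB.KF` -/
theorem KFK.kf {G : Type*} [Group G] {K : Subgroup G} {z : K} {R : Subgroup K} (h : KFK z R) {t : G}
    (zz : z * z = 1) (z1 : z ≠ 1) (Kt : ∀ k ∈ K, k * t = t * k) : FusB.KF t (z : G) K (R.map K.subtype) where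
  zz := congrArg Subtype.val zz
  z1 := fun h1 => z1 (Subtype.ext h1)
  Kt := Kt
  RK := by
    rintro _ ⟨r, -, rfl⟩
    exact r.2
  one := by
    intro u hu uu u1
    obtain ⟨k, hk⟩ := h.one ⟨u, hu⟩ (Subtype.ext uu) (fun h1 => u1 (congrArg Subtype.val h1))
    exact ⟨k, k.2, congrArg Subtype.val hk⟩
  back := by
    rintro _ ⟨u, hu, rfl⟩ uu u1 uz k hk hku
    have := h.back u hu (Subtype.ext uu) (fun h1 => u1 (by rw [h1]; rfl)) (fun h1 => uz (by rw [h1]; rfl)) ⟨k, hk⟩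
      (Subtype.ext hku)
    exact ⟨_, this, rfl⟩
  ex := by
    obtain ⟨u, hu, uu, u1, uz⟩ := h.ex
    exact ⟨u, ⟨u, hu, rfl⟩, congrArg Subtype.val uu, fun h1 => u1 (Subtype.ext h1), fun h1 => uz (Subtype.ext h1)⟩


/-! ### `U₄(3)` -/

section U43

open Matrix Cfsg.Agent.OddHalf.D6.QThree.U43Aut Cfsg.Agent.OddHalf.D6.QThree.U43AutRef
open Cfsg.Agent.OddHalf.D6.QThree.U43AutGood
open Cfsg.Agent.OddHalf.Small.U43Mat Cfsg.Agent.OddHalf.Small.U43Good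
open Cfsg.Agent.LieClassical.HermSiegel Cfsg.Agent.LieClassical.SUBasic
open Cfsg.Agent.ClassicalGeometry.UnitAutBasic (pr pr_surjective)
open Cfsg.Agent.OddHalf.D6.QThree.U43Elt Cfsg.Agent.OddHalf.D6.QThree.U43Plus

variable {F : Type*} [Field F] [CharP F 3] [Fintype F]

/-- the transposition of the first and the third coordinate -/
def wk : SU 4 F 3 := mkSU !![0, 0, 1, 0; 0, -1, 0, 0; 1, 0, 0, 0; 0, 0, 0, 1]
  (by simp [det_succ_row_zero, Fin.sum_univ_succ, Fin.succAbove]) (by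
    intro u v
    simp only [hermForm_apply, Fin.sum_univ_four]
    simp [mulVec, dotProduct, Fin.sum_univ_four]
    ring)

theorem m_wk : mat (wk : SU 4 F 3) = !![0, 0, 1, 0; 0, -1, 0, 0; 1, 0, 0, 0; 0, 0, 0, 1] := rfl

theorem wk_d : pr 4 F 3 (wk : SU 4 F 3) * pr 4 F 3 d = pr 4 F 3 dq * pr 4 F 3 wk := by
  rw [← map_mul, ← map_mul]
  refine pr_eq_of_mat (c := -1) ?_
  rw [mat_mul, mat_mul, m_wk, m_dq, m_d]
  ext i j
  rw [Matrix.smul_apply, mul_apply, mul_apply, Fin.sum_univ_four, Fin.sum_univ_four]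
  fin_cases i <;> fin_cases j <;> simp

theorem wk_dq : pr 4 F 3 (wk : SU 4 F 3) * pr 4 F 3 dq = pr 4 F 3 d * pr 4 F 3 wk := by
  rw [← map_mul, ← map_mul]
  refine pr_eq_of_mat (c := -1) ?_
  rw [mat_mul, mat_mul, m_wk, m_dq, m_d]
  ext i j
  rw [Matrix.smul_apply, mul_apply, mul_apply, Fin.sum_univ_four, Fin.sum_univ_four]
  fin_cases i <;> fin_cases j <;> simp

theorem ii_eq {a : F} (ha : a ^ 2 = -1) :
    pr 4 F 3 (i1 a ha) * pr 4 F 3 (i2 a ha) = pr 4 F 3 dq * pr 4 F 3 d := by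
  rw [← map_mul, ← map_mul]
  refine pr_eq_of_mat (c := -a) ?_
  rw [mat_mul, mat_mul, m_i1, m_i2, m_dq, m_d]
  ext i j
  rw [Matrix.smul_apply, mul_apply, mul_apply, Fin.sum_univ_four, Fin.sum_univ_four]
  fin_cases i <;> fin_cases j <;> simp
  all_goals first | linear_combination -ha | linear_combination ha

theorem dq_mem (hF : Fintype.card F = 9) : pr 4 F 3 (dq : SU 4 F 3) ∈ QQ hF := by
  obtain ⟨a, ha⟩ := exists_a hF
  have h1 : pr 4 F 3 (i1 a ha) ∈ QQ hF := by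
    rw [gen hF ha]; exact Subgroup.subset_closure (by simp)
  have h2 : pr 4 F 3 (i2 a ha) ∈ QQ hF := by
    rw [gen hF ha]; exact Subgroup.subset_closure (by simp)
  have h3 := (U43AutKF.two_pr hF).zR
  have h4 := (QQ hF).mul_mem ((QQ hF).mul_mem h1 h2) ((QQ hF).inv_mem h3)
  rwa [ii_eq ha, mul_inv_cancel_right] at h4

theorem kfk_pr (hF : Fintype.card F = 9) : KFK (pr 4 F 3 d) (QQ hF) := by
  obtain ⟨i, j, k, l, x₁, x₂, f⟩ := U43AutKF.exists_front (F := F) hF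
  have ht := U43AutKF.two_pr (F := F) hF
  refine kfk_of (u₀ := pr 4 F 3 dq) (k₀ := pr 4 F 3 wk) f.toBase f.fr f.gR ?_ (dq_mem hF) ?_ ?_ ?_ ?_ ?_
  · intro u uu u1
    obtain ⟨k, hk⟩ := ht.one u uu u1
    exact ⟨k⁻¹, by rw [← hk]; group⟩
  · rw [← map_mul, dq_sq, map_one]
  · intro h1
    have h2 : pr 4 F 3 d = (pr 4 F 3 (wk : SU 4 F 3))⁻¹ * (pr 4 F 3 dq * pr 4 F 3 wk) := by
      rw [← wk_d]; group
    rw [h1, one_mul, inv_mul_cancel] at h2
    exact ht.z1 h2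
  · intro h1
    obtain ⟨c, -, hc⟩ := mat_of_pr_eq hF h1
    have e0 := congrFun (congrFun hc 0) 0
    have e1 := congrFun (congrFun hc 1) 1
    rw [Matrix.smul_apply, m_d, m_dq] at e0 e1
    simp at e0 e1
    rw [← e0] at e1
    have h3 : (3 : F) = 0 := three
    have h4 : (1 : F) = 0 := by linear_combination h3 - e1
    exact one_ne_zero h4
  · rw [wk_dq, mul_inv_cancel_right]
  · rw [wk_d, mul_inv_cancel_right]
    exact dq_mem hF

end U43

end Cfsg.Agent.OddHalf.D6.QThree.NIB.KFOf
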