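import Cfsg.Agent.OddHalf.D6.QThree.NIB.SpOf
import Cfsg.Agent.OddHalf.D6.QThree.NIB.KFOf
import Cfsg.Agent.OddHalf.D6.QThree.NIB.DiagOf
import Cfsg.Agent.OddHalf.D6.QThree.RefTri
import Cfsg.Agent.OddHalf.D6.QThree.FrontLoc

/-!
# ODD half, D6, NI with `B`: the `G`-level inputs of `NIB.End` (helper801; text: #14694 (F), (F_b), (4a), (4b))

`transport`: `FusB.KF` for a component `M ≅ K` of `C(b)`; `fusT_of`: `FusT`; `refTri_of`: `Two.RefTri`.
-/

set_option autoImplicit false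

namespace Cfsg.Agent.OddHalf.D6.QThree.NIB.FusOf

open Subgroup Cfsg
open Cfsg.Agent.OddHalf Cfsg.Agent.OddHalf.Iface Cfsg.Agent.OddHalf.D3
open Cfsg.Agent.OddHalf.D6.QThree.NISide
open Cfsg.Agent.OddHalf.D6.QThree.RefOf
open Cfsg.Agent.OddHalf.D6.QThree.FrontLoc (Loc)

universe u

variable {G : Type u} [Group G]

/-! ### transport to `M ≅ K` -/

/-- `KF t z K R ==> KF b z M R` for `M ≅ K` -/
theorem transport [Finite G] {t z b : G} {K M R : Subgroup G} (k : FusB.KF t z K R) (zR : z ∈ R)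
    (pR : IsPGroup 2 R) (RP : ∀ r ∈ R, r * z = z * r)
    (max : ∀ N : Subgroup G, N ≤ K → IsPGroup 2 N → (∀ n ∈ N, n * z = z * n) →
      (∀ g ∈ K, g * z = z * g → ∀ n ∈ N, g * n * g⁻¹ ∈ N) → N ≤ R)
    (hMb : ∀ m ∈ M, m * b = b * m) (hRM : R ≤ M)
    (nRM : ∀ g ∈ M, g * z = z * g → ∀ r ∈ R, g * r * g⁻¹ ∈ R) (e : K ≃* M) : FusB.KF b z M R := by
  -- `f : K ≃* M` with `f z = z`
  obtain ⟨f, hf⟩ : ∃ f : K ≃* M, ∀ hz : z ∈ K, ((f ⟨z, hz⟩ : M) : G) = z := by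
    have hw2 : ((e.symm ⟨z, hRM zR⟩ : K) : G) * (e.symm ⟨z, hRM zR⟩ : K) = 1 := by
      have : e.symm ⟨z, hRM zR⟩ * e.symm ⟨z, hRM zR⟩ = 1 := by
        rw [← map_mul]
        have : (⟨z, hRM zR⟩ : M) * ⟨z, hRM zR⟩ = 1 := Subtype.ext k.zz
        rw [this, map_one]
      exact congrArg Subtype.val this
    obtain ⟨c, hc, hcw⟩ := k.one _ (e.symm ⟨z, hRM zR⟩).2 hw2 (by
      intro h1
      have h2 : e.symm ⟨z, hRM zR⟩ = 1 := Subtype.ext h1
      have h3 : (⟨z, hRM zR⟩ : M) = 1 := e.symm.injective (by rw [h2, map_one])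
      exact k.z1 (congrArg Subtype.val h3))
    refine ⟨(MulAut.conj (⟨c, hc⟩ : K)⁻¹).trans e, fun hz => ?_⟩
    have h4 : (MulAut.conj (⟨c, hc⟩ : K)⁻¹) ⟨z, hz⟩ = e.symm ⟨z, hRM zR⟩ := by
      rw [MulAut.conj_apply, inv_inv]
      apply Subtype.ext
      have h5 : ∀ w : G, c * w * c⁻¹ = z → c⁻¹ * z * c = w := fun w hw => by rw [← hw]; group
      exact h5 _ hcw
    show ((e ((MulAut.conj (⟨c, hc⟩ : K)⁻¹) ⟨z, hz⟩) : M) : G) = z
    rw [h4, e.apply_symm_apply]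
  have hzK : z ∈ K := k.RK zR
  have hfz : f ⟨z, hzK⟩ = ⟨z, hRM zR⟩ := Subtype.ext (hf hzK)
  have hfz' : f.symm ⟨z, hRM zR⟩ = ⟨z, hzK⟩ := by rw [← hfz, f.symm_apply_apply]
  -- `f⁻¹(R) = R`
  set N : Subgroup G := ((R.subgroupOf M).comap f.toMonoidHom).map K.subtype with hN
  have memN : ∀ x (hx : x ∈ K), x ∈ N ↔ ((f ⟨x, hx⟩ : M) : G) ∈ R := by
    intro x hx
    constructor
    · rintro ⟨y, hy, hyx⟩
      have : y = ⟨x, hx⟩ := Subtype.ext hyx
      rw [← this]; exact hy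
    · intro h1
      exact ⟨⟨x, hx⟩, h1, rfl⟩
  have hNK : N ≤ K := by
    rintro _ ⟨y, -, rfl⟩
    exact y.2
  have hNR : N ≤ R := by
    apply max N hNK
    · have h1 : IsPGroup 2 ((R.subgroupOf M).comap f.toMonoidHom) := by
        have h2 : IsPGroup 2 (R.subgroupOf M) := pR.of_equiv (subgroupOfEquivOfLe hRM).symm
        exact h2.comap_of_injective f.toMonoidHom f.injective
      exact h1.map _
    · rintro _ ⟨y, hy, rfl⟩
      have h1 : ((f y : M) : G) * z = z * (f y : M) := RP _ hy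
      have h2 : f (y * ⟨z, hzK⟩) = f (⟨z, hzK⟩ * y) := by
        rw [map_mul, map_mul, hfz]
        exact Subtype.ext h1
      exact congrArg Subtype.val (f.injective h2)
    · rintro g hg hgz _ ⟨y, hy, rfl⟩
      refine ⟨⟨g, hg⟩ * y * ⟨g, hg⟩⁻¹, ?_, rfl⟩
      have h1 : ((f ⟨g, hg⟩ : M) : G) * z = z * (f ⟨g, hg⟩ : M) := by
        have h2 : f (⟨g, hg⟩ * ⟨z, hzK⟩) = f (⟨z, hzK⟩ * ⟨g, hg⟩) := congrArg f (Subtype.ext hgz)
        rw [map_mul, map_mul, hfz] at h2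
        exact congrArg Subtype.val h2
      have h3 := nRM _ (f ⟨g, hg⟩).2 h1 _ hy
      show ((f (⟨g, hg⟩ * y * ⟨g, hg⟩⁻¹) : M) : G) ∈ R
      rw [map_mul, map_mul, map_inv]
      exact h3
  have hcard : Nat.card N = Nat.card R := by
    have h1 : N = ((R.subgroupOf M).map f.symm.toMonoidHom).map K.subtype := by
      rw [hN]
      congr 1
      ext y
      constructor
      · intro hy
        exact ⟨f y, hy, f.symm_apply_apply y⟩
      · rintro ⟨m, hm, rfl⟩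
        show f (f.symm m) ∈ R.subgroupOf M
        rw [f.apply_symm_apply]; exact hm
    rw [h1, Nat.card_congr (((R.subgroupOf M).map f.symm.toMonoidHom).equivMapOfInjective _ K.subtype_injective).toEquiv.symm,
      Nat.card_congr ((R.subgroupOf M).equivMapOfInjective _ f.symm.injective).toEquiv.symm,
      Nat.card_congr (subgroupOfEquivOfLe hRM).toEquiv]
  have hNeq : N = R := Subgroup.eq_of_le_of_card_ge hNR hcard.ge
  have memR : ∀ x (hx : x ∈ K), x ∈ R ↔ ((f ⟨x, hx⟩ : M) : G) ∈ R := fun x hx => by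
    rw [← memN x hx, hNeq]
  have hfs : ∀ m : M, ((f.symm m : K) : G) ∈ R ↔ (m : G) ∈ R := fun m => by
    rw [memR _ (f.symm m).2]
    have : (⟨((f.symm m : K) : G), (f.symm m).2⟩ : K) = f.symm m := rfl
    rw [this, f.apply_symm_apply]
  have hone : ∀ m : M, (m : G) ≠ 1 → ((f.symm m : K) : G) ≠ 1 := by
    intro m hm h1
    apply hm
    have h2 : f.symm m = 1 := Subtype.ext h1
    have h3 : m = 1 := f.symm.injective (by rw [h2, map_one])
    rw [h3]; rfl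
  have hmul : ∀ m : M, (m : G) * m = 1 → ((f.symm m : K) : G) * (f.symm m : K) = 1 := by
    intro m hm
    have h2 : f.symm m * f.symm m = 1 := by
      rw [← map_mul, show m * m = 1 from Subtype.ext hm, map_one]
    exact congrArg Subtype.val h2
  refine ⟨k.zz, k.z1, hMb, hRM, ?_, ?_, k.ex⟩
  · intro u hu uu u1
    obtain ⟨c, hc, hcu⟩ := k.one _ (f.symm ⟨u, hu⟩).2 (hmul _ uu) (hone _ u1)
    refine ⟨f ⟨c, hc⟩, (f ⟨c, hc⟩).2, ?_⟩
    have h2 : (⟨c, hc⟩ : K) * f.symm ⟨u, hu⟩ * (⟨c, hc⟩ : K)⁻¹ = ⟨z, hzK⟩ := Subtype.ext hcu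
    have h3 := congrArg f h2
    rw [map_mul, map_mul, map_inv, f.apply_symm_apply, hfz] at h3
    exact congrArg Subtype.val h3
  · intro u hu uu u1 uz c hc hcu
    have h1 : ((f.symm ⟨u, hRM hu⟩ : K) : G) ∈ R := (hfs _).2 hu
    have h2 : ((f.symm ⟨u, hRM hu⟩ : K) : G) ≠ z := by
      intro h3
      apply uz
      have h4 : f.symm ⟨u, hRM hu⟩ = ⟨z, hzK⟩ := Subtype.ext h3
      rw [← hfz'] at h4
      exact congrArg Subtype.val (f.symm.injective h4)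
    have h3 : (f.symm ⟨c, hc⟩ : K) * f.symm ⟨u, hRM hu⟩ * (f.symm ⟨c, hc⟩ : K)⁻¹ = ⟨z, hzK⟩ := by
      rw [← hfz', ← map_mul, ← map_inv, ← map_mul]
      congr 1
      exact Subtype.ext hcu
    have h4 := k.back _ h1 (hmul _ uu) (hone _ u1) h2 _ (f.symm ⟨c, hc⟩).2 (congrArg Subtype.val h3)
    have h5 : ((f.symm ⟨c, hc⟩ : K) : G) * z * ((f.symm ⟨c, hc⟩ : K) : G)⁻¹ =
        ((f.symm (⟨c, hc⟩ * ⟨z, hRM zR⟩ * ⟨c, hc⟩⁻¹) : K) : G) := by
      rw [map_mul, map_mul, map_inv, hfz']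
      rfl
    rw [h5] at h4
    exact (hfs _).1 h4

/-! ### `FusT` -/

section fus

variable {z : G} {z' t' c a₁ a₂ : ↥(centralizer ({z} : Set G))} {Q₁ Q₂ : Subgroup ↥(centralizer ({z} : Set G))}
  {M R : Subgroup G}

/-- **(F), (F_b)** in `X = C_G(z)` -/
theorem fusT_of (h : HypB z' t' a₁ a₂ Q₁ Q₂) (hz' : (z' : G) = z)
    (hR : ∀ r ∈ R, ∃ x ∈ Q₁, ∃ y ∈ Q₂, r = (x : G) * y) (k : FusB.KF (c : G) z M R) {s : G}
    (hs : s * (c : G) * s⁻¹ = c * z) (hsR : ∀ r ∈ R, s⁻¹ * r * s ∈ R) : FusT z' c Q₁ Q₂ := by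
  obtain ⟨g, u, hgz, hu, uu, u1, uz, hg⟩ := k.fus hs hsR
  obtain ⟨x, hx, y, hy, e⟩ := hR u hu
  have e' : ((x * y : ↥(centralizer ({z} : Set G))) : G) = u := e.symm
  obtain ⟨h1, h2⟩ := FusB.factor h.s₁ h.s₂ h.zz h.z1 h.comm hx hy (Subtype.ext (by
      show ((x * y : ↥(centralizer ({z} : Set G))) : G) * ((x * y : ↥(centralizer ({z} : Set G))) : G) = 1
      rw [e', uu])) (fun h1 => u1 (by rw [← e', h1]; rfl)) (fun h1 => uz (by rw [← e', h1, hz']))
  refine ⟨⟨g, mem_centralizer_singleton_iff.2 hgz⟩, x, hx, y, hy, h1, h2, Subtype.ext ?_⟩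
  show g * (c : G) * g⁻¹ = (c : G) * ((x : G) * y)
  rw [hg, e]

/-- an involution of `R - ⟨z⟩` conjugate to `z` -/
theorem hf_of (h : HypB z' t' a₁ a₂ Q₁ Q₂) (hz' : (z' : G) = z)
    (hR : ∀ r ∈ R, ∃ x ∈ Q₁, ∃ y ∈ Q₂, r = (x : G) * y) (k : FusB.KF (c : G) z M R) :
    ∃ q₁ ∈ Q₁, ∃ q₂ ∈ Q₂, q₁ * q₁ = z' ∧ q₂ * q₂ = z' ∧ ∃ g : G, g * z * g⁻¹ = (q₁ : G) * q₂ := by
  obtain ⟨u, hu, uu, u1, uz⟩ := k.ex
  obtain ⟨m, -, hm⟩ := k.one u (k.RK hu) uu u1
  obtain ⟨x, hx, y, hy, e⟩ := hR u hu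
  have e' : ((x * y : ↥(centralizer ({z} : Set G))) : G) = u := e.symm
  obtain ⟨h1, h2⟩ := FusB.factor h.s₁ h.s₂ h.zz h.z1 h.comm hx hy (Subtype.ext (by
      show ((x * y : ↥(centralizer ({z} : Set G))) : G) * ((x * y : ↥(centralizer ({z} : Set G))) : G) = 1
      rw [e', uu])) (fun h1 => u1 (by rw [← e', h1]; rfl)) (fun h1 => uz (by rw [← e', h1, hz']))
  refine ⟨x, hx, y, hy, h1, h2, m⁻¹, ?_⟩
  rw [← e, ← hm]
  group

end fus

/-! ### the element `s` -/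

section loc

variable {t z : G} {R : Subgroup G} {i j k l a b : G}

open Cfsg.Agent.LargeExtra.W2.PlusHom (M) in
open Cfsg.Agent.OddHalf.D6.QThree.PlusOf in
theorem isPGroup_R (f : NIFacts.Frame z i j k l a b) : IsPGroup 2 (closure ({i, j, k, l} : Set G)) := by
  have hM : IsPGroup 2 M := IsPGroup.of_card (n := 5) (by
    rw [Nat.card_eq_fintype_card]; decide +kernel)
  rw [← hom_range f.toQRel]
  exact hM.of_surjective _ (hom f.toQRel).rangeRestrict_surjective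

/-- `D` is generated by its elements of odd order -/
theorem gen_odd (hl : Loc t z R i j k l a b) : closure {i, j, k, l, a, b} ≤
    closure {x | x ∈ closure {i, j, k, l, a, b} ∧ Odd (orderOf x)} := by
  set D : Subgroup G := closure {i, j, k, l, a, b} with hD
  set O : Subgroup G := closure {x | x ∈ D ∧ Odd (orderOf x)} with hO
  have hsub : ∀ x ∈ ({i, j, k, l, a, b} : Set G), x ∈ D := fun x hx => subset_closure hx
  have hi : i ∈ D := hsub i (by simp)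
  have hj : j ∈ D := hsub j (by simp)
  have hk : k ∈ D := hsub k (by simp)
  have hl' : l ∈ D := hsub l (by simp)
  have ha : a ∈ D := hsub a (by simp)
  have hb : b ∈ D := hsub b (by simp)
  have hodd : ∀ x : G, x * x * x = 1 → Odd (orderOf x) := by
    intro x hx
    have h1 : orderOf x ∣ 3 := orderOf_dvd_of_pow_eq_one (by rw [pow_succ, pow_two]; exact hx)
    exact Odd.of_dvd_nat (by decide) h1
  have ha' : a ∈ O := subset_closure ⟨ha, hodd a hl.a3⟩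
  have hb' : b ∈ O := subset_closure ⟨hb, hodd b hl.b3⟩
  have hcj : ∀ {x y : G}, x ∈ D → y ∈ D → Odd (orderOf y) → x * y * x⁻¹ ∈ O := by
    intro x y hx hy ho
    refine subset_closure ⟨D.mul_mem (D.mul_mem hx hy) (D.inv_mem hx), ?_⟩
    rwa [orderOf_conj]
  have hinv : ∀ {x : G}, x * x * x = 1 → Odd (orderOf x⁻¹) := fun {x} hx => by
    rw [orderOf_inv]; exact hodd x hx
  have hiO : i ∈ O := by
    have h1 : j * i⁻¹ ∈ O := by
      have h2 := O.mul_mem ha' (hcj hi (D.inv_mem ha) (hinv hl.a3))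
      have e : a * (i * a⁻¹ * i⁻¹) = j * i⁻¹ := by rw [← hl.fr.act_a.i]; group
      rwa [e] at h2
    have h3 := O.mul_mem (O.mul_mem ha' h1) (O.inv_mem ha')
    have e : a * (j * i⁻¹) * a⁻¹ = i := by
      calc a * (j * i⁻¹) * a⁻¹ = (a * j * a⁻¹) * (a * i * a⁻¹)⁻¹ := by group
        _ = i := by rw [hl.fr.act_a.j, hl.fr.act_a.i]; group
    rwa [e] at h3
  have hjO : j ∈ O := by
    have := O.mul_mem (O.mul_mem ha' hiO) (O.inv_mem ha')
    rwa [hl.fr.act_a.i] at this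
  have hkO : k ∈ O := by
    have h1 : l * k⁻¹ ∈ O := by
      have h2 := O.mul_mem hb' (hcj hk (D.inv_mem hb) (hinv hl.b3))
      have e : b * (k * b⁻¹ * k⁻¹) = l * k⁻¹ := by rw [← hl.fr.act_b.k]; group
      rwa [e] at h2
    have h3 := O.mul_mem (O.mul_mem hb' h1) (O.inv_mem hb')
    have e : b * (l * k⁻¹) * b⁻¹ = k := by
      calc b * (l * k⁻¹) * b⁻¹ = (b * l * b⁻¹) * (b * k * b⁻¹)⁻¹ := by group
        _ = k := by rw [hl.fr.act_b.l, hl.fr.act_b.k]; group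
    rwa [e] at h3
  have hlO : l ∈ O := by
    have := O.mul_mem (O.mul_mem hb' hkO) (O.inv_mem hb')
    rwa [hl.fr.act_b.k] at this
  rw [hD, closure_le]
  intro x hx
  have hx' : x = i ∨ x = j ∨ x = k ∨ x = l ∨ x = a ∨ x = b := by simpa using hx
  rcases hx' with rfl | rfl | rfl | rfl | rfl | rfl
  exacts [hiO, hjO, hkO, hlO, ha', hb']

/-- an element which normalises `⟨t, z⟩` and fixes `z` normalises `R` -/
theorem norm_R (hl : Loc t z R i j k l a b) {s : G} (hs : s * t * s⁻¹ = t * z) (hsz : s * z * s⁻¹ = z) :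
    ∀ r ∈ R, s⁻¹ * r * s ∈ R := by
  have hzc : ∀ g, g * z = z * g → s⁻¹ * g * s * z = z * (s⁻¹ * g * s) := by
    intro g hg
    have h1 : s * z = z * s := mul_inv_eq_iff_eq_mul.1 hsz
    have c1 : Commute s z := h1
    have c2 : Commute g z := hg
    exact (c1.inv_left.mul_left c2).mul_left c1
  have hst : s⁻¹ * t * s = t * z := by
    have h1 : s * z = z * s := mul_inv_eq_iff_eq_mul.1 hsz
    have h2 : s⁻¹ * z * s = z := by rw [mul_assoc, ← h1, inv_mul_cancel_left]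
    have h3 : s⁻¹ * (t * z) * s = t := by rw [← hs]; group
    have h4 : (s⁻¹ * t * s) * z = t := by
      calc (s⁻¹ * t * s) * z = (s⁻¹ * t * s) * (s⁻¹ * z * s) := by rw [h2]
        _ = s⁻¹ * (t * z) * s := by group
        _ = t := h3
    calc s⁻¹ * t * s = (s⁻¹ * t * s) * z * z⁻¹ := by group
      _ = t * z⁻¹ := by rw [h4]
      _ = t * z := by rw [inv_eq_of_mul_eq_one_right hl.fr.zz]
  -- `s⁻¹` normalises `X`
  have hX : ∀ g, g * t = t * g → g * z = z * g → s⁻¹ * g * s * t = t * (s⁻¹ * g * s) := by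
    intro g hgt hgz
    have c1 : Commute (s⁻¹ * g * s) (t * z) := by
      have c2 : Commute g t := hgt
      show s⁻¹ * g * s * (t * z) = t * z * (s⁻¹ * g * s)
      rw [← hst]
      calc s⁻¹ * g * s * (s⁻¹ * t * s) = s⁻¹ * (g * t) * s := by group
        _ = s⁻¹ * (t * g) * s := by rw [hgt]
        _ = s⁻¹ * t * s * (s⁻¹ * g * s) := by group
    have c3 : Commute (s⁻¹ * g * s) z := hzc g hgz
    have c4 := c1.mul_right c3.inv_right
    rw [mul_inv_cancel_right] at c4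
    exact c4
  have hX' : ∀ g, g * t = t * g → g * z = z * g → s * g * s⁻¹ * t = t * (s * g * s⁻¹) ∧
      s * g * s⁻¹ * z = z * (s * g * s⁻¹) := by
    intro g hgt hgz
    have h1 : s * z = z * s := mul_inv_eq_iff_eq_mul.1 hsz
    have c1 : Commute s z := h1
    have c2 : Commute g z := hgz
    have c3 : Commute (s * g * s⁻¹) z := (c1.mul_left c2).mul_left c1.inv_left
    refine ⟨?_, c3⟩
    have c4 : Commute (s * g * s⁻¹) (t * z) := by
      show s * g * s⁻¹ * (t * z) = t * z * (s * g * s⁻¹)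
      rw [← hs]
      calc s * g * s⁻¹ * (s * t * s⁻¹) = s * (g * t) * s⁻¹ := by group
        _ = s * (t * g) * s⁻¹ := by rw [hgt]
        _ = s * t * s⁻¹ * (s * g * s⁻¹) := by group
    have c5 := c4.mul_right c3.inv_right
    rw [mul_inv_cancel_right] at c5
    exact c5
  set D : Subgroup G := closure {i, j, k, l, a, b} with hD
  have hDz : ∀ d ∈ D, d * z = z * d := by
    have h1 : D ≤ centralizer ({z} : Set G) := by
      rw [hD, closure_le]
      intro x hx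
      have hx' : x = i ∨ x = j ∨ x = k ∨ x = l ∨ x = a ∨ x = b := by simpa using hx
      rw [SetLike.mem_coe, mem_centralizer_singleton_iff]
      rcases hx' with rfl | rfl | rfl | rfl | rfl | rfl
      exacts [hl.fr.iz, hl.fr.jz, hl.fr.kz, hl.fr.lz, mul_inv_eq_iff_eq_mul.1 hl.fr.act_a.z,
        mul_inv_eq_iff_eq_mul.1 hl.fr.act_b.z]
    exact fun d hd => mem_centralizer_singleton_iff.1 (h1 hd)
  have hsD : ∀ d ∈ D, s⁻¹ * d * s ∈ D := by
    have h1 : D ≤ D.comap (MulAut.conj s⁻¹).toMonoidHom := by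
      refine (gen_odd hl).trans ((closure_le _).2 ?_)
      rintro x ⟨hx, ho⟩
      show s⁻¹ * x * s⁻¹⁻¹ ∈ D
      rw [inv_inv]
      refine hl.od _ (hX x (hl.Dt x hx) (hDz x hx)) (hzc x (hDz x hx)) ?_
      have : orderOf (s⁻¹ * x * s) = orderOf x := by
        have h2 := orderOf_conj s⁻¹ x
        rwa [inv_inv] at h2
      rwa [this]
    intro d hd
    have h2 : s⁻¹ * d * s⁻¹⁻¹ ∈ D := h1 hd
    rwa [inv_inv] at h2
  have hRD : R ≤ D := by
    rw [hl.gR, hD]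
    exact closure_mono (by
      intro x hx
      simp only [Set.mem_insert_iff, Set.mem_singleton_iff] at hx ⊢
      tauto)
  have hRp : IsPGroup 2 R := by rw [hl.gR]; exact isPGroup_R hl.fr
  have h1 := hl.max (R.map (MulAut.conj s⁻¹).toMonoidHom) (by
    rintro _ ⟨r, hr, rfl⟩
    have h2 := hsD r (hRD hr)
    show s⁻¹ * r * s⁻¹⁻¹ ∈ D
    rwa [inv_inv]) (hRp.map _) (by
    rintro g hgt hgz _ ⟨r, hr, rfl⟩
    obtain ⟨h3, h4⟩ := hX' g hgt hgz
    refine ⟨(s * g * s⁻¹) * r * (s * g * s⁻¹)⁻¹, hl.nR _ h3 h4 r hr, ?_⟩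
    show s⁻¹ * ((s * g * s⁻¹) * r * (s * g * s⁻¹)⁻¹) * s⁻¹⁻¹ = g * (s⁻¹ * r * s⁻¹⁻¹) * g⁻¹
    group)
  intro r hr
  have h2 := h1 ⟨r, hr, rfl⟩
  have h3 : s⁻¹ * r * s⁻¹⁻¹ ∈ R := h2
  rwa [inv_inv] at h3

end loc

/-! ### the trichotomy -/

/-- **`RefTri`** -/
theorem refTri_of (C : Ctx G) (hS : Pump.SpOrd.{u}) {K : Subgroup G} (S : Std G K)
    (hK : Nat.card K < 6065280)
    (hN : ∀ b : G, orderOf b = 2 → ∀ L : Subgroup G, CompOf b L → ¬ NI3.HasY ↥L)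
    (hU : ∃ (F : Type) (_ : Field F) (_ : Fintype F), Fintype.card F = 9 ∧ Nonempty (K ≃* PSU 4 F 3))
    {zK : K} {RK : Subgroup K} (hb : Facts.Base zK RK) (kf : KFOf.KFK zK RK) {t : G}
    (Kt : ∀ x ∈ K, x * t = t * x) (nR : ∀ g, g * t = t * g → g * (zK : G) = zK * g →
      ∀ r ∈ RK.map K.subtype, g * r * g⁻¹ ∈ RK.map K.subtype) {D : Subgroup G}
    {z' t' a₁ a₂ : ↥(centralizer ({(zK : G)} : Set G))} {Q₁ Q₂ : Subgroup ↥(centralizer ({(zK : G)} : Set G))}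
    (h : HypB z' t' a₁ a₂ Q₁ Q₂) (hz' : (z' : G) = zK) (ht' : (t' : G) = t)
    (hR : ∀ r ∈ RK.map K.subtype, ∃ x ∈ Q₁, ∃ y ∈ Q₂, r = (x : G) * y)
    (hQ₁ : ∀ q ∈ Q₁, (q : G) ∈ D) (hQ₂ : ∀ q ∈ Q₂, (q : G) ∈ D) (h₁ : (a₁ : G) ∈ D) (h₂ : (a₂ : G) ∈ D)
    (hdata : ∀ b, Refl z' t' Q₁ Q₂ b → ∃ (L : Subgroup G) (F : Type) (_ : Field F) (_ : Fintype F),
      Data t zK (b : G) D (RK.map K.subtype) L F)
    (hmv : ∀ b, Refl z' t' Q₁ Q₂ b → ∃ p : G, p * t = t * p ∧ p * (zK : G) = zK * p ∧ p * (b : G) * p⁻¹ = b * zK) :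
    Two.RefTri z' t' Q₁ Q₂ := by
  have := C.fin
  intro b hbr
  obtain ⟨L, F, i1, i2, hD⟩ := hdata b hbr
  rcases hD.tri C hS S (by omega) (hN b hD.b_ord) with h1 | ⟨M, hM, hLM, hMt, hc, E, i3, i4, hE, ⟨e⟩⟩ |
    ⟨M, hM, hLM, hMt, hc, E, i3, i4, hE, ⟨e⟩⟩ | ⟨M, hM, hMt, A⟩
  · -- `L* = PSp₄(3)`
    left
    intro v hvb hv1 hv2 hv
    refine hD.noV h1 (v := (v : G)) (congrArg Subtype.val hvb) ?_ ?_
    · intro r hr
      obtain ⟨x, hx, y, hy, rfl⟩ := hR r hr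
      have c1 : Commute v x := hv1 x hx
      have c2 : Commute v y := hv2 y hy
      exact congrArg Subtype.val (c1.mul_right c2).eq
    · have h2 : (t' : G) * v * (t' : G)⁻¹ = v * (z' : G) := congrArg Subtype.val hv
      rw [hz', ht'] at h2
      exact h2
  · -- `L* = U₄(3)`
    right; left
    obtain ⟨F', i5, i6, hF', ⟨e'⟩⟩ := hU
    have hFE : Fintype.card F' = Fintype.card E := by rw [hF', hE]
    have k1 := kf.kf hb.zz hb.z1 Kt
    have k2 : FusB.KF (b : G) (zK : G) M (RK.map K.subtype) := by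
      refine transport k1 ⟨zK, hb.zR, rfl⟩ (hb.pR.map _) ?_ ?_ ?_ ?_ ?_
        ((e'.trans (LieClassical.FieldTransfer.psuCongr 4 3 (FiniteField.ringEquivOfCardEq hFE))).trans e.symm)
      · rintro _ ⟨r, hr, rfl⟩
        exact congrArg Subtype.val (hb.RP r hr)
      · intro N hNK hN2 hNz hNn n hn
        have h1 := hb.max (N.subgroupOf K) (hN2.of_equiv (subgroupOfEquivOfLe hNK).symm)
          (fun n hn => Subtype.ext (hNz n hn)) (fun g hg n hn => hNn g g.2 (congrArg Subtype.val hg) n hn)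
        exact ⟨⟨n, hNK hn⟩, h1 hn, rfl⟩
      · intro m hm
        exact mem_centralizer_singleton_iff.1 (hM.le hm)
      · exact (hD.RD.trans hD.DL).trans hLM
      · intro g hg hgz
        refine hD.norm_R ?_
        exact hD.norm_of_le C hS S (by omega) hM hLM hMt (mem_centralizer_singleton_iff.1 (hM.le hg)) hgz
    obtain ⟨p, hpt, hpz, hp⟩ := hmv b hbr
    refine fusT_of h hz' hR k2 hp ?_
    intro r hr
    have h1 := nR p⁻¹ (show Commute p t from hpt).inv_left.eq (show Commute p (zK : G) from hpz).inv_left.eq r hr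
    rwa [inv_inv] at h1
  · exfalso
    obtain ⟨e2⟩ := Cfsg.Agent.LargeExtra.W2.LFour.PslFacts.psl_congr E hE
    have h2 : Nat.card (Matrix.ProjectiveSpecialLinearGroup (Fin 4) E) = 6065280 := by
      rw [Nat.card_congr e2.symm.toEquiv, Cfsg.Agent.LargeExtra.W2.LFour.PslFacts.card_psl]
    rw [Nat.card_congr e.toEquiv, h2] at hc
    omega
  · right; right
    exact DiagOf.diag A (congrArg Subtype.val hb.zz) (fun h1 => hb.z1 (Subtype.ext h1)) hz' ht' rfl h.s₁ h.s₂ h.oa₁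
      h.oa₂ hQ₁ hQ₂ h₁ h₂

end Cfsg.Agent.OddHalf.D6.QThree.NIB.FusOf
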