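import Cfsg.Agent.OddHalf.D6.QThree.NI

/-!
# ODD half, D6, `q = 3`: (NI) with `B = C_X(R) ∩ C_X(t)` larger than `⟨t, z⟩`: the hypotheses (helper135, text of
helper801, bb #14694)

`X = C_G(z)` as a type. `T4 z t x`: `x ∈ ⟨t, z⟩`; `Bt t Q₁ Q₂ x`: `x ∈ B`; a reflection is an involution of `B` outside
`⟨t, z⟩`.
-/

set_option autoImplicit false

namespace Cfsg.Agent.OddHalf.D6.QThree.NIB

open Subgroup Cfsg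
open Cfsg.Agent.OddHalf.D6.QThree.NISide

variable {X : Type*} [Group X]

/-- `x ∈ ⟨t, z⟩` -/
def T4 (z t x : X) : Prop := x = 1 ∨ x = z ∨ x = t ∨ x = t * z

/-- `x ∈ B = C_X(t) ∩ C(Q₁ Q₂)` -/
def Bt (t : X) (Q₁ Q₂ : Subgroup X) (x : X) : Prop :=
  x * t = t * x ∧ (∀ q ∈ Q₁, x * q = q * x) ∧ ∀ q ∈ Q₂, x * q = q * x

/-- `x` is a reflection: an involution of `B` outside `⟨t, z⟩` -/
def Refl (z t : X) (Q₁ Q₂ : Subgroup X) (x : X) : Prop :=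
  Bt t Q₁ Q₂ x ∧ x * x = 1 ∧ ¬ T4 z t x

/-- **the hypotheses**: `X = C_G(z)`, `R = Q₁ Q₂`, `B = C_X(t) ∩ C(R)` -/
structure HypB (z t a₁ a₂ : X) (Q₁ Q₂ : Subgroup X) : Prop where
  zc : ∀ x : X, x * z = z * x
  zz : z * z = 1
  z1 : z ≠ 1
  tt : t * t = 1
  t1 : t ≠ 1
  tz : t ≠ z
  O : pPrimeCore 2 X = ⊥
  sol : Group.IsSolvable (centralizer ({t} : Set X))
  s₁ : Side z t a₁ Q₁ Q₂
  s₂ : Side z t a₂ Q₂ Q₁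
  comm : ∀ x ∈ Q₁, ∀ y ∈ Q₂, x * y = y * x
  /-- `R` is normal in `C_X(t)` -/
  nor : ∀ g, g * t = t * g → ∀ x ∈ Q₁, ∀ y ∈ Q₂, ∃ x' ∈ Q₁, ∃ y' ∈ Q₂, g * (x * y) * g⁻¹ = x' * y'
  /-- normal 2-subgroups of `C_X(t)` lie in `R B` -/
  rad : ∀ N : Subgroup X, (∀ n ∈ N, n * t = t * n) → IsPGroup 2 N →
    (∀ g, g * t = t * g → ∀ n ∈ N, g * n * g⁻¹ ∈ N) →
    ∀ n ∈ N, ∃ x ∈ Q₁, ∃ y ∈ Q₂, ∃ b, Bt t Q₁ Q₂ b ∧ n = x * y * b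
  /-- the elements of odd order of `C_X(t)` centralise `B` -/
  odd : ∀ b, Bt t Q₁ Q₂ b → ∀ d, d * t = t * d → Odd (orderOf d) → b * d = d * b
  /-- `a₁` and `a₂` have odd order -/
  oa₁ : Odd (orderOf a₁)
  oa₂ : Odd (orderOf a₂)
  /-- (0): `B / ⟨t, z⟩` is elementary abelian -/
  Bsq : ∀ b, Bt t Q₁ Q₂ b → T4 z t (b * b)
  /-- (0): `B' ≤ ⟨z⟩` -/
  Bc : ∀ b c, Bt t Q₁ Q₂ b → Bt t Q₁ Q₂ c → b * c * b⁻¹ * c⁻¹ = 1 ∨ b * c * b⁻¹ * c⁻¹ = z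
  /-- (0): the elements of `B` with square `z` lie in one coset of `⟨t, z⟩` -/
  Bu : ∀ b c, Bt t Q₁ Q₂ b → Bt t Q₁ Q₂ c → b * b = z → c * c = z → T4 z t (b⁻¹ * c)
  /-- `t^s = t z` -/
  sw : ∃ s, s * t * s⁻¹ = t * z
  /-- (K4): the two factors are conjugate in `C_X(t)` -/
  swap : ∃ p, p * t = t * p ∧ (∀ x ∈ Q₁, p * x * p⁻¹ ∈ Q₂) ∧ ∀ x ∈ Q₂, p * x * p⁻¹ ∈ Q₁
  /-- `t ∈ X'` -/
  com : t ∈ commutator X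
  /-- (W) -/
  elem : ∀ W : Subgroup X, W.Normal → (∀ w ∈ W, w * w = 1) → ∀ w ∈ W, w = 1 ∨ w = z
  /-- every component contains `z` (577 (1)) -/
  zM : ∀ M : Subgroup X, IsComponent M → z ∈ M
  /-- (R): a reflection does not centralise a component containing `Q₁` or `Q₂` -/
  refl : ∀ b, Refl z t Q₁ Q₂ b → ∀ M : Subgroup X, IsComponent M → (Q₁ ≤ M ∨ Q₂ ≤ M) →
    ¬ ∀ m ∈ M, b * m = m * b
  /-- (4), `G`-level: `R` is not contained in `O_2(X)` -/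
  nF : (∀ M : Subgroup X, IsComponent M → (∀ x ∈ Q₁, ∀ m ∈ M, x * m = m * x) ∧ ∀ x ∈ Q₂, ∀ m ∈ M, x * m = m * x) →
    ∀ F : Subgroup X, F.Normal → IsPGroup 2 F → ¬ (Q₁ ≤ F ∧ Q₂ ≤ F)

/-- (F): `t ~ t z₂`, `z₂ = q₁ q₂` an involution of `R - ⟨z⟩` -/
def FusT (z t : X) (Q₁ Q₂ : Subgroup X) : Prop :=
  ∃ g, ∃ q₁ ∈ Q₁, ∃ q₂ ∈ Q₂, q₁ * q₁ = z ∧ q₂ * q₂ = z ∧ g * t * g⁻¹ = t * (q₁ * q₂)

end Cfsg.Agent.OddHalf.D6.QThree.NIB
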