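import Cfsg.Agent.OddHalf.D6.QThree.RefData
import Cfsg.Agent.OddHalf.D6.QThree.U43AutKF
import Cfsg.Agent.OddHalf.D6.QThree.TransportOut
import Cfsg.Agent.OddHalf.D6.QThree.PumpMain

/-!
# ODD half, D6, `q = 3`: the reflections of `U₄(3)` (helper801, from helper218's `U43AutKF.CR`)

`Mv z R`: `α ∈ B̄ - ⟨z⟩` is conjugate to `α z` under `C_K(z)`. `rf_pr`, `mv_pr`: `U₄(3)`; `rf_map`, `mv_map`: transport.
-/

set_option autoImplicit false

namespace Cfsg.Agent.OddHalf.D6.QThree.NIB.KU

open Subgroup Cfsg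
open Cfsg.Agent.OddHalf.D6.QThree.FrontB (BA Z2)
open Cfsg.Agent.OddHalf.D6.QThree.RefData
open Cfsg.Agent.OddHalf.D6.QThree.U43AutGood (fixS)
open Cfsg.Agent.OddHalf.D6.QThree.U43AutKF (CR)
open Cfsg.Agent.OddHalf.D6.QThree.FactsOut (congr_apply' congr_conj)

/-- `α ∈ B̄ - ⟨z⟩` is conjugate to `α z` under `C_K(z)` -/
def Mv {K : Type*} [Group K] (z : K) (R : Subgroup K) : Prop :=
  ∀ α : MulAut K, BA R α → ¬ Z2 z α → ∃ p, p * z = z * p ∧ α p = z * p

/-! ### from `CR` -/

/-- `fixO α = fixS α`, if the fixed subgroup is simple of order divisible by 3 -/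
theorem fixO_eq {K : Type*} [Group K] [Finite K] {α : MulAut K} (hs : IsSimpleGroup (fixS α))
    (h3 : 3 ∣ Nat.card (fixS α)) : fixO α = fixS α := by
  have hle : fixO α ≤ fixS α := fun x hx => fix_of_mem hx
  apply le_antisymm hle
  have hn : ((fixO α).subgroupOf (fixS α)).Normal := by
    refine ⟨fun x hx g => ?_⟩
    have h1 : fixO α ≤ (fixO α).comap (MulAut.conj (g : K)).toMonoidHom := by
      refine (closure_le _).2 ?_
      rintro y ⟨hy, ho⟩
      refine subset_closure ⟨?_, ?_⟩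
      · show α ((g : K) * y * (g : K)⁻¹) = (g : K) * y * (g : K)⁻¹
        rw [map_mul, map_mul, map_inv, hy, show α (g : K) = g from g.2]
      · show Odd (orderOf ((MulAut.conj (g : K)).toMonoidHom y))
        rw [orderOf_injective (MulAut.conj (g : K)).toMonoidHom (MulAut.conj (g : K)).injective y]
        exact ho
    exact h1 hx
  rcases hn.eq_bot_or_eq_top with h1 | h1
  · exfalso
    have : Fact (Nat.Prime 3) := ⟨Nat.prime_three⟩
    obtain ⟨x, hx⟩ := exists_prime_orderOf_dvd_card' 3 h3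
    have h2 : x ∈ (fixO α).subgroupOf (fixS α) := by
      refine subset_closure ⟨x.2, ?_⟩
      show Odd (orderOf (x : K))
      rw [Subgroup.orderOf_coe, hx]
      decide
    rw [h1, mem_bot] at h2
    rw [h2, orderOf_one] at hx
    norm_num at hx
  · exact subgroupOf_eq_top.1 h1

theorem rf_of {K : Type*} [Group K] [Finite K] {z : K} {R : Subgroup K} (C : CR z R) : Rf z R := by
  intro α hα hαα hZ
  obtain ⟨e⟩ := C.rf α hα hαα (fun h => hZ (Or.inl h)) (fun h => hZ (Or.inr h))
  have h3 : Fintype.card (ZMod 3) = 3 := ZMod.card 3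
  have hs : IsSimpleGroup (fixS α) := by
    have := Cfsg.Agent.S0270.result (F := ZMod 3) 2 le_rfl (fun _ => h3.ge)
    exact e.isSimpleGroup_congr.2 this
  have hc : Nat.card (fixS α) = 25920 := by
    rw [Nat.card_congr e.toEquiv, Pump.card_psp_three h3]
  refine ⟨ZMod 3, inferInstance, inferInstance, h3, ?_⟩
  rw [fixO_eq hs (by rw [hc]; norm_num)]
  exact ⟨e⟩

theorem conj_inj' {K : Type*} [Group K] (hZ : center K = ⊥) {x y : K} (h : MulAut.conj x = MulAut.conj y) :
    x = y := by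
  have h1 : y⁻¹ * x ∈ center K := by
    rw [mem_center_iff]
    intro g
    have h2 := DFunLike.congr_fun h g
    rw [MulAut.conj_apply, MulAut.conj_apply] at h2
    calc g * (y⁻¹ * x) = y⁻¹ * (y * g * y⁻¹) * x := by group
      _ = y⁻¹ * (x * g * x⁻¹) * x := by rw [h2]
      _ = y⁻¹ * x * g := by group
  rw [hZ, mem_bot] at h1
  exact (inv_mul_eq_one.1 h1).symm

theorem mv_of {K : Type*} [Group K] {z : K} {R : Subgroup K} (hZ : center K = ⊥) (zz : z * z = 1) (C : CR z R) :
    Mv z R := by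
  intro α hα hZ2
  have hzz : MulAut.conj z * MulAut.conj z = 1 := by rw [← map_mul, zz, map_one]
  obtain ⟨p, hp, hpα⟩ := C.mv α⁻¹ (fun x hx => by rw [MulAut.inv_apply, MulEquiv.symm_apply_eq, hα x hx])
    (fun h2 => hZ2 (Or.inl (inv_eq_one.1 h2)))
    (fun h2 => hZ2 (Or.inr (by rw [← inv_inv α, h2, inv_eq_iff_mul_eq_one, hzz])))
  refine ⟨p, hp, ?_⟩
  apply conj_inj' hZ
  have e : MulAut.conj (α p) = α * MulAut.conj p * α⁻¹ := by
    ext x
    show α p * x * (α p)⁻¹ = α (p * α⁻¹ x * p⁻¹)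
    rw [map_mul, map_mul, map_inv, MulAut.apply_inv_self]
  rw [e, mul_assoc, hpα, map_mul, ← mul_assoc, ← mul_assoc, mul_inv_cancel, one_mul]

/-! ### transport -/

section map

variable {K L : Type*} [Group K] [Group L] {z : K} {R : Subgroup K}

theorem ba_iff (e : K ≃* L) {α : MulAut K} : BA (R.map e.toMonoidHom) (MulAut.congr e α) ↔ BA R α := by
  constructor
  · intro h r hr
    have h1 := h (e r) ⟨r, hr, rfl⟩
    rw [congr_apply'] at h1
    exact e.injective h1
  · rintro h _ ⟨r, hr, rfl⟩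
    show MulAut.congr e α (e r) = e r
    rw [congr_apply', h r hr]

theorem z2_iff (e : K ≃* L) {α : MulAut K} : Z2 (e z) (MulAut.congr e α) ↔ Z2 z α := by
  constructor
  · rintro (h | h)
    · left
      apply (MulAut.congr e).injective
      rw [h, map_one]
    · right
      apply (MulAut.congr e).injective
      rw [h, congr_conj]
  · rintro (h | h)
    · left; rw [h, map_one]
    · right; rw [h, congr_conj]

theorem mv_map (h : Mv z R) (e : K ≃* L) : Mv (e z) (R.map e.toMonoidHom) := by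
  intro β hβ hβ2
  obtain ⟨α, rfl⟩ := (MulAut.congr e).surjective β
  obtain ⟨p, hp, hpα⟩ := h α ((ba_iff e).1 hβ) (fun h1 => hβ2 ((z2_iff e).2 h1))
  exact ⟨e p, by rw [← map_mul, hp, map_mul], by rw [congr_apply', hpα, map_mul]⟩

theorem rf_map (h : Rf z R) (e : K ≃* L) : Rf (e z) (R.map e.toMonoidHom) := by
  intro β hβ hββ hβ2
  obtain ⟨α, rfl⟩ := (MulAut.congr e).surjective β
  obtain ⟨F, i1, i2, hF, ⟨f⟩⟩ := h α ((ba_iff e).1 hβ) (by
    apply (MulAut.congr e).injective
    rw [map_mul, hββ, map_one]) (fun h1 => hβ2 ((z2_iff e).2 h1))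
  refine ⟨F, i1, i2, hF, ?_⟩
  have h1 : fixO (MulAut.congr e α) = (fixO α).map e.toMonoidHom := by
    rw [fixO, fixO, MonoidHom.map_closure]
    congr 1
    ext y
    obtain ⟨x, rfl⟩ := e.surjective y
    constructor
    · rintro ⟨hx, ho⟩
      refine ⟨x, ⟨?_, ?_⟩, rfl⟩
      · rw [congr_apply'] at hx
        exact e.injective hx
      · rwa [show orderOf (e x) = orderOf x from orderOf_injective e.toMonoidHom e.injective x] at ho
    · rintro ⟨x', ⟨hx, ho⟩, hxx⟩
      have e1 : x' = x := e.injective hxx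
      rw [← e1]
      refine ⟨?_, ?_⟩
      · rw [congr_apply', hx]
      · rwa [show orderOf (e x') = orderOf x' from orderOf_injective e.toMonoidHom e.injective x']
  rw [h1]
  exact ⟨((fixO α).equivMapOfInjective e.toMonoidHom e.injective).symm.trans f⟩

end map

/-! ### `U₄(3)` -/

section U43

open Cfsg.Agent.OddHalf.Small.U43Mat Cfsg.Agent.OddHalf.Small.U43Good
open Cfsg.Agent.ClassicalGeometry.UnitAutBasic (pr pr_surjective)
open Cfsg.Agent.OddHalf.D6.QThree.U43Plus

variable {F : Type*} [Field F] [CharP F 3] [Fintype F]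

theorem center_pr (hF : Fintype.card F = 9) : center (PSU 4 F 3) = ⊥ := by
  rw [eq_bot_iff]
  intro x hx
  rw [mem_bot]
  apply U43AutRef.conj_one hF
  intro y
  rw [mem_center_iff.1 hx y]

theorem rf_pr (hF : Fintype.card F = 9) : Rf (pr 4 F 3 d) (QQ hF) := by
  have : Finite (PSU 4 F 3) := inferInstance
  exact rf_of (U43AutKF.cr hF)

theorem mv_pr (hF : Fintype.card F = 9) : Mv (pr 4 F 3 d) (QQ hF) :=
  mv_of (center_pr hF) (U43AutKF.two_pr hF).zz (U43AutKF.cr hF)

end U43

end Cfsg.Agent.OddHalf.D6.QThree.NIB.KU
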