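import Cfsg.Agent.OddHalf.D6.QThree.NIB.Hyp
import Cfsg.Agent.OddHalf.D3.Plug

/-!
# ODD half, D6, `q = 3`, NI with `B`: the field `HypB.nF` (helper135)

If `R = Q₁ Q₂` centralises every component of `X = C_G(z)`, and an involution `q₁ q₂` of `R` is conjugate to `z`, then
`X` has no component: a component of maximal order has, by `L`-balance, a bigger one (`grow`, helper911's `DirG.grow`
with weaker hypotheses).
-/

set_option autoImplicit false

namespace Cfsg.Agent.OddHalf.D6.QThree.NIB.NF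

open Subgroup Cfsg
open Cfsg.Agent.OddHalf
open Cfsg.Agent.SignalizersComponents.Components
open Cfsg.Agent.OddHalf.D6.QThree.NISide

/-- the two factors meet in `⟨z⟩` -/
theorem prod_ne {X : Type*} [Group X] {z t a₁ a₂ : X} {Q₁ Q₂ : Subgroup X} (zz : z * z = 1) (z1 : z ≠ 1)
    (s₁ : Side z t a₁ Q₁ Q₂) (s₂ : Side z t a₂ Q₂ Q₁) (comm : ∀ x ∈ Q₁, ∀ y ∈ Q₂, x * y = y * x)
    {x y : X} (hx : x ∈ Q₁) (hy : y ∈ Q₂) (hxx : x * x = z) (e : x * y = 1 ∨ x * y = z) : False := by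
  have hx2 : x ∈ Q₂ := by
    rcases e with e | e
    · rw [eq_inv_of_mul_eq_one_left e]; exact Q₂.inv_mem hy
    · have : x = z * y⁻¹ := by rw [← e, mul_inv_cancel_right]
      rw [this]; exact Q₂.mul_mem s₂.zQ (Q₂.inv_mem hy)
  have hx1 : x ≠ 1 := by
    rintro rfl
    rw [one_mul] at hxx; exact z1 hxx.symm
  have hxz : x ≠ z := by
    rintro rfl
    rw [zz] at hxx; exact z1 hxx.symm
  exact s₁.act x hx hx1 hxz (comm _ (s₁.aQ x hx) x hx2).symm

universe u

variable {G : Type u} [Group G]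

/-- a component of `X` which centralises `Q₁ Q₂` is smaller than some other component -/
theorem grow [Finite G] (hb : D3.Plug.Bal G) {z : G} (hz : orderOf z = 2)
    {z' t' a₁ a₂ : ↥(centralizer ({z} : Set G))} (hz' : (z' : G) = z)
    {Q₁ Q₂ : Subgroup ↥(centralizer ({z} : Set G))} (s₁ : Side z' t' a₁ Q₁ Q₂) (s₂ : Side z' t' a₂ Q₂ Q₁)
    (comm : ∀ x ∈ Q₁, ∀ y ∈ Q₂, x * y = y * x)
    (elem : ∀ W : Subgroup ↥(centralizer ({z} : Set G)), W.Normal → (∀ w ∈ W, w * w = 1) → ∀ w ∈ W, w = 1 ∨ w = z')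
    (zM : ∀ M : Subgroup ↥(centralizer ({z} : Set G)), IsComponent M → z' ∈ M)
    {q₁ q₂ : ↥(centralizer ({z} : Set G))} (hq₁ : q₁ ∈ Q₁) (hq₂ : q₂ ∈ Q₂) (hqq₁ : q₁ * q₁ = z')
    (hqq₂ : q₂ * q₂ = z') {g : G} (hg : g * z * g⁻¹ = (q₁ : G) * q₂)
    (L : Subgroup ↥(centralizer ({z} : Set G))) (hL : IsComponent L)
    (hL₁ : ∀ m ∈ L, ∀ x ∈ Q₁, m * x = x * m) (hL₂ : ∀ m ∈ L, ∀ x ∈ Q₂, m * x = x * m) :
    ∃ L' : Subgroup ↥(centralizer ({z} : Set G)), IsComponent L' ∧ Nat.card L < Nat.card L' := by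
  have zz : z' * z' = 1 := by
    apply Subtype.ext
    show (z' : G) * z' = 1
    rw [hz', ← pow_two, ← hz, pow_orderOf_eq_one]
  have z1 : z' ≠ 1 := by
    intro e
    rw [e] at hz'
    have : z = 1 := hz'.symm
    rw [this, orderOf_one] at hz
    exact absurd hz (by norm_num)
  set y : (centralizer ({z} : Set G)) := q₁ * q₂ with hy
  have hyy : y * y = 1 := by
    calc y * y = q₁ * (q₂ * q₁) * q₂ := by rw [hy]; group
      _ = q₁ * (q₁ * q₂) * q₂ := by rw [← comm q₁ hq₁ q₂ hq₂]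
      _ = (q₁ * q₁) * (q₂ * q₂) := by group
      _ = 1 := by rw [hqq₁, hqq₂, zz]
  have hy1 : y ≠ 1 := fun e => prod_ne zz z1 s₁ s₂ comm hq₁ hq₂ hqq₁ (Or.inl e)
  have hyz : y ≠ z' := fun e => prod_ne zz z1 s₁ s₂ comm hq₁ hq₂ hqq₁ (Or.inr e)
  have hyo : orderOf (y : G) = 2 := by
    rw [Subgroup.orderOf_coe]
    exact orderOf_eq_prime (by rw [pow_two, hyy]) hy1
  have hyL : ∀ m ∈ L, m * y = y * m := by
    intro m hm
    have c1 : Commute m q₁ := hL₁ m hm q₁ hq₁
    have c2 : Commute m q₂ := hL₂ m hm q₂ hq₂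
    exact (c1.mul_right c2).eq
  have hyL' : (y : G) ∈ centralizer ((L.map (centralizer ({z} : Set G)).subtype : Subgroup G) : Set G) := by
    rw [mem_centralizer_iff]
    rintro _ ⟨m, hm, rfl⟩
    exact congrArg Subtype.val (hyL m hm)
  have hzy : z * (y : G) = y * z := (mem_centralizer_singleton_iff.1 y.2).symm
  obtain ⟨D, hD, hcase⟩ := D3.Plug.exists_pump hb hz (D3.comp_map hL) hyo hzy hyL'
  have hD' := hD.conj g⁻¹
  have e1 : g⁻¹ * (y : G) * g⁻¹⁻¹ = z := by
    have : (y : G) = g * z * g⁻¹ := hg.symm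
    rw [this]; group
  rw [e1] at hD'
  have hyD : (y : G) ∈ D := by
    have h1 : z' ∈ (D3.cj g⁻¹ D).subgroupOf (centralizer ({z} : Set G)) := zM _ hD'.comp
    rw [mem_subgroupOf, hz', D3.mem_cj] at h1
    have e2 : g⁻¹⁻¹ * z * g⁻¹ = (y : G) := by rw [inv_inv, hg]; rfl
    rwa [e2] at h1
  refine ⟨(D3.cj g⁻¹ D).subgroupOf (centralizer ({z} : Set G)), hD'.comp, ?_⟩
  have hc1 : Nat.card ↥((D3.cj g⁻¹ D).subgroupOf (centralizer ({z} : Set G))) = Nat.card D := by
    rw [Nat.card_congr (Subgroup.subgroupOfEquivOfLe hD'.le).toEquiv, D3.card_cj]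
  have hc2 : Nat.card ↥(L.map (centralizer ({z} : Set G)).subtype) = Nat.card L :=
    Nat.card_congr (L.equivMapOfInjective _ (centralizer ({z} : Set G)).subtype_injective).toEquiv.symm
  rw [hc1, ← hc2]
  rcases hcase with e | hlt | ⟨h4, -, h6⟩
  · exfalso
    have hyLm : y ∈ L := by
      have h1 : (y : G) ∈ L.map (centralizer ({z} : Set G)).subtype := by rw [e]; exact hyD
      obtain ⟨y0, hy0, e0⟩ := h1
      have : y0 = y := Subtype.ext e0
      rwa [this] at hy0
    have hyl : ∀ x ∈ layer ↥(centralizer ({z} : Set G)), y * x = x * y := by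
      intro x hx
      have h1 : layer ↥(centralizer ({z} : Set G)) ≤ centralizer ({y} : Set ↥(centralizer ({z} : Set G))) := by
        rw [layer_le_iff]
        intro K hK k hk
        rw [mem_centralizer_singleton_iff]
        by_cases e : K = L
        · subst e; exact hyL k hk
        · exact Cfsg.Agent.Cit.Comp.comm_of_ne hK hL e hk hyLm
      exact (mem_centralizer_singleton_iff.1 (h1 hx)).symm
    have hLn : (layer ↥(centralizer ({z} : Set G))).Normal := layer_normal ↥(centralizer ({z} : Set G))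
    let W : Subgroup ↥(centralizer ({z} : Set G)) :=
      { carrier := {w | w ∈ layer ↥(centralizer ({z} : Set G)) ∧ (∀ x ∈ layer ↥(centralizer ({z} : Set G)), w * x = x * w) ∧ w * w = 1}
        one_mem' := ⟨one_mem _, fun x _ => by rw [one_mul, mul_one], one_mul 1⟩
        mul_mem' := by
          rintro a b ⟨ha, ha', haa⟩ ⟨hb, hb', hbb⟩
          refine ⟨mul_mem ha hb, fun x hx => ?_, ?_⟩
          · have c1 : Commute a x := ha' x hx
            have c2 : Commute b x := hb' x hx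
            exact (c1.mul_left c2).eq
          · calc a * b * (a * b) = a * (b * a) * b := by group
              _ = a * (a * b) * b := by rw [ha' b hb]
              _ = (a * a) * (b * b) := by group
              _ = 1 := by rw [haa, hbb, one_mul]
        inv_mem' := by
          rintro a ⟨ha, ha', haa⟩
          have e : a⁻¹ = a := inv_eq_of_mul_eq_one_right haa
          rw [e]
          exact ⟨ha, ha', haa⟩ }
    have hWn : W.Normal := by
      refine ⟨?_⟩
      rintro w ⟨hw, hw', hww⟩ g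
      refine ⟨hLn.conj_mem w hw g, fun x hx => ?_, ?_⟩
      · have h1 : g⁻¹ * x * g ∈ layer ↥(centralizer ({z} : Set G)) := by
          have := hLn.conj_mem x hx g⁻¹
          rwa [inv_inv] at this
        have h2 := hw' _ h1
        calc g * w * g⁻¹ * x = g * (w * (g⁻¹ * x * g)) * g⁻¹ := by group
          _ = g * ((g⁻¹ * x * g) * w) * g⁻¹ := by rw [h2]
          _ = x * (g * w * g⁻¹) := by group
      · calc g * w * g⁻¹ * (g * w * g⁻¹) = g * (w * w) * g⁻¹ := by group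
          _ = 1 := by rw [hww]; group
    rcases elem W hWn (fun w hw => hw.2.2) y ⟨component_le_layer hL hyLm, hyl, hyy⟩ with e | e
    · exact hy1 e
    · exact hyz e
  · exact lt_of_le_of_ne (Subgroup.card_le_of_le hlt.le)
      fun e => hlt.ne (Subgroup.eq_of_le_of_card_ge hlt.le e.ge)
  · exfalso
    obtain ⟨d, hd, hzd⟩ := h6 z ⟨z', zM L hL, hz'⟩
    apply h4
    have h7 : D3.Comp (y : G) (D3.cj z D) := hD.conj_of_comm hzy
    have h8 : D3.cj z D ≤ centralizer (D : Set G) := h7.comm hD h4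
    have h9 : D3.cj (z * d * z⁻¹) D = D := D3.cj_eq_of_mem_centralizer (h8 (D3.conj_mem_cj hd))
    conv_lhs => rw [hzd]
    rw [← D3.cj_cj, h9]
    exact D3.cj_eq_of_mem hd

/-- **the field `HypB.nF`**: `R` does not centralise all the components -/
theorem nF_of [Finite G] (hb : D3.Plug.Bal G) {z : G} (hz : orderOf z = 2)
    {z' t' a₁ a₂ : ↥(centralizer ({z} : Set G))} (hz' : (z' : G) = z)
    {Q₁ Q₂ : Subgroup ↥(centralizer ({z} : Set G))} (s₁ : Side z' t' a₁ Q₁ Q₂) (s₂ : Side z' t' a₂ Q₂ Q₁)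
    (comm : ∀ x ∈ Q₁, ∀ y ∈ Q₂, x * y = y * x)
    (elem : ∀ W : Subgroup ↥(centralizer ({z} : Set G)), W.Normal → (∀ w ∈ W, w * w = 1) → ∀ w ∈ W, w = 1 ∨ w = z')
    (zM : ∀ M : Subgroup ↥(centralizer ({z} : Set G)), IsComponent M → z' ∈ M)
    {q₁ q₂ : ↥(centralizer ({z} : Set G))} (hq₁ : q₁ ∈ Q₁) (hq₂ : q₂ ∈ Q₂) (hqq₁ : q₁ * q₁ = z')
    (hqq₂ : q₂ * q₂ = z') {g : G} (hg : g * z * g⁻¹ = (q₁ : G) * q₂)
    (hex : ∃ M : Subgroup ↥(centralizer ({z} : Set G)), IsComponent M)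
    (hall : ∀ M : Subgroup ↥(centralizer ({z} : Set G)), IsComponent M →
      (∀ x ∈ Q₁, ∀ m ∈ M, x * m = m * x) ∧ ∀ x ∈ Q₂, ∀ m ∈ M, x * m = m * x) : False := by
  obtain ⟨M, hM⟩ := hex
  have key : ∀ n : ℕ, ∀ L : Subgroup ↥(centralizer ({z} : Set G)), IsComponent L →
      Nat.card ↥(centralizer ({z} : Set G)) ≤ Nat.card L + n → False := by
    intro n
    induction n with
    | zero =>
      intro L hL hc
      obtain ⟨L', -, hlt⟩ := grow hb hz hz' s₁ s₂ comm elem zM hq₁ hq₂ hqq₁ hqq₂ hg L hL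
        (fun m hm x hx => ((hall L hL).1 x hx m hm).symm) (fun m hm x hx => ((hall L hL).2 x hx m hm).symm)
      have := card_le_card_group L'
      omega
    | succ n ih =>
      intro L hL hc
      obtain ⟨L', hL', hlt⟩ := grow hb hz hz' s₁ s₂ comm elem zM hq₁ hq₂ hqq₁ hqq₂ hg L hL
        (fun m hm x hx => ((hall L hL).1 x hx m hm).symm) (fun m hm x hx => ((hall L hL).2 x hx m hm).symm)
      exact ih L' hL' (by omega)
  exact key _ M hM (Nat.le_add_left _ _)

end Cfsg.Agent.OddHalf.D6.QThree.NIB.NF
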