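import Cfsg.Agent.OddHalf.D6.QThree.NIB.FusOf
import Cfsg.Agent.OddHalf.D6.QThree.NIB.KU
import Cfsg.Agent.OddHalf.D6.QThree.NIB.End
import Cfsg.Agent.OddHalf.D6.QThree.FrontInstB

/-!
# ODD half, D6, `U₄(3)` with an outer part, NI with `B`: the end, from `HypB` (helper801)

`data`: `RefOf.Data` for every reflection; `fusT`, `hf`, `refTri`: the inputs of `NIB.End.noComp`;
`false_of_hypB`: the contradiction.
-/

set_option autoImplicit false

namespace Cfsg.Agent.OddHalf.D6.QThree.NIB.RowU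

open Subgroup Cfsg
open Cfsg.Agent.OddHalf Cfsg.Agent.OddHalf.Iface
open Cfsg.Agent.OddHalf.D6.QThree.FrontB (BA Z2 FrontK Out)
open Cfsg.Agent.OddHalf.D6.QThree.FrontLoc (Loc up)
open Cfsg.Agent.OddHalf.D6.QThree.RefData (KH DD Rf)

universe u

variable {G : Type u} [Group G] {K : Subgroup G} {t : G} {z : K} {R : Subgroup K} {i j k l a b : K}

theorem odd_of_cube {H : Type*} [Group H] {x : H} (h : x * x * x = 1) : Odd (orderOf x) := by
  have h1 : orderOf x ∣ 3 := orderOf_dvd_of_pow_eq_one (by rw [pow_succ, pow_two]; exact h)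
  exact Odd.of_dvd_nat (by decide) h1

theorem kh (f : FrontK z R i j k l a b) (L : Loc t (z : G) (R.map K.subtype) (i : G) j k l a b) :
    KH z R i j k l a b :=
  KH.of_K f (odd_of_cube (Subtype.ext L.a3)) (odd_of_cube (Subtype.ext L.b3))

/-- a reflection does not act on `K` as an element of `⟨z⟩` -/
theorem refl_K (O : Out K t (z : G)) (L : Loc t (z : G) (R.map K.subtype) (i : G) j k l a b)
    {x : ↥(centralizer ({(z : G)} : Set G))} (hx : Refl (up (z : G) z rfl) (up (z : G) t L.comm) L.frX.Q₁ L.frX.Q₂ x) :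
    (x : G) * t = t * x ∧ (∀ r ∈ R, (x : G) * r = r * x) ∧ (x : G) * x = 1 ∧
      (¬ ∀ y ∈ K, (x : G) * y = y * x) ∧ ¬ ∀ y ∈ K, ((x : G) * z) * y = y * ((x : G) * z) := by
  obtain ⟨h1, h2, h3⟩ := hx
  obtain ⟨h4, h5⟩ := (L.Bt_iff x).1 h1
  have h6 : ¬ FrontLoc.T4 t (z : G) (x : G) := fun h => h3 ((L.T4_iff x).2 h)
  have hxx : (x : G) * x = 1 := congrArg Subtype.val h2
  have hzx : (x : G) * z = z * x := mem_centralizer_singleton_iff.1 x.2
  have hzz : (z : G) * z = 1 := L.fr.zz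
  refine ⟨h4, fun r hr => h5 r ⟨r, hr, rfl⟩, hxx, fun h => h6 ?_, fun h => h6 ?_⟩
  · rcases O.cK x h4 (fun y hy => (h y hy).symm) with h7 | h7
    · exact Or.inl h7
    · exact Or.inr (Or.inr (Or.inl h7))
  · have c1 : Commute (x : G) t := h4
    have c2 : Commute (z : G) t := O.Kt z z.2
    rcases O.cK (x * z) (c1.mul_left c2).eq (fun y hy => (h y hy).symm) with h7 | h7
    · right; left
      calc (x : G) = (x * z) * (z : G)⁻¹ := by group
        _ = z := by rw [h7, one_mul, inv_eq_of_mul_eq_one_right hzz]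
    · right; right; right
      calc (x : G) = (x * z) * (z : G)⁻¹ := by group
        _ = t * z := by rw [h7, inv_eq_of_mul_eq_one_right hzz]

/-- **the position of every reflection** -/
theorem data (O : Out K t (z : G)) (f : FrontK z R i j k l a b)
    (L : Loc t (z : G) (R.map K.subtype) (i : G) j k l a b) (rf : Rf z R)
    {x : ↥(centralizer ({(z : G)} : Set G))} (hx : Refl (up (z : G) z rfl) (up (z : G) t L.comm) L.frX.Q₁ L.frX.Q₂ x) :
    ∃ (E : Subgroup G) (F : Type) (_ : Field F) (_ : Fintype F),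
      RefOf.Data t (z : G) (x : G) ((DD i j k l a b).map K.subtype) (R.map K.subtype) E F := by
  obtain ⟨h1, h2, h3, h4, h5⟩ := refl_K O L hx
  obtain ⟨E, F, i1, i2, hD, -⟩ := RefData.data O.tt O.t1 O.Kt O.nK (kh f L) rf h3 h1 h2 h4 h5
  exact ⟨E, F, i1, i2, hD⟩

/-- every reflection `x` is conjugate to `xz` -/
theorem move (O : Out K t (z : G)) (L : Loc t (z : G) (R.map K.subtype) (i : G) j k l a b) (mv : KU.Mv z R)
    {x : ↥(centralizer ({(z : G)} : Set G))} (hx : Refl (up (z : G) z rfl) (up (z : G) t L.comm) L.frX.Q₁ L.frX.Q₂ x) :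
    ∃ p : G, p * t = t * p ∧ p * (z : G) = z * p ∧ p * (x : G) * p⁻¹ = x * z := by
  obtain ⟨h1, h2, h3, h4, h5⟩ := refl_K O L hx
  have hzx : (x : G) * z = z * x := mem_centralizer_singleton_iff.1 x.2
  have hzz : (z : G) * z = 1 := L.fr.zz
  have hzi : (z : G)⁻¹ = z := inv_eq_of_mul_eq_one_right hzz
  have hxn := O.nK x h1
  have hα : ∀ y : K, ((K.normalizerMonoidHom ⟨x, hxn⟩ y : K) : G) = x * y * (x : G)⁻¹ := fun _ => rfl
  obtain ⟨p, hp, hpx⟩ := mv (K.normalizerMonoidHom ⟨x, hxn⟩) (fun r hr => Subtype.ext (by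
      rw [hα, h2 r hr, mul_inv_cancel_right])) (by
    rintro (h | h)
    · apply h4
      intro y hy
      have h6 := hα ⟨y, hy⟩
      rw [h] at h6
      have h7 : y = x * y * (x : G)⁻¹ := h6
      exact (eq_mul_inv_iff_mul_eq.1 h7).symm
    · apply h5
      intro y hy
      have h6 := hα ⟨y, hy⟩
      rw [h] at h6
      have h7 : (z : G) * y * (z : G)⁻¹ = x * y * (x : G)⁻¹ := h6
      have h8 : (x : G) * y = z * y * (z : G)⁻¹ * x := by rw [h7]; group
      calc (x : G) * z * y = z * (x * y) := by rw [hzx, mul_assoc]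
        _ = z * (z * y * (z : G)⁻¹ * x) := by rw [h8]
        _ = (z * z) * y * ((z : G)⁻¹ * x) := by group
        _ = y * (x * z) := by rw [hzz, hzi, one_mul, hzx])
  refine ⟨p, O.Kt p p.2, congrArg Subtype.val hp, ?_⟩
  have h6 := hα p
  rw [hpx] at h6
  have h7 : (z : G) * p = x * p * (x : G)⁻¹ := h6
  have h8 : (z : G) * p * x = x * p := eq_mul_inv_iff_mul_eq.1 h7
  calc (p : G) * x * (p : G)⁻¹ = (z : G)⁻¹ * (z * p * x) * (p : G)⁻¹ := by group
    _ = (z : G)⁻¹ * (x * p) * (p : G)⁻¹ := by rw [h8]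
    _ = (z : G)⁻¹ * x := by group
    _ = x * z := by rw [hzi, hzx]

theorem hR (L : Loc t (z : G) (R.map K.subtype) (i : G) j k l a b) :
    ∀ r ∈ R.map K.subtype, ∃ x ∈ L.frX.Q₁, ∃ y ∈ L.frX.Q₂, r = (x : G) * y := by
  intro r hr
  obtain ⟨x, hx, y, hy, e⟩ := L.exists_mulR hr
  have hX : ∀ r ∈ R.map K.subtype, r * z = z * r := fun r hr => L.Dz r (L.RD hr)
  exact ⟨up (z : G) x (hX x (L.Q₁R hx)), (L.mem₁ _).2 hx, up (z : G) y (hX y (L.Q₂R hy)), (L.mem₂ _).2 hy, e⟩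

variable {a₁ a₂ : ↥(centralizer ({(z : G)} : Set G))}

/-- (F) -/
theorem fusT (O : Out K t (z : G)) (L : Loc t (z : G) (R.map K.subtype) (i : G) j k l a b) (kf : KFOf.KFK z R)
    (h : HypB (up (z : G) z rfl) (up (z : G) t L.comm) a₁ a₂ L.frX.Q₁ L.frX.Q₂) :
    FusT (up (z : G) z rfl) (up (z : G) t L.comm) L.frX.Q₁ L.frX.Q₂ := by
  obtain ⟨s, hs, hsz⟩ := L.s
  exact FusOf.fusT_of h rfl (hR L) (kf.kf (Subtype.ext L.fr.zz) (fun e => L.fr.z1 (congrArg Subtype.val e)) O.Kt) hs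
    (FusOf.norm_R L hs hsz)

theorem hf (O : Out K t (z : G)) (L : Loc t (z : G) (R.map K.subtype) (i : G) j k l a b) (kf : KFOf.KFK z R)
    (h : HypB (up (z : G) z rfl) (up (z : G) t L.comm) a₁ a₂ L.frX.Q₁ L.frX.Q₂) :
    ∃ q₁ ∈ L.frX.Q₁, ∃ q₂ ∈ L.frX.Q₂, q₁ * q₁ = up (z : G) z rfl ∧ q₂ * q₂ = up (z : G) z rfl ∧
      ∃ g : G, g * z * g⁻¹ = (q₁ : G) * q₂ :=
  FusOf.hf_of (c := up (z : G) t L.comm) h rfl (hR L) (kf.kf (t := t) (Subtype.ext L.fr.zz) (fun e => L.fr.z1 (congrArg Subtype.val e)) O.Kt)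

theorem refTri (C : Ctx G) (hS : Pump.SpOrd.{u}) (S : Std G K) (hN : ∀ b : G, orderOf b = 2 → ∀ L : Subgroup G, CompOf b L → ¬ NI3.HasY ↥L)
    (hU : ∃ (F : Type) (_ : Field F) (_ : Fintype F), Fintype.card F = 9 ∧ Nonempty (K ≃* PSU 4 F 3))
    (O : Out K t (z : G)) (f : FrontK z R i j k l a b) (L : Loc t (z : G) (R.map K.subtype) (i : G) j k l a b)
    (kf : KFOf.KFK z R) (rf : Rf z R) (mv : KU.Mv z R)
    (h : HypB (up (z : G) z rfl) (up (z : G) t L.comm) a₁ a₂ L.frX.Q₁ L.frX.Q₂) (h₁ : (a₁ : G) = a)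
    (h₂ : (a₂ : G) = b) : Two.RefTri (up (z : G) z rfl) (up (z : G) t L.comm) L.frX.Q₁ L.frX.Q₂ := by
  have hRD : R.map K.subtype ≤ (DD i j k l a b).map K.subtype := Subgroup.map_mono (kh f L).RD
  have hcard : Nat.card K = 3265920 := by
    obtain ⟨F, _, _, hF, ⟨e⟩⟩ := hU
    have : Fact (Nat.Prime 3) := ⟨Nat.prime_three⟩
    have : CharP F 3 := charP_of_card_eq_prime_pow (f := 2) (by rw [hF]; norm_num)
    rw [Nat.card_congr e.toEquiv, U43Tw.card_K hF]; norm_num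
  refine FusOf.refTri_of C hS S (by rw [hcard]; norm_num) hN hU f.toBase kf O.Kt L.nR
    (D := (DD i j k l a b).map K.subtype) h rfl rfl (hR L) ?_ ?_ ?_ ?_ (fun x hx => data O f L rf hx)
    (fun x hx => move O L mv hx)
  · intro q hq
    exact hRD (L.Q₁R ((L.mem₁ q).1 hq))
  · intro q hq
    exact hRD (L.Q₂R ((L.mem₂ q).1 hq))
  · rw [h₁]
    exact ⟨a, subset_closure (by simp), rfl⟩
  · rw [h₂]
    exact ⟨b, subset_closure (by simp), rfl⟩

/-- **NI with `B`, `K = U₄(3)`** -/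
theorem false_of_hypB (hGW : SylowSp4.Hyps.GW.{u}) (I : Intr2.{u}) (hS : CaseM.IntrSign.{u}) (C : Ctx G)
    (hcy : ∀ K : Subgroup G, Std0 G K → PRankLE 2 1 ↥(centralizer (K : Set G)) → Cyc K) (hSp : Pump.SpOrd.{u})
    (S : Std G K) (hN : ∀ b : G, orderOf b = 2 → ∀ L : Subgroup G, CompOf b L → ¬ NI3.HasY ↥L)
    (hU : ∃ (F : Type) (_ : Field F) (_ : Fintype F), Fintype.card F = 9 ∧ Nonempty (K ≃* PSU 4 F 3))
    (O : Out K t (z : G)) (f : FrontK z R i j k l a b) (L : Loc t (z : G) (R.map K.subtype) (i : G) j k l a b)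
    (kf : KFOf.KFK z R) (rf : Rf z R) (mv : KU.Mv z R)
    (h : HypB (up (z : G) z rfl) (up (z : G) t L.comm) a₁ a₂ L.frX.Q₁ L.frX.Q₂) (h₁ : (a₁ : G) = a)
    (h₂ : (a₂ : G) = b) : False :=
  End.noComp hGW I hS C hcy (orderOf_eq_prime (by rw [pow_two]; exact L.fr.zz) L.fr.z1) rfl h (hf O L kf h)
    (fusT O L kf h) (refTri C hSp S hN hU O f L kf rf mv h h₁ h₂)

end Cfsg.Agent.OddHalf.D6.QThree.NIB.RowU
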